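import Mathlib

/-!
Integer vectors without zero entries with square sum at most sixteen (helper85).
-/

set_option autoImplicit false

namespace H85.AbTwo

open Finset

variable {ι : Type*}

/-- The numbers of entries of each absolute value. -/
theorem sq_counts (s : Finset ι) (f : ι → ℤ) (hne : ∀ i ∈ s, f i ≠ 0) (i₀ : ι) (hi₀ : i₀ ∈ s)
    (h₀ : f i₀ = 1) {N : ℕ} (hN : N ≤ 16) (h : ∑ i ∈ s, f i ^ 2 = (N : ℤ)) :
    (∀ i ∈ s, f i ^ 2 = 1 ∨ f i ^ 2 = 4 ∨ f i ^ 2 = 9) ∧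
      1 ≤ (s.filter fun i => f i ^ 2 = 1).card ∧
      (s.filter fun i => f i ^ 2 = 1).card + (s.filter fun i => f i ^ 2 = 4).card +
        (s.filter fun i => f i ^ 2 = 9).card = s.card ∧
      (s.filter fun i => f i ^ 2 = 1).card + 4 * (s.filter fun i => f i ^ 2 = 4).card +
        9 * (s.filter fun i => f i ^ 2 = 9).card = N := by
  classical
  have hall : ∀ i ∈ s, f i ^ 2 = 1 ∨ f i ^ 2 = 4 ∨ f i ^ 2 = 9 := by
    intro i hi
    rcases eq_or_ne i i₀ with rfl | hne'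
    · rw [h₀]; norm_num
    have h2 : f i₀ ^ 2 + f i ^ 2 ≤ (N : ℤ) := by
      rw [← h, ← Finset.sum_pair (f := fun j => f j ^ 2) (Ne.symm hne')]
      refine Finset.sum_le_sum_of_subset_of_nonneg ?_ fun j _ _ => sq_nonneg _
      exact Finset.insert_subset hi₀ (Finset.singleton_subset_iff.2 hi)
    rw [h₀] at h2
    have hN' : (N : ℤ) ≤ 16 := by exact_mod_cast hN
    have hb : f i ^ 2 ≤ 15 := by linarith
    have h3 : -3 ≤ f i ∧ f i ≤ 3 := by constructor <;> nlinarith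
    obtain ⟨h3, h4⟩ := h3
    have := hne i hi
    interval_cases hv : f i <;> simp_all
  refine ⟨hall, Finset.card_pos.2 ⟨i₀, by simp [hi₀, h₀]⟩, ?_, ?_⟩
  · rw [← Finset.card_union_of_disjoint, ← Finset.card_union_of_disjoint]
    · congr 1
      ext i
      simp only [Finset.mem_union, Finset.mem_filter]
      exact ⟨fun h => by tauto, fun hi => by rcases hall i hi with e | e | e <;> tauto⟩
    · rw [Finset.disjoint_union_left]
      constructor <;> exact Finset.disjoint_filter.2 fun i _ e => by rw [e]; norm_num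
    · exact Finset.disjoint_filter.2 fun i _ e => by rw [e]; norm_num
  · have e : ∀ i ∈ s, f i ^ 2 = (if f i ^ 2 = 1 then (1 : ℤ) else 0) +
        4 * (if f i ^ 2 = 4 then (1 : ℤ) else 0) + 9 * (if f i ^ 2 = 9 then (1 : ℤ) else 0) := by
      intro i hi
      rcases hall i hi with e | e | e <;> simp [e]
    rw [Finset.sum_congr rfl e, Finset.sum_add_distrib, Finset.sum_add_distrib, ← Finset.mul_sum,
      ← Finset.mul_sum, Finset.sum_boole, Finset.sum_boole, Finset.sum_boole] at h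
    exact_mod_cast h

theorem count_cases {a b c k N : ℕ} (ha : 1 ≤ a) (hk : a + b + c = k) (hN : a + 4 * b + 9 * c = N)
    (h16 : N ≤ 16) :
    (N = 4 → k = 4) ∧ (N = 8 → (k = 5 ∨ k = 8) ∧ (b = 0 → k = 8)) ∧
      (N = 16 → (k = 5 ∨ k = 7 ∨ k = 8 ∨ k = 10 ∨ k = 13 ∨ k = 16) ∧
        (b = 0 → k = 8 ∨ k = 16) ∧ (k = 13 → b = 1 ∧ c = 0) ∧ (k = 10 → b = 2 ∧ c = 0)) := by
  have hb : b ≤ 3 := by omega
  have hc : c ≤ 1 := by omega
  interval_cases b <;> interval_cases c <;> omega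

theorem sq_odd_iff {a : ℤ} (h : a ^ 2 = 4) : ¬ Odd a := by
  intro ho
  have : Odd (a ^ 2) := ho.pow
  rw [h] at this
  exact absurd this (by decide)

/-- Square sum four: four entries. -/
theorem card_four (s : Finset ι) (f : ι → ℤ) (hne : ∀ i ∈ s, f i ≠ 0) (i₀ : ι) (hi₀ : i₀ ∈ s)
    (h₀ : f i₀ = 1) (h : ∑ i ∈ s, f i ^ 2 = 4) : s.card = 4 := by
  obtain ⟨-, h1, h2, h3⟩ := sq_counts s f hne i₀ hi₀ h₀ (N := 4) (by norm_num) (by exact_mod_cast h)
  exact (count_cases h1 h2 h3 (by norm_num)).1 rfl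

/-- Square sum eight: five or eight entries, eight if all are odd. -/
theorem card_eight (s : Finset ι) (f : ι → ℤ) (hne : ∀ i ∈ s, f i ≠ 0) (i₀ : ι) (hi₀ : i₀ ∈ s)
    (h₀ : f i₀ = 1) (h : ∑ i ∈ s, f i ^ 2 = 8) :
    (s.card = 5 ∨ s.card = 8) ∧ ((∀ i ∈ s, Odd (f i)) → s.card = 8) := by
  obtain ⟨-, h1, h2, h3⟩ := sq_counts s f hne i₀ hi₀ h₀ (N := 8) (by norm_num) (by exact_mod_cast h)
  obtain ⟨hk, hb⟩ := (count_cases h1 h2 h3 (by norm_num)).2.1 rfl
  refine ⟨hk, fun hodd => hb ?_⟩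
  have h4 : (s.filter fun i => f i ^ 2 = 4) = ∅ :=
    Finset.filter_eq_empty_iff.2 fun i hi e => sq_odd_iff e (hodd i hi)
  rw [h4, Finset.card_empty]

/-- Square sum sixteen. -/
theorem card_sixteen (s : Finset ι) (f : ι → ℤ) (hne : ∀ i ∈ s, f i ≠ 0) (i₀ : ι) (hi₀ : i₀ ∈ s)
    (h₀ : f i₀ = 1) (h : ∑ i ∈ s, f i ^ 2 = 16) :
    (s.card = 5 ∨ s.card = 7 ∨ s.card = 8 ∨ s.card = 10 ∨ s.card = 13 ∨ s.card = 16) ∧
      ((∀ i ∈ s, Odd (f i)) → s.card = 8 ∨ s.card = 16) ∧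
      (s.card = 13 ∨ s.card = 10 → (∀ i ∈ s, f i ^ 2 = 1 ∨ f i ^ 2 = 4) ∧
        (s.card = 13 → (s.filter fun i => f i ^ 2 = 4).card = 1) ∧
        (s.card = 10 → (s.filter fun i => f i ^ 2 = 4).card = 2)) := by
  obtain ⟨hall, h1, h2, h3⟩ :=
    sq_counts s f hne i₀ hi₀ h₀ (N := 16) (by norm_num) (by exact_mod_cast h)
  obtain ⟨hk0, hb, h13, h10⟩ := (count_cases h1 h2 h3 (by norm_num)).2.2 rfl
  refine ⟨hk0, fun hodd => hb ?_, fun hk => ⟨fun i hi => ?_, fun e => (h13 e).1, fun e => (h10 e).1⟩⟩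
  · have h4 : (s.filter fun i => f i ^ 2 = 4) = ∅ :=
      Finset.filter_eq_empty_iff.2 fun i hi e => sq_odd_iff e (hodd i hi)
    rw [h4, Finset.card_empty]
  · rcases hall i hi with e | e | e
    · exact Or.inl e
    · exact Or.inr e
    · have h5 : 1 ≤ (s.filter fun i => f i ^ 2 = 9).card :=
        Finset.card_pos.2 ⟨i, Finset.mem_filter.2 ⟨hi, e⟩⟩
      rcases hk with hk | hk
      · have := (h13 hk).2; omega
      · have := (h10 hk).2; omega

end H85.AbTwo
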