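import Cfsg.Agent.H85.AbTwo.Classes
import Cfsg.Agent.H85.AbTwo.Squares
import Cfsg.Agent.H24.PrincipalQuot
import Cfsg.Agent.H21.Inflation
import Mathlib.GroupTheory.Transfer
import Mathlib.GroupTheory.FiniteAbelian.Duality

/-!
Reduction modulo the odd core and the case of a central involution (helper85).
-/

set_option autoImplicit false
set_option linter.style.haveILetI false
set_option linter.unusedSectionVars false

open Cfsg Finset

namespace H85.AbTwo

universe u

local notation "B₀" => fun M => principalBlock M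

/-- The image of a regular element is regular if no other conjugate has the same image. -/
theorem reg_map {G H : Type u} [Group G] [Finite G] [Group H] (P : Sylow 2 G) (f : G →* H)
    (hf : Function.Surjective f) {x : G} (hx : Reg (P : Subgroup G) x)
    (hfix : ∀ n ∈ Subgroup.normalizer ((P : Subgroup G) : Set G),
      f (n * x * n⁻¹) = f x → n * x * n⁻¹ = x) :
    Reg ((P : Subgroup G).map f) (f x) := by
  haveI : Fact (Nat.Prime 2) := ⟨Nat.prime_two⟩
  intro m hm hmx
  rw [← H25.RealOdd.map_normalizer_sylow 2 f hf P] at hm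
  obtain ⟨n, hn, rfl⟩ := hm
  have hc := hx n hn (hfix n hn (by simpa using hmx))
  rintro _ ⟨w, hw, rfl⟩
  rw [← map_mul, ← map_mul, hc w hw]

variable {G : Type u} [Group G] [Fintype G] {M : Ideal AlgInt} [hMp : M.IsPrime]

theorem card_principal_quotient_core (hM : IsPModular 2 M) [(pPrimeCore 2 G).Normal] :
    Nat.card (principalBlock M (G ⧸ pPrimeCore 2 G)) = Nat.card (principalBlock M G) := by
  classical
  haveI : Fintype (G ⧸ pPrimeCore 2 G) := Fintype.ofFinite _
  have h := H24.sum_principalBlock_quotient (β := ℕ) hM (fun _ : IrrCharacter G => 1)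
  simp only [finsum_mem_eq_toFinset_sum, Finset.sum_const, smul_eq_mul, mul_one,
    Set.toFinset_card, ← Nat.card_eq_fintype_card] at h
  exact h.symm

/-- Everything passes to the quotient by the odd core. -/
theorem exists_reduction (hM : IsPModular 2 M) (P : Sylow 2 G) [hc : IsMulCommutative P] {x : G}
    (hx : x ∈ (P : Subgroup G)) (hx2 : orderOf x = 2) (hreg : Reg (P : Subgroup G) x) :
    ∃ (H : Type u) (_ : Group H) (_ : Fintype H) (Q : Sylow 2 H) (y : H),
      pPrimeCore 2 H = ⊥ ∧ IsMulCommutative Q ∧ Nat.card Q = Nat.card P ∧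
      y ∈ (Q : Subgroup H) ∧ orderOf y = 2 ∧ Reg (Q : Subgroup H) y ∧
      Nat.card (principalBlock M H) = Nat.card (principalBlock M G) := by
  classical
  haveI : Fact (Nat.Prime 2) := ⟨Nat.prime_two⟩
  haveI hn := H1.pPrimeCore_normal' 2 G
  set O := pPrimeCore 2 G
  let f := QuotientGroup.mk' O
  have hf : Function.Surjective f := QuotientGroup.mk'_surjective O
  have hdisj : ∀ w ∈ (P : Subgroup G), f w = 1 → w = 1 := by
    intro w hw h
    have hwO : w ∈ O := (QuotientGroup.eq_one_iff w).1 h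
    have h1 : orderOf w ∣ Nat.card O := Subgroup.orderOf_dvd_natCard _ hwO
    obtain ⟨k, hk⟩ := orderOf_pow_mem P hw
    have hodd : Nat.Coprime (orderOf w) (Nat.card O) := by
      rw [hk]
      exact Nat.Coprime.pow_left _ (H1.card_pPrimeCore_coprime 2 G).symm
    exact orderOf_eq_one_iff.1 (Nat.eq_one_of_dvd_coprimes hodd dvd_rfl h1)
  have hinj : Function.Injective (f.comp (P : Subgroup G).subtype) := by
    rw [injective_iff_map_eq_one]
    intro w hw
    exact Subtype.ext (hdisj w w.2 hw)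
  let Q : Sylow 2 (G ⧸ O) := P.mapSurjective hf
  have hQ : (Q : Subgroup (G ⧸ O)) = (P : Subgroup G).map f := Sylow.coe_mapSurjective hf P
  refine ⟨G ⧸ O, inferInstance, Fintype.ofFinite _, Q, f x, ?_, ⟨⟨fun a b => Subtype.ext ?_⟩⟩, ?_,
    ?_, ?_, ?_, card_principal_quotient_core hM⟩
  · exact H1.pPrimeCore_quotient_pPrimeCore 2
  · obtain ⟨a', ha', ea⟩ := (hQ ▸ a.2 : (a : G ⧸ O) ∈ (P : Subgroup G).map f)
    obtain ⟨b', hb', eb⟩ := (hQ ▸ b.2 : (b : G ⧸ O) ∈ (P : Subgroup G).map f)
    show (a : G ⧸ O) * b = b * a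
    have e : a' * b' = b' * a' := congrArg Subtype.val (hc.is_comm.comm ⟨a', ha'⟩ ⟨b', hb'⟩)
    rw [← ea, ← eb, ← map_mul, ← map_mul, e]
  · show Nat.card (Q : Subgroup (G ⧸ O)) = Nat.card (P : Subgroup G)
    rw [hQ]
    rw [Nat.card_congr (MonoidHom.ofInjective hinj).toEquiv, MonoidHom.range_comp,
      Subgroup.range_subtype]
  · rw [hQ]; exact ⟨x, hx, rfl⟩
  · refine orderOf_eq_prime ?_ fun h => ?_
    · rw [← map_pow, ← hx2, pow_orderOf_eq_one, map_one]
    · have := hdisj x hx h
      rw [this, orderOf_one] at hx2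
      norm_num at hx2
  · rw [hQ]
    refine reg_map P f hf hreg fun n hn h => ?_
    have hm : n * x * n⁻¹ * x⁻¹ ∈ (P : Subgroup G) :=
      mul_mem ((Subgroup.mem_normalizer_iff.1 hn x).1 hx) (inv_mem hx)
    exact mul_inv_eq_one.1 (hdisj _ hm (by rw [map_mul, map_inv, h, mul_inv_cancel]))

variable (P : Sylow 2 G) [hc : IsMulCommutative P]

/-- The column facts of a regular involution. -/
theorem column_data (hM : IsPModular 2 M) {x : G} (hx : x ∈ (P : Subgroup G))
    (hx2 : orderOf x = 2) (hreg : Reg (P : Subgroup G) x) :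
    H12.oneIrr G ∈ H22.blockFinset (principalBlock M G) ∧
      (H22.blockFinset (principalBlock M G)).card = Nat.card (principalBlock M G) ∧
      (∀ χ ∈ H22.blockFinset (principalBlock M G), dv x χ ≠ 0) ∧
      ∑ χ ∈ H22.blockFinset (principalBlock M G), dv x χ ^ 2 =
        (Nat.card (P : Subgroup G) : ℤ) :=
  ⟨H22.mem_blockFinset.2 (H20.mem_blockOf_self (H12.oneIrr G)), (by
      rw [Nat.card_coe_set_eq, ← Set.ncard_coe_finset]
      congr 1
      ext χ
      simp [H22.mem_blockFinset]),
    fun χ hχ => dv_ne_zero P hM hx hx2 hreg (H22.mem_blockFinset.1 hχ),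
    sum_dv_sq P hM hx hx2 hreg⟩

/-- An abelian Sylow 2-subgroup of order four. -/
theorem card_of_four (hM : IsPModular 2 M) {x : G} (hx : x ∈ (P : Subgroup G))
    (hx2 : orderOf x = 2) (hreg : Reg (P : Subgroup G) x)
    (hP : Nat.card (P : Subgroup G) = 4) : Nat.card (principalBlock M G) = 4 := by
  obtain ⟨h1, hk, hne, hsum⟩ := column_data P hM hx hx2 hreg
  rw [hP] at hsum
  rw [← hk]
  exact card_four _ _ hne _ h1 (dv_one hx2) (by exact_mod_cast hsum)

/-- A central involution and a Sylow subgroup of order eight. -/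
theorem card_of_central_eight (hM : IsPModular 2 M) {x : G} (hx : x ∈ (P : Subgroup G))
    (hx2 : orderOf x = 2) (hreg : Reg (P : Subgroup G) x) {z : G} (hz : z ∈ Subgroup.center G)
    (hz2 : orderOf z = 2) (hzP : z ∈ (P : Subgroup G))
    (hP : Nat.card (P : Subgroup G) = 8) : Nat.card (principalBlock M G) = 8 := by
  obtain ⟨h1, hk, hne, hsum⟩ := column_data P hM hx hx2 hreg
  rw [hP] at hsum
  obtain ⟨h, -⟩ := card_eight _ _ hne _ h1 (dv_one hx2) (by exact_mod_cast hsum)
  have heven := even_card_of_central P hM hz hz2 hzP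
  omega

/-- A linear character of 2-power order lies in the principal block. -/
theorem linIrr_mem_principal (hM : IsPModular 2 M) (l : G →* ℂˣ) {j : ℕ}
    (hl : ∀ g, l g ^ (2 ^ j) = 1) : H12.linIrr l ∈ principalBlock M G := by
  intro g
  have hval : ∀ w : ℂ, w ^ 2 ^ j = 1 → MemLocalIdeal M (w - 1) := by
    intro w hw
    haveI : Fact (Nat.Prime 2) := ⟨Nat.prime_two⟩
    have hR : MemLocalRing M w := H20.memRing_of_pow_eq_one (by positivity) hw
    have h := H20.red_eq_one_of_pow_p_pow hM (w := (⟨w, hR⟩ : H20.O M)) (j := j)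
      (Subtype.ext (by simpa using hw))
    rw [← map_one (H20.red M), H20.red_eq_red_iff] at h
    exact h
  have e : centralChar (fun _ : G => (1 : ℂ)) g - centralChar (H12.linIrr l : G → ℂ) g =
      (-((Subgroup.centralizer ({g} : Set G)).index : ℂ)) * ((l g : ℂ) - 1) := by
    simp only [centralChar, H12.linIrr_apply, map_one, Units.val_one, div_one]
    ring
  rw [e]
  exact H20.memIdeal_mul (H20.memRing_neg (H20.memRing_natCast _))
    (hval _ (by rw [← Units.val_pow_eq_pow_val, hl, Units.val_one]))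

/-- A central involution of `P` is `-1` in some linear character of 2-power order. -/
theorem exists_linear_central {z : G} (hz : z ∈ Subgroup.center G) (hz2 : orderOf z = 2)
    (hzP : z ∈ (P : Subgroup G)) :
    ∃ (l : G →* ℂˣ) (j : ℕ), (∀ g, l g ^ (2 ^ j) = 1) ∧ (l z : ℂ) = -1 := by
  classical
  haveI : Fact (Nat.Prime 2) := ⟨Nat.prime_two⟩
  letI : CommGroup (P : Subgroup G) :=
    { (inferInstance : Group (P : Subgroup G)) with mul_comm := hc.is_comm.comm }
  let z' : (P : Subgroup G) := ⟨z, hzP⟩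
  have hz1 : z ≠ 1 := fun h => by rw [h, orderOf_one] at hz2; norm_num at hz2
  obtain ⟨φ, hφ⟩ := CommGroup.exists_apply_ne_one_of_hasEnoughRootsOfUnity (P : Subgroup G) ℂ
    (a := z') (fun h => hz1 (congrArg Subtype.val h))
  obtain ⟨j, hj⟩ := IsPGroup.iff_card.1 P.isPGroup'
  let T : G →* (P : Subgroup G) := MonoidHom.transfer (MonoidHom.id (P : Subgroup G))
  refine ⟨φ.comp T, j, fun g => ?_, ?_⟩
  · rw [MonoidHom.comp_apply, ← map_pow, ← hj, pow_card_eq_one', map_one]
  have key : ∀ (k : ℕ) (g₀ : G), g₀⁻¹ * z ^ k * g₀ ∈ (P : Subgroup G) →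
      g₀⁻¹ * z ^ k * g₀ = z ^ k := fun k g₀ _ => by
    rw [mul_assoc, ← Subgroup.mem_center_iff.1 (pow_mem hz k) g₀, inv_mul_cancel_left]
  have hT : T z = z' := by
    rw [MonoidHom.transfer_eq_pow _ _ key]
    apply Subtype.ext
    show z ^ (P : Subgroup G).index = z
    obtain ⟨m, hm⟩ := odd_index P
    rw [hm, pow_succ, pow_mul, ← hz2, pow_orderOf_eq_one, one_pow, one_mul]
  rw [MonoidHom.comp_apply, hT]
  have hsq : (φ z' : ℂ) * (φ z' : ℂ) = 1 := by
    rw [← Units.val_mul, ← map_mul, show z' * z' = 1 from Subtype.ext (by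
      show z * z = 1
      rw [← pow_two, ← hz2, pow_orderOf_eq_one]), map_one, Units.val_one]
  exact (mul_self_eq_one_iff.1 hsq).resolve_left fun h => hφ (Units.ext h)

end H85.AbTwo
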