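import Cfsg.Agent.H85.AbTwo.Squares

/-!
A lower bound for the cubic sum over an integral column of square sum eight or sixteen whose
negative entries belong to large degrees (helper85).
-/

set_option autoImplicit false

namespace H85.AbTwo

open Finset

variable {ι : Type*}

/-- The cubic sum exceeds the bound coming from the count of pairs. -/
theorem cubic_bound (s : Finset ι) (d f : ι → ℤ) (i₀ : ι) (hi₀ : i₀ ∈ s) (h₀ : d i₀ = 1)
    (hf₀ : f i₀ = 1) (hne : ∀ i ∈ s, d i ≠ 0) (hpos : ∀ i ∈ s, 0 < f i) {R : ℕ}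
    (hR : R = 8 ∨ R = 16)
    (hneg : ∀ i ∈ s, d i < 0 → ((R : ℤ) - 1) * (-d i) + R ≤ f i)
    (hsum : ∑ i ∈ s, d i ^ 2 = (R : ℤ)) :
    ((R : ℚ) * ((R : ℚ) - 2)) / (((R : ℚ) - 1) * (3 * R + 1)) <
      ∑ i ∈ s, (d i : ℚ) ^ 3 / f i := by
  classical
  obtain ⟨hall, ha, -, hN⟩ := sq_counts s d hne i₀ hi₀ h₀ (N := R)
    (by rcases hR with rfl | rfl <;> norm_num) hsum
  let β : ι → ℚ := fun i =>
    (if d i ^ 2 = 1 then 1 / (2 * (R : ℚ) - 1) else 0) +
      (if d i ^ 2 = 4 then 8 / (3 * (R : ℚ) - 2) else 0) +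
      (if d i ^ 2 = 9 then 27 / (4 * (R : ℚ) - 3) else 0)
  have hR8 : (8 : ℚ) ≤ R := by rcases hR with rfl | rfl <;> norm_num
  have hβ : ∀ i ∈ s, -(β i) ≤ (d i : ℚ) ^ 3 / f i := by
    intro i hi
    have hfi : (0 : ℚ) < f i := by exact_mod_cast hpos i hi
    have hβ0 : 0 ≤ β i := by
      simp only [β]
      split_ifs <;> first | positivity |
        (repeat' apply add_nonneg) <;> first | exact le_rfl | (apply div_nonneg <;> linarith)
    rcases lt_or_ge (d i) 0 with hd | hd
    · have hfl : ((R : ℚ) - 1) * (-(d i : ℚ)) + R ≤ f i := by exact_mod_cast hneg i hi hd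
      have hcases : d i = -1 ∨ d i = -2 ∨ d i = -3 := by
        have hb : -3 ≤ d i := by rcases hall i hi with e | e | e <;> nlinarith
        omega
      rw [le_div_iff₀ hfi]
      rcases hcases with e | e | e
      · have hb : β i = 1 / (2 * (R : ℚ) - 1) := by simp [β, e]
        rw [e] at hfl
        rw [e, hb]
        push_cast at hfl ⊢
        rw [neg_mul, neg_le, div_mul_eq_mul_div, le_div_iff₀ (by linarith)]
        nlinarith
      · have hb : β i = 8 / (3 * (R : ℚ) - 2) := by simp [β, e]
        rw [e] at hfl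
        rw [e, hb]
        push_cast at hfl ⊢
        rw [neg_mul, neg_le, div_mul_eq_mul_div, le_div_iff₀ (by linarith)]
        nlinarith
      · have hb : β i = 27 / (4 * (R : ℚ) - 3) := by simp [β, e]
        rw [e] at hfl
        rw [e, hb]
        push_cast at hfl ⊢
        rw [neg_mul, neg_le, div_mul_eq_mul_div, le_div_iff₀ (by linarith)]
        nlinarith
    · exact (neg_nonpos.2 hβ0).trans (div_nonneg (by positivity) hfi.le)
  have hsplit : ∑ i ∈ s, (d i : ℚ) ^ 3 / f i ≥ 1 + β i₀ - ∑ i ∈ s, β i := by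
    rw [← Finset.add_sum_erase _ _ hi₀, ← Finset.add_sum_erase _ β hi₀, h₀, hf₀]
    have := Finset.sum_le_sum (s := s.erase i₀) fun i hi => hβ i (Finset.mem_of_mem_erase hi)
    rw [Finset.sum_neg_distrib] at this
    norm_num
    linarith
  have hβs : ∑ i ∈ s, β i =
      ((s.filter fun i => d i ^ 2 = 1).card : ℚ) / (2 * (R : ℚ) - 1) +
      8 * ((s.filter fun i => d i ^ 2 = 4).card : ℚ) / (3 * (R : ℚ) - 2) +
      27 * ((s.filter fun i => d i ^ 2 = 9).card : ℚ) / (4 * (R : ℚ) - 3) := by
    simp only [β, Finset.sum_add_distrib, ← Finset.sum_filter, Finset.sum_const, nsmul_eq_mul]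
    ring
  have hb0 : β i₀ = 1 / (2 * (R : ℚ) - 1) := by simp [β, h₀]
  rw [hβs, hb0] at hsplit
  refine lt_of_lt_of_le ?_ hsplit
  generalize (s.filter fun i => d i ^ 2 = 1).card = a at ha hN
  generalize (s.filter fun i => d i ^ 2 = 4).card = b at hN
  generalize (s.filter fun i => d i ^ 2 = 9).card = c at hN
  rcases hR with rfl | rfl
  · have hb : b ≤ 1 := by omega
    have hc : c = 0 := by omega
    subst hc
    interval_cases b
    · obtain rfl : a = 8 := by omega
      norm_num
    · obtain rfl : a = 4 := by omega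
      norm_num
  · have hb : b ≤ 3 := by omega
    have hc : c ≤ 1 := by omega
    interval_cases c
    · interval_cases b
      · obtain rfl : a = 16 := by omega
        norm_num
      · obtain rfl : a = 12 := by omega
        norm_num
      · obtain rfl : a = 8 := by omega
        norm_num
      · obtain rfl : a = 4 := by omega
        norm_num
    · have hb' : b ≤ 1 := by omega
      interval_cases b
      · obtain rfl : a = 7 := by omega
        norm_num
      · obtain rfl : a = 3 := by omega
        norm_num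

end H85.AbTwo
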