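import Cfsg.Agent.H85.AbTwo.Pairs
import Cfsg.Agent.H24.CharBasic
import Cfsg.Agent.H12.Products
import Cfsg.Agent.H10.Offender

/-!
The cubic sum over the principal column is bounded through the pairs of involutions (helper85).
-/

set_option autoImplicit false
set_option linter.style.haveILetI false
set_option linter.unusedSectionVars false

open Cfsg Finset
open scoped ComplexConjugate

namespace H85.AbTwo

universe u

variable {G : Type u} [Group G] [Fintype G] {M : Ideal AlgInt} [hMp : M.IsPrime]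

local notation "C[" x "]" => (Subgroup.centralizer ({x} : Set _))

namespace OneClass

variable {P : Sylow 2 G} {W : Subgroup G} {x : G} {w : ℕ} (h : OneClass P W x w)

include h

theorem x_ne_one : x ≠ 1 := fun e => by
  have := h.invol; rw [e, orderOf_one] at this; norm_num at this

theorem one_class {g : G} (hg : ∃ k : ℕ, orderOf g = 2 ^ k) (hg1 : g ≠ 1) : IsConj g x := by
  haveI : Fact (Nat.Prime 2) := ⟨Nat.prime_two⟩
  obtain ⟨u, hu, hgu⟩ := H20.FreeSylow.exists_isConj_mem (P := P) hg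
  refine hgu.trans (h.fuse u hu fun h1 => ?_).symm
  rw [h1, isConj_one_left] at hgu
  exact hg1 hgu

theorem sup_odd_le {u : G} (hu : u ∈ (P : Subgroup G) ⊔ W) (hodd : ¬ 2 ∣ orderOf u) : u ∈ W := by
  haveI : Fact (Nat.Prime 2) := ⟨Nat.prime_two⟩
  set L := (P : Subgroup G) ⊔ W with hL
  haveI : (W.subgroupOf L).Normal :=
    Subgroup.normal_subgroupOf_of_le_normalizer (sup_le h.nrm Subgroup.le_normalizer)
  rw [hL, ← SetLike.mem_coe,
    Subgroup.coe_mul_of_left_le_normalizer_right _ _ h.nrm] at hu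
  obtain ⟨q, hq, k, hk, rfl⟩ := hu
  let f := QuotientGroup.mk' (W.subgroupOf L)
  let q' : L := ⟨q, Subgroup.mem_sup_left hq⟩
  let u' : L := ⟨q * k, mul_mem (Subgroup.mem_sup_left hq) (Subgroup.mem_sup_right hk)⟩
  have e : f u' = f q' := by
    have e1 : u' = q' * ⟨k, Subgroup.mem_sup_right hk⟩ := rfl
    rw [e1, map_mul, show f (⟨k, Subgroup.mem_sup_right hk⟩ : L) = 1 from
      (QuotientGroup.eq_one_iff _).2 hk, mul_one]
  have h1 : orderOf (f u') ∣ orderOf (q * k) := by
    rw [← Subgroup.orderOf_mk (q * k) u'.2]; exact orderOf_map_dvd f u'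
  have h2 : orderOf (f u') ∣ 2 := by
    rw [e]
    exact (orderOf_map_dvd f q').trans (orderOf_dvd_of_pow_eq_one (Subtype.ext (by
      rw [pow_two]; exact h.sq q hq)))
  have h3 : orderOf (f u') = 1 := Nat.eq_one_of_dvd_coprimes
    (Nat.prime_two.coprime_iff_not_dvd.2 hodd).symm h1 h2
  exact (QuotientGroup.eq_one_iff u').1 (orderOf_eq_one_iff.1 h3)

theorem card_sup :
    Nat.card ↥((P : Subgroup G) ⊔ W) = Nat.card (P : Subgroup G) * Nat.card W := by
  haveI : Fact (Nat.Prime 2) := ⟨Nat.prime_two⟩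
  have h1 := H10.card_mul_card_inf (H := (P : Subgroup G)) (K := W) h.nrm
  have hbot : (P : Subgroup G) ⊓ W = ⊥ := by
    rw [Subgroup.eq_bot_iff_forall]
    rintro v ⟨hv, hvW⟩
    rw [← orderOf_eq_one_iff]
    exact Nat.eq_one_of_dvd_coprimes (a := 2) (b := Nat.card W)
      ((Nat.prime_two.coprime_iff_not_dvd).2 h.odd)
      (orderOf_dvd_of_pow_eq_one (by rw [pow_two]; exact h.sq v hv))
      (Subgroup.orderOf_dvd_natCard _ hvW)
  rwa [hbot, Subgroup.card_bot, mul_one] at h1

theorem card_cent : Nat.card C[x] = Nat.card (P : Subgroup G) * w := by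
  haveI : Fact (Nat.Prime 2) := ⟨Nat.prime_two⟩
  haveI := h.comm
  have e : C[x] = (P : Subgroup G) ⊔ (W ⊓ C[x]) := by
    refine le_antisymm (fun c hc => ?_) (sup_le (le_cent P h.mem) inf_le_right)
    obtain ⟨k, hk, q, hq, rfl⟩ := h.cent x h.mem h.x_ne_one c hc
    exact mul_mem (Subgroup.mem_sup_right hk) (Subgroup.mem_sup_left hq)
  have hn : (P : Subgroup G) ≤ Subgroup.normalizer ((W ⊓ C[x] : Subgroup G) : Set G) := by
    intro v hv
    have hvx := mem_cent_iff.1 (le_cent P h.mem hv)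
    rw [Subgroup.mem_normalizer_iff]
    intro k
    simp only [Subgroup.mem_inf]
    refine and_congr ((Subgroup.mem_normalizer_iff.1 (h.nrm hv)) k) ?_
    rw [Subgroup.mul_mem_cancel_right _ (inv_mem (le_cent P h.mem hv)),
      Subgroup.mul_mem_cancel_left _ (le_cent P h.mem hv)]
  have h1 := H10.card_mul_card_inf (H := (P : Subgroup G)) (K := W ⊓ C[x]) hn
  have hbot : (P : Subgroup G) ⊓ (W ⊓ C[x]) = ⊥ := by
    rw [Subgroup.eq_bot_iff_forall]
    rintro v ⟨hv, hvW, -⟩
    rw [← orderOf_eq_one_iff]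
    exact Nat.eq_one_of_dvd_coprimes (a := 2) (b := Nat.card W)
      ((Nat.prime_two.coprime_iff_not_dvd).2 h.odd)
      (orderOf_dvd_of_pow_eq_one (by rw [pow_two]; exact h.sq v hv))
      (Subgroup.orderOf_dvd_natCard _ hvW)
  rw [hbot, Subgroup.card_bot, mul_one, ← e, h.card_fix x h.mem h.x_ne_one] at h1
  exact h1

theorem column_sum (hM : IsPModular 2 M) (g : G) :
    ∑ χ ∈ H22.blockFinset (principalBlock M G), (χ : G → ℂ) g * (dv x χ : ℂ) =
      if 2 ∣ orderOf g then (Nat.card (P : Subgroup G) : ℂ) else 0 := by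
  haveI : Fact (Nat.Prime 2) := ⟨Nat.prime_two⟩
  haveI := h.comm
  have hreg := h.reg x h.mem h.x_ne_one
  have e := H19.OneSec.column_apply hM (orderOf_pow_mem P h.mem) h.x_ne_one
    (fun y hy hy1 => h.one_class hy hy1) (rank_of_reg P hM h.mem hreg) g
  rw [column_norm hM P h.mem (le_cent P h.mem) (complement_of_reg P h.mem hreg)] at e
  rw [← e]
  exact Finset.sum_congr rfl fun χ _ => by rw [dv_eq h.invol, map_intCast]

open Classical in
/-- The cubic sum is bounded by the order of `W`. -/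
theorem mass_le (hM : IsPModular 2 M) :
    (∑ χ ∈ H22.blockFinset (principalBlock M G),
        (dv x χ : ℚ) ^ 3 / (H12.degree (χ : G → ℂ) : ℚ)) * (Nat.card G : ℚ) ≤
      (Nat.card (P : Subgroup G) : ℚ) * ((Nat.card (P : Subgroup G) : ℚ) *
        ((Nat.card (P : Subgroup G) - 2 : ℕ) : ℚ) * (Nat.card W : ℚ)) := by
  haveI : Fact (Nat.Prime 2) := ⟨Nat.prime_two⟩
  set R := Nat.card (P : Subgroup G) with hR
  set A : Finset G := Finset.univ.filter fun a => 2 ∣ orderOf (x * (a * x * a⁻¹)) with hA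
  set S := ∑ χ ∈ H22.blockFinset (principalBlock M G),
    (dv x χ : ℚ) ^ 3 / (H12.degree (χ : G → ℂ) : ℚ) with hS
  have hid : (S : ℂ) * (Nat.card G : ℂ) = (R : ℂ) * (A.card : ℂ) := by
    have e1 : ∑ a : G, ∑ χ ∈ H22.blockFinset (principalBlock M G),
        (χ : G → ℂ) (x * (a * x * a⁻¹)) * (dv x χ : ℂ) = (R : ℂ) * (A.card : ℂ) := by
      simp only [h.column_sum hM]
      rw [← Finset.sum_filter, Finset.sum_const, ← hA, nsmul_eq_mul, mul_comm]
    rw [← e1, Finset.sum_comm, hS]
    push_cast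
    rw [Finset.sum_mul]
    refine Finset.sum_congr rfl fun χ _ => ?_
    rw [← Finset.sum_mul, H12.irr_class_product, dv_eq h.invol, H12.irr_apply_one]
    ring
  have hid' : S * (Nat.card G : ℚ) = (R : ℚ) * (A.card : ℚ) := by exact_mod_cast hid
  -- translate into pairs of involutions
  set T : Finset (G × G) := Finset.univ.filter fun ab =>
    2 ∣ orderOf (ab.1 * x * ab.1⁻¹ * (ab.2 * x * ab.2⁻¹)) with hT
  have hTcard : Nat.card G * A.card = T.card := by
    rw [Nat.card_eq_fintype_card, ← Finset.card_univ, ← Finset.card_product]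
    have hconj : ∀ a c : G, a * x * a⁻¹ * (a * c * x * (a * c)⁻¹) =
        a * (x * (c * x * c⁻¹)) * a⁻¹ := fun a c => by group
    refine Finset.card_bij (fun ac _ => (ac.1, ac.1 * ac.2)) ?_ ?_ ?_
    · rintro ⟨a, c⟩ hac
      simp only [hA, hT, Finset.mem_product, Finset.mem_filter, Finset.mem_univ, true_and] at hac ⊢
      rwa [hconj, H20.orderOf_conj']
    · rintro ⟨a, c⟩ _ ⟨a', c'⟩ _ e
      obtain ⟨rfl, e2⟩ := Prod.mk.inj e
      exact Prod.ext rfl (mul_left_cancel e2)
    · rintro ⟨a, b⟩ hab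
      refine ⟨(a, a⁻¹ * b), ?_, by simp⟩
      simp only [hA, hT, Finset.mem_product, Finset.mem_filter, Finset.mem_univ, true_and] at hab ⊢
      rw [← H20.orderOf_conj' a, ← hconj]
      simpa using hab
  have hTle : T.card ≤ Nat.card C[x] * Nat.card C[x] * h.pairs.card := by
    refine (Finset.card_le_mul_card_image (f := fun ab : G × G =>
      (ab.1 * x * ab.1⁻¹, ab.2 * x * ab.2⁻¹)) T (Nat.card C[x] * Nat.card C[x])
        fun ij hij => ?_).trans (Nat.mul_le_mul_left _ (Finset.card_le_card ?_))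
    · obtain ⟨⟨a₀, b₀⟩, -, e₀⟩ := Finset.mem_image.1 hij
      subst e₀
      have hC : ∀ {a a' : G}, a * x * a⁻¹ = a' * x * a'⁻¹ → a'⁻¹ * a ∈ C[x] := by
        intro a a' e
        rw [mem_cent_iff]
        calc a'⁻¹ * a * x = a'⁻¹ * (a * x * a⁻¹) * a := by group
          _ = a'⁻¹ * (a' * x * a'⁻¹) * a := by rw [e]
          _ = x * (a'⁻¹ * a) := by group
      have hCc : Nat.card C[x] = (Finset.univ.filter fun g : G => g ∈ C[x]).card := by
        rw [Nat.card_eq_fintype_card, Fintype.card_subtype]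
      rw [hCc, ← Finset.card_product]
      refine Finset.card_le_card_of_injOn (fun ab => (a₀⁻¹ * ab.1, b₀⁻¹ * ab.2)) ?_ ?_
      · intro ab hab
        simp only [Finset.coe_filter, Set.mem_setOf_eq, Prod.mk.injEq] at hab
        simp only [Finset.coe_product, Set.mem_prod, Finset.coe_filter, Set.mem_setOf_eq,
          Finset.mem_univ, true_and]
        exact ⟨hC hab.2.1, hC hab.2.2⟩
      · intro ab _ cd _ e
        obtain ⟨e1, e2⟩ := Prod.mk.inj e
        exact Prod.ext (mul_left_cancel e1) (mul_left_cancel e2)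
    · intro ij hij
      obtain ⟨⟨a, b⟩, hab, rfl⟩ := Finset.mem_image.1 hij
      simp only [OneClass.pairs, hT, Finset.mem_filter, Finset.mem_univ, true_and] at hab ⊢
      exact ⟨(H20.orderOf_conj' a x).trans h.invol, (H20.orderOf_conj' b x).trans h.invol, hab⟩
  have hchain : A.card * Nat.card G ≤ Nat.card G * (R * (R - 2) * Nat.card W) := by
    calc A.card * Nat.card G = T.card := by rw [mul_comm, hTcard]
      _ ≤ Nat.card C[x] * Nat.card C[x] * h.pairs.card := hTle
      _ ≤ Nat.card C[x] * Nat.card C[x] *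
          (C[x].index * (h.pairsAt x).card) := by
        refine Nat.mul_le_mul_left _ ?_
        rw [H24.index_centralizer_eq_card]
        exact h.card_pairs_le
      _ = (Nat.card C[x] * C[x].index) * (Nat.card C[x] * (h.pairsAt x).card) := by ring
      _ = Nat.card G * (R * ((h.pairsAt x).card * w)) := by
        rw [Subgroup.card_mul_index, h.card_cent, ← hR]; ring
      _ ≤ Nat.card G * (R * ((R - 2) * Nat.card W)) :=
        Nat.mul_le_mul_left _ (Nat.mul_le_mul_left _ h.card_pairsAt_mul)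
      _ = _ := by ring
  have hA' : A.card ≤ R * (R - 2) * Nat.card W :=
    Nat.le_of_mul_le_mul_left (by rwa [mul_comm] at hchain) Nat.card_pos
  rw [hid']
  refine mul_le_mul_of_nonneg_left ?_ (Nat.cast_nonneg _)
  exact_mod_cast hA'

/-- A nontrivial character with negative value at `x` has large degree. -/
theorem degree_ge (hM : IsPModular 2 M) (hO : pPrimeCore 2 G = ⊥) (hW : W ≠ ⊥)
    {χ : IrrCharacter G} (hχ : χ ∈ principalBlock M G) (hd : dv x χ < 0) :
    ((Nat.card (P : Subgroup G) : ℤ) - 1) * (-(dv x χ)) + (Nat.card (P : Subgroup G) : ℤ) ≤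
      (H12.degree (χ : G → ℂ) : ℤ) := by
  classical
  haveI : Fact (Nat.Prime 2) := ⟨Nat.prime_two⟩
  haveI := h.comm
  set R := Nat.card (P : Subgroup G) with hR
  set f := H12.degree (χ : G → ℂ) with hf
  obtain ⟨a, ha, hdvd⟩ := H19.OneSec.exists_value P h.mem h.x_ne_one
    (fun g hg hg1 => h.one_class hg hg1) χ
  have had : a = dv x χ := by
    have e := ha.symm.trans (dv_eq h.invol χ)
    exact_mod_cast e
  subst had
  rw [← hR] at hdvd
  -- the kernel does not contain `W`
  have hker : ¬ W ≤ H24.kerChar χ := by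
    intro hle
    by_cases he : 2 ∣ Nat.card (H24.kerChar χ)
    · obtain ⟨i, hi⟩ := exists_prime_orderOf_dvd_card' 2 he
      have hi' : orderOf (i : G) = 2 := by rwa [Subgroup.orderOf_coe]
      have hx : x ∈ H24.kerChar χ := by
        obtain ⟨c, hc⟩ := _root_.isConj_iff.1 (h.isConj_of_invol hi')
        rw [← hc]
        exact (H24.kerChar_normal χ).conj_mem _ i.2 c
      have e := H24.mem_kerChar.1 hx
      rw [dv_eq h.invol, H12.irr_apply_one] at e
      have e' : dv x χ = (H12.degree (χ : G → ℂ) : ℤ) := by exact_mod_cast e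
      rw [e'] at hd
      exact absurd hd (by simp)
    · refine hW (le_bot_iff.1 (hO ▸ hle.trans (H1.le_pPrimeCore ?_)))
      exact (Nat.prime_two.coprime_iff_not_dvd.2 he).symm
  set L := (P : Subgroup G) ⊔ W with hL
  haveI : Fintype W := Fintype.ofFinite _
  haveI : Fintype L := Fintype.ofFinite _
  obtain ⟨g₀, hg₀⟩ := H24.sum_subgroup_eq (H12.isCharacter_irr χ) W
  obtain ⟨m, hm⟩ := H24.sum_subgroup_eq (H12.isCharacter_irr χ) L
  -- fixed points of `W`
  have hg : (g₀ : ℤ) < f := by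
    obtain ⟨k₀, hk₀, hk₀'⟩ := SetLike.not_le_iff_exists.1 hker
    have hbound : ∀ k : G, ((χ : G → ℂ) k).re ≤ (f : ℝ) := fun k =>
      (Complex.re_le_norm _).trans (H12.IsCharacter.norm_le (H12.isCharacter_irr χ) k)
    have hstrict : ((χ : G → ℂ) k₀).re < (f : ℝ) := by
      refine lt_of_le_of_ne (hbound k₀) fun e => hk₀' (H24.mem_kerChar.2 ?_)
      have h1 : ‖(χ : G → ℂ) k₀‖ ≤ (f : ℝ) := H12.IsCharacter.norm_le (H12.isCharacter_irr χ) k₀
      have h2 : ((χ : G → ℂ) k₀).im = 0 := by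
        have h3 := Complex.normSq_eq_norm_sq ((χ : G → ℂ) k₀)
        rw [Complex.normSq_apply] at h3
        nlinarith [norm_nonneg ((χ : G → ℂ) k₀), sq_nonneg (((χ : G → ℂ) k₀).im)]
      rw [H12.irr_apply_one]
      exact Complex.ext (by simpa using e) (by simpa using h2)
    have hlt : ∑ k : W, ((χ : G → ℂ) (k : G)).re < ∑ _k : W, (f : ℝ) :=
      Finset.sum_lt_sum (fun k _ => hbound k) ⟨⟨k₀, hk₀⟩, Finset.mem_univ _, hstrict⟩
    have hre := congrArg Complex.re hg₀
    rw [Complex.re_sum] at hre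
    rw [hre, Finset.sum_const, Finset.card_univ, nsmul_eq_mul, ← Nat.card_eq_fintype_card] at hlt
    simp only [Complex.mul_re, Complex.natCast_re, Complex.natCast_im, mul_zero, sub_zero] at hlt
    have h4 : (g₀ : ℝ) < (f : ℝ) := lt_of_mul_lt_mul_left hlt (Nat.cast_nonneg _)
    exact_mod_cast h4
  -- the value outside `W` in `L`
  have hout : ∀ u : L, (u : G) ∉ W → (χ : G → ℂ) (u : G) = (dv x χ : ℂ) := by
    intro u hu
    have h2 : 2 ∣ orderOf (u : G) := by
      by_contra hodd
      exact hu (h.sup_odd_le u.2 hodd)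
    rw [apply_of_pPart hM P h.mem (complement_of_reg P h.mem (h.reg x h.mem h.x_ne_one)) hχ
      (h.isConj_pPart h2), dv_eq h.invol]
  have hLW : ∑ u : L, (χ : G → ℂ) (u : G) = ∑ k : W, (χ : G → ℂ) (k : G) +
      ((Nat.card L : ℂ) - (Nat.card W : ℂ)) * (dv x χ : ℂ) := by
    rw [← Finset.sum_filter_add_sum_filter_not Finset.univ (fun u : L => (u : G) ∈ W)]
    have hWL : W ≤ L := le_sup_right
    have h1 : ∑ u ∈ Finset.univ.filter (fun u : L => (u : G) ∈ W), (χ : G → ℂ) (u : G) =
        ∑ k : W, (χ : G → ℂ) (k : G) :=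
      Finset.sum_bij' (fun u hu => (⟨(u : G), (Finset.mem_filter.1 hu).2⟩ : W))
        (fun k _ => (⟨(k : G), hWL k.2⟩ : L)) (by simp) (by simp) (by simp) (by simp) (by simp)
    have hc : ((Finset.univ.filter fun u : L => (u : G) ∈ W).card) = Nat.card W := by
      rw [Nat.card_eq_fintype_card, ← Finset.card_univ]
      exact Finset.card_bij' (fun u hu => (⟨(u : G), (Finset.mem_filter.1 hu).2⟩ : W))
        (fun k _ => (⟨(k : G), hWL k.2⟩ : L)) (by simp) (by simp) (by simp) (by simp)
    have h2 := Finset.card_filter_add_card_filter_not (s := (Finset.univ : Finset L))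
      (fun u : L => (u : G) ∈ W)
    rw [hc, Finset.card_univ, ← Nat.card_eq_fintype_card] at h2
    rw [h1, Finset.sum_congr rfl (fun u hu => hout u (Finset.mem_filter.1 hu).2), Finset.sum_const,
      nsmul_eq_mul, ← h2]
    push_cast
    ring
  rw [hm, hg₀, hL, h.card_sup, ← hR] at hLW
  have hW0 : (Nat.card W : ℤ) ≠ 0 := by exact_mod_cast Nat.card_pos.ne'
  have key : (Nat.card W : ℤ) * ((R : ℤ) * m) =
      (Nat.card W : ℤ) * ((g₀ : ℤ) + ((R : ℤ) - 1) * dv x χ) := by
    apply Int.cast_injective (α := ℂ)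
    push_cast at hLW ⊢
    linear_combination hLW
  have key' := mul_left_cancel₀ hW0 key
  have hm0 : (0 : ℤ) ≤ (R : ℤ) * m := by positivity
  obtain ⟨t, ht⟩ := hdvd
  have hRpos : (0 : ℤ) < R := by exact_mod_cast (Nat.card_pos : 0 < R)
  have hlt : (0 : ℤ) < (R : ℤ) * (dv x χ - t) := by
    rw [mul_sub]; linarith
  have hone : 1 ≤ dv x χ - t := by
    by_contra hcon
    have := mul_nonpos_iff.2 (Or.inl ⟨hRpos.le, (show dv x χ - t ≤ 0 by omega)⟩)
    omega
  have := mul_le_mul_of_nonneg_left hone hRpos.le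
  linarith

end OneClass

end H85.AbTwo
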