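import Cfsg.Agent.H85.AbTwo.Signal
import Cfsg.Agent.H85.AbTwo.Mass
import Cfsg.Agent.H85.AbTwo.CubicBound
import Cfsg.Agent.H85.AbTwo.Central
import Cfsg.Agent.H19.ItoSylow
import Cfsg.Agent.H67.CAIdent
import Cfsg.Agent.H21.Inflation
import Cfsg.Agent.S2300

/-!
An elementary abelian Sylow 2-subgroup of order eight or sixteen all of whose involutions are
regular: the principal column has odd entries (helper85).
-/

set_option autoImplicit false
set_option linter.style.haveILetI false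
set_option linter.unusedSectionVars false

open Cfsg Finset

namespace H85.AbTwo

universe u

variable {G : Type u} [Group G] [Fintype G] {M : Ideal AlgInt} [hMp : M.IsPrime]

local notation "C[" x "]" => (Subgroup.centralizer ({x} : Set _))

theorem odd_dv_iff {x : G} (hx2 : orderOf x = 2) (χ : IrrCharacter G) :
    Odd (dv x χ) ↔ Odd (H12.degree (χ : G → ℂ)) := by
  obtain ⟨k, hk⟩ := dv_parity hx2 χ
  rw [Int.odd_iff, Nat.odd_iff]
  omega

namespace OneClass

variable {P : Sylow 2 G} {W : Subgroup G} {x : G} {w : ℕ} (h : OneClass P W x w)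

include h

theorem card_normalizer :
    (Nat.card (P : Subgroup G) - 1) * (Nat.card (P : Subgroup G) * Nat.card W) ≤
      Nat.card ↥(Subgroup.normalizer ((P : Subgroup G) : Set G) ⊔ W) ∨
    ¬ Subgroup.normalizer ((P : Subgroup G) : Set G) ≤ Subgroup.normalizer (W : Set G) := by
  classical
  haveI : Fact (Nat.Prime 2) := ⟨Nat.prime_two⟩
  haveI := h.comm
  set N := Subgroup.normalizer ((P : Subgroup G) : Set G) with hN
  refine (em (N ≤ Subgroup.normalizer (W : Set G))).imp (fun hNW => ?_) id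
  set R := Nat.card (P : Subgroup G) with hR
  have hinfx : N ⊓ W ≤ C[x] := by
    rintro k ⟨hk, hkW⟩
    rw [mem_cent_iff, ← mul_inv_eq_iff_eq_mul, ← mul_inv_eq_one, ← orderOf_eq_one_iff]
    have hP : k * x * k⁻¹ * x⁻¹ ∈ (P : Subgroup G) :=
      mul_mem ((Subgroup.mem_normalizer_iff.1 hk x).1 h.mem) (inv_mem h.mem)
    have hW' : k * x * k⁻¹ * x⁻¹ ∈ W := by
      rw [mul_assoc k, mul_assoc k]
      exact mul_mem hkW ((Subgroup.mem_normalizer_iff.1 (h.nrm h.mem) k⁻¹).1 (inv_mem hkW))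
    exact Nat.eq_one_of_dvd_coprimes (a := 2) (b := Nat.card W)
      ((Nat.prime_two.coprime_iff_not_dvd).2 h.odd)
      (orderOf_dvd_of_pow_eq_one (by rw [pow_two]; exact h.sq _ hP))
      (Subgroup.orderOf_dvd_natCard _ hW')
  -- the orbit of `x`
  have horb : Set.range (fun k : N => (k : G) * x * (k : G)⁻¹) =
      {u | u ∈ (P : Subgroup G)} \ {1} := by
    ext u
    constructor
    · rintro ⟨k, rfl⟩
      exact ⟨(Subgroup.mem_normalizer_iff.1 k.2 x).1 h.mem,
        fun e => h.x_ne_one (conj_eq_one_iff.1 e)⟩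
    · rintro ⟨hu, hu1⟩
      obtain ⟨n, hn, e⟩ := exists_norm P h.mem hu (h.fuse u hu hu1)
      exact ⟨⟨n, hn⟩, e⟩
  have h1 := h.card_conjugates N x
  rw [horb, Nat.card_coe_set_eq, Set.ncard_diff (by simp), Set.ncard_singleton,
    ← Nat.card_coe_set_eq] at h1
  change (R - 1) * Nat.card ↥(N ⊓ C[x]) = Nat.card N at h1
  have hn2 : (P : Subgroup G) ≤ Subgroup.normalizer ((N ⊓ W : Subgroup G) : Set G) := by
    intro v hv
    rw [Subgroup.mem_normalizer_iff]
    intro k
    simp only [Subgroup.mem_inf]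
    refine and_congr ?_ ((Subgroup.mem_normalizer_iff.1 (h.nrm hv)) k)
    rw [Subgroup.mul_mem_cancel_right _ (inv_mem (Subgroup.le_normalizer hv)),
      Subgroup.mul_mem_cancel_left _ (Subgroup.le_normalizer hv)]
  have h2 := H10.card_mul_card_inf (H := (P : Subgroup G)) (K := N ⊓ W) hn2
  have hbot : (P : Subgroup G) ⊓ (N ⊓ W) = ⊥ := by
    rw [Subgroup.eq_bot_iff_forall]
    rintro v ⟨hv, -, hvW⟩
    rw [← orderOf_eq_one_iff]
    exact Nat.eq_one_of_dvd_coprimes (a := 2) (b := Nat.card W)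
      ((Nat.prime_two.coprime_iff_not_dvd).2 h.odd)
      (orderOf_dvd_of_pow_eq_one (by rw [pow_two]; exact h.sq v hv))
      (Subgroup.orderOf_dvd_natCard _ hvW)
  rw [hbot, Subgroup.card_bot, mul_one] at h2
  have hle : (P : Subgroup G) ⊔ (N ⊓ W) ≤ N ⊓ C[x] :=
    sup_le (le_inf Subgroup.le_normalizer (le_cent P h.mem)) (le_inf inf_le_left hinfx)
  have h3 : R * Nat.card ↥(N ⊓ W) ≤ Nat.card ↥(N ⊓ C[x]) := by
    rw [hR, ← h2]; exact Subgroup.card_le_of_le hle
  have h4 := H10.card_mul_card_inf (H := N) (K := W) hNW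
  refine Nat.le_of_mul_le_mul_right ?_ (Nat.card_pos (α := ↥(N ⊓ W)))
  rw [h4, ← h1]
  calc (R - 1) * (R * Nat.card W) * Nat.card ↥(N ⊓ W)
      = (R - 1) * (R * Nat.card ↥(N ⊓ W)) * Nat.card W := by ring
    _ ≤ _ := Nat.mul_le_mul_right _ (Nat.mul_le_mul_left _ h3)

/-- The number of cosets of a strongly embedded subgroup. -/
theorem index_ge (hO : pPrimeCore 2 G = ⊥) (hW : W ≠ ⊥) {H : Subgroup G}
    (hse : IsStronglyEmbedded H) (hPH : (P : Subgroup G) ≤ H) (hWH : W ≤ H) :
    3 * Nat.card (P : Subgroup G) + 1 ≤ H.index := by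
  classical
  haveI : Fact (Nat.Prime 2) := ⟨Nat.prime_two⟩
  set L := (P : Subgroup G) ⊔ W with hL
  have hLH : L ≤ H := sup_le hPH hWH
  obtain ⟨g, k, hk, hkg⟩ : ∃ g : G, ∃ k ∈ W, g⁻¹ * k * g ∉ H := by
    by_contra hcon
    push Not at hcon
    apply hW
    have hle : W ≤ H.normalCore := fun k hk b => by
      have := hcon b⁻¹ k hk
      rwa [inv_inv] at this
    obtain ⟨g, hg⟩ : ∃ g : G, g ∉ H := by
      by_contra hall
      push Not at hall
      exact hse.1 (eq_top_iff.2 fun g _ => hall g)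
    have hKle : H.normalCore ≤ H ⊓ H.map (MulAut.conj g).toMonoidHom := by
      refine le_inf (Subgroup.normalCore_le H) fun y hy => ?_
      refine ⟨g⁻¹ * y * g⁻¹⁻¹, hy g⁻¹, ?_⟩
      show g * (g⁻¹ * y * g⁻¹⁻¹) * g⁻¹ = y
      group
    have hodd : ¬ 2 ∣ Nat.card H.normalCore := fun hd =>
      Nat.not_even_iff_odd.2 (hse.2.2 g hg)
        (even_iff_two_dvd.2 (hd.trans (Subgroup.card_dvd_of_le hKle)))
    exact le_bot_iff.1 (hO ▸ hle.trans
      (H1.le_pPrimeCore (Nat.prime_two.coprime_iff_not_dvd.2 hodd).symm))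
  have hgH : g ∉ H := fun hg => hkg (mul_mem (mul_mem (inv_mem hg) (hWH hk)) hg)
  set ω : G ⧸ H := (g : G ⧸ H) with hω
  set O := MulAction.orbit L ω with hOdef
  set S := MulAction.stabilizer L ω with hS
  have hmemS : ∀ {u : L}, u ∈ S → g⁻¹ * (u : G) * g ∈ H := fun {u} hu =>
    H65.smul_coset_eq_iff.1 (show (u : G) • ω = ω from hu)
  let S' : Subgroup G := S.map L.subtype
  have hS' : Nat.card S' = Nat.card S := Subgroup.card_map_of_injective (Subgroup.subtype_injective L)
  have hSodd : ¬ 2 ∣ Nat.card S' := fun hd => by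
    refine Nat.not_even_iff_odd.2 (hse.2.2 g hgH) (even_iff_two_dvd.2 (hd.trans
      (Subgroup.card_dvd_of_le (le_inf ?_ ?_))))
    · rintro _ ⟨u, -, rfl⟩; exact hLH u.2
    · rintro _ ⟨u, hu, rfl⟩
      exact ⟨g⁻¹ * (u : G) * g, hmemS hu, by show g * (g⁻¹ * (u : G) * g) * g⁻¹ = u; group⟩
  have hSW : S' ≤ W := fun y hy => by
    obtain ⟨u, hu, rfl⟩ := hy
    exact h.sup_odd_le u.2 fun hd => hSodd (hd.trans (Subgroup.orderOf_dvd_natCard _ ⟨u, hu, rfl⟩))
  obtain ⟨m, hm⟩ := Subgroup.card_dvd_of_le hSW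
  have hm1 : m ≠ 1 := fun e => by
    rw [e, mul_one] at hm
    have heq : S' = W := Subgroup.eq_of_le_of_card_ge hSW hm.le
    rw [← heq] at hk
    obtain ⟨u, hu, rfl⟩ := hk
    exact hkg (hmemS hu)
  have hm3 : 3 ≤ m := by
    have hm2 : ¬ 2 ∣ m := fun hd => h.odd (hm ▸ hd.mul_left _)
    omega
  have hO' : Nat.card O * Nat.card S = Nat.card L := by
    rw [hOdef, hS, Nat.card_congr (MulAction.orbitEquivQuotientStabilizer L ω),
      mul_comm, ← Subgroup.index_eq_card, Subgroup.card_mul_index]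
  rw [h.card_sup, hm, ← hS'] at hO'
  have hcard : Nat.card O = Nat.card (P : Subgroup G) * m := by
    refine Nat.eq_of_mul_eq_mul_right (Nat.card_pos (α := S')) ?_
    rw [hO']; ring
  have hnot : ((1 : G) : G ⧸ H) ∉ O := by
    rintro ⟨u, hu⟩
    apply hgH
    have h1 : (u : G) • ω = ((1 : G) : G ⧸ H) := hu
    rw [hω, MulAction.Quotient.smul_coe, QuotientGroup.eq, smul_eq_mul, mul_one] at h1
    have := mul_mem (inv_mem (hLH u.2)) (inv_mem h1)
    simpa [← mul_assoc] using this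
  have hsub : (O.toFinset).card + 1 ≤ H.index := by
    rw [Subgroup.index_eq_card, Nat.card_eq_fintype_card,
      ← Finset.card_insert_of_notMem (show ((1 : G) : G ⧸ H) ∉ O.toFinset by simpa using hnot)]
    exact Finset.card_le_univ _
  rw [← Set.ncard_eq_toFinset_card' O, ← Nat.card_coe_set_eq, hcard] at hsub
  have := Nat.mul_le_mul_left (Nat.card (P : Subgroup G)) hm3
  omega

end OneClass

variable (P : Sylow 2 G) [hc : IsMulCommutative P]

theorem odd_of_psl (hM : IsPModular 2 M) {x : G} (hx : x ∈ (P : Subgroup G))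
    (hx2 : orderOf x = 2) (hreg : Reg (P : Subgroup G) x)
    (hone : ∀ g : G, (∃ k : ℕ, orderOf g = 2 ^ k) → g ≠ 1 → IsConj g x)
    (h8 : Nat.card (P : Subgroup G) = 8 ∨ Nat.card (P : Subgroup G) = 16)
    (hd : H67.CAData P) (χ : IrrCharacter G) (hχ : χ ∈ principalBlock M G) :
    Odd (dv x χ) := by
  classical
  haveI : Fact (Nat.Prime 2) := ⟨Nat.prime_two⟩
  obtain ⟨F, _, _, hF, ⟨e⟩⟩ := hd.exists_iso_PSL
  obtain ⟨p, hp⟩ := CharP.exists F
  haveI := hp
  obtain ⟨n, hpp, hn⟩ := FiniteField.card F p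
  have hp2 : p = 2 := by
    have hdvd : p ∣ 2 ^ 4 := by
      have h1 : p ∣ Nat.card (P : Subgroup G) := by
        rw [← hF, hn]; exact dvd_pow_self p n.ne_zero
      rcases h8 with e' | e' <;> rw [e'] at h1
      · exact h1.trans (by norm_num)
      · exact h1.trans (by norm_num)
    exact (Nat.prime_dvd_prime_iff_eq hpp Nat.prime_two).1 (hpp.dvd_of_dvd_pow hdvd)
  subst hp2
  let f : Matrix.SpecialLinearGroup (Fin 2) F →* G :=
    e.symm.toMonoidHom.comp (QuotientGroup.mk' _)
  have hf : Function.Surjective f := e.symm.surjective.comp (QuotientGroup.mk'_surjective _)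
  have hcases := (Cfsg.Agent.S2300.result (F := F)).1 _
    (H12.IsIrrCharacter.comp_surjective χ.2 hf)
  simp only [Function.comp_apply, map_one, H12.irr_apply_one] at hcases
  rw [hF] at hcases
  set R := Nat.card (P : Subgroup G) with hR
  set deg := H12.degree (χ : G → ℂ) with hdeg
  rw [odd_dv_iff hx2, ← hdeg]
  rcases hcases with e' | e' | e' | e'
  · have h1 : deg = 1 := by exact_mod_cast e'
    rw [h1]; exact odd_one
  · have e2 : (deg : ℂ) + 1 = (R : ℂ) := by rw [e']; ring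
    have e3 : deg + 1 = R := by exact_mod_cast e2
    rw [Nat.odd_iff]; rcases h8 with h | h <;> omega
  · exfalso
    have e3 : deg = R := by exact_mod_cast e'
    have hx1 : x ≠ 1 := fun h1 => by rw [h1, orderOf_one] at hx2; norm_num at hx2
    obtain ⟨a, ha, hdvd⟩ := H19.OneSec.exists_value P hx hx1 hone χ
    have had : a = dv x χ := by
      have e4 := ha.symm.trans (dv_eq hx2 χ)
      exact_mod_cast e4
    rw [← hdeg, e3, ← hR, had] at hdvd
    obtain ⟨-, -, hne, hsum⟩ := column_data P hM hx hx2 hreg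
    have hmem : χ ∈ H22.blockFinset (principalBlock M G) := H22.mem_blockFinset.2 hχ
    have hsq : dv x χ ^ 2 ≤ (R : ℤ) := by
      rw [hR, ← hsum]
      exact Finset.single_le_sum (f := fun ψ => dv x ψ ^ 2) (fun ψ _ => sq_nonneg _) hmem
    have hne' := hne χ hmem
    obtain ⟨t, ht⟩ := hdvd
    have ht' : dv x χ = (R : ℤ) * (t + 1) := by linarith
    have ht0 : t + 1 ≠ 0 := fun h0 => hne' (by rw [ht', h0, mul_zero])
    have ht2 : 1 ≤ (t + 1) ^ 2 := by
      have : 0 < (t + 1) ^ 2 := by positivity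
      omega
    have hR8 : (8 : ℤ) ≤ R := by rcases h8 with h | h <;> rw [h] <;> norm_num
    rw [ht', mul_pow] at hsq
    nlinarith [mul_le_mul_of_nonneg_left ht2 (sq_nonneg (R : ℤ)),
      mul_le_mul_of_nonneg_right hR8 (show (0 : ℤ) ≤ R by positivity)]
  · have e2 : deg = R + 1 := by exact_mod_cast e'
    rw [Nat.odd_iff]; rcases h8 with h | h <;> omega

variable (hE : ∀ u ∈ (P : Subgroup G), u * u = 1)
  (hR : ∀ u ∈ (P : Subgroup G), u ≠ 1 → Reg (P : Subgroup G) u)

include hE hR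

/-- **The free case**: every entry of the column is odd. -/
theorem odd_of_free (hM : IsPModular 2 M) (hO : pPrimeCore 2 G = ⊥) {x : G}
    (hx : x ∈ (P : Subgroup G)) (hx2 : orderOf x = 2)
    (h8 : Nat.card (P : Subgroup G) = 8 ∨ Nat.card (P : Subgroup G) = 16)
    (χ : IrrCharacter G) (hχ : χ ∈ principalBlock M G) : Odd (dv x χ) := by
  classical
  haveI : Fact (Nat.Prime 2) := ⟨Nat.prime_two⟩
  have hx1 : x ≠ 1 := fun e => by rw [e, orderOf_one] at hx2; norm_num at hx2
  have hreg := hR x hx hx1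
  have h23 : 2 ^ 3 ≤ Nat.card (P : Subgroup G) := by rcases h8 with e | e <;> rw [e] <;> norm_num
  by_cases hn : (P : Subgroup G).Normal
  · rw [odd_dv_iff hx2, ← Nat.not_even_iff_odd, even_iff_two_dvd]
    exact H19.ItoSylow.not_dvd_of_normal_abelian P hn
      (fun a ha b hb => congrArg Subtype.val (hc.is_comm.comm ⟨a, ha⟩ ⟨b, hb⟩)) χ
  obtain ⟨hse, h⟩ := (setting P hE hR hO h23 hx hx2).resolve_left hn
  set W := sig P with hWdef
  by_cases hW : W = ⊥
  · -- the centralizers of involutions are the Sylow subgroups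
    refine odd_of_psl P hM hx hx2 hreg (fun g hg hg1 => h.one_class hg hg1) h8
      ⟨fun hcyc => ?_, hn, fun t ht => ?_⟩ χ hχ
    · haveI := hcyc
      obtain ⟨g, hg⟩ := IsCyclic.exists_ofOrder_eq_natCard (α := (P : Subgroup G))
      have h2 : orderOf g ∣ 2 :=
        orderOf_dvd_of_pow_eq_one (Subtype.ext (by rw [pow_two]; exact hE g g.2))
      have := Nat.le_of_dvd two_pos h2
      omega
    · obtain ⟨c, hc'⟩ := _root_.isConj_iff.1 (h.isConj_of_invol ht).symm
      have hin : ∀ y ∈ C[t], c⁻¹ * y * c ∈ (P : Subgroup G) := by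
        intro y hy
        have h1 : c⁻¹ * y * c ∈ C[x] := by
          rw [mem_cent_iff]
          have e := mem_cent_iff.1 hy
          rw [← hc'] at e
          calc c⁻¹ * y * c * x = c⁻¹ * (y * (c * x * c⁻¹)) * c := by group
            _ = c⁻¹ * ((c * x * c⁻¹) * y) * c := by rw [e]
            _ = _ := by group
        obtain ⟨k, hk, q, hq, e⟩ := h.cent x hx hx1 _ h1
        have hk1 : k = 1 := by
          have hkW : k ∈ W := hk.1
          rwa [hW, Subgroup.mem_bot] at hkW
        rw [← e, hk1, one_mul]; exact hq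
      refine ⟨⟨⟨fun a b => Subtype.ext ?_⟩⟩, fun y hy => ?_⟩
      · have e := congrArg Subtype.val (hc.is_comm.comm ⟨_, hin a a.2⟩ ⟨_, hin b b.2⟩)
        show (a : G) * b = b * a
        simp only [Subgroup.coe_mul] at e
        calc (a : G) * b = c * (c⁻¹ * a * c * (c⁻¹ * b * c)) * c⁻¹ := by group
          _ = c * (c⁻¹ * b * c * (c⁻¹ * a * c)) * c⁻¹ := by rw [e]
          _ = _ := by group
      · have e := hE _ (hin y hy)
        rw [pow_two]
        calc y * y = c * (c⁻¹ * y * c * (c⁻¹ * y * c)) * c⁻¹ := by group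
          _ = _ := by rw [e]; group
  -- the count of pairs
  exfalso
  set N := Subgroup.normalizer ((P : Subgroup G) : Set G) with hN
  set H := N ⊔ W with hH
  have hH1 := (h.card_normalizer).resolve_right (not_not.2 (normalizer_le_sig P hR))
  have hn3 := h.index_ge hO hW hse (Subgroup.le_normalizer.trans le_sup_left) le_sup_right
  obtain ⟨h1, -, hne, hsum⟩ := column_data P hM hx hx2 hreg
  have hb := cubic_bound (H22.blockFinset (principalBlock M G)) (dv x)
    (fun ψ => (H12.degree (ψ : G → ℂ) : ℤ)) (H12.oneIrr G) h1 (dv_one hx2)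
    (by
      have e : (H12.degree ((H12.oneIrr G : IrrCharacter G) : G → ℂ) : ℂ) = 1 := by
        rw [← H12.irr_apply_one, H12.oneIrr_apply]
      exact_mod_cast e)
    hne (fun ψ _ => by exact_mod_cast H12.irr_degree_pos ψ) h8
    (fun ψ hψ hd => h.degree_ge hM hO hW (H22.mem_blockFinset.1 hψ) hd) hsum
  have hmass := h.mass_le hM
  simp only [Int.cast_natCast] at hb
  set S := ∑ ψ ∈ H22.blockFinset (principalBlock M G),
    (dv x ψ : ℚ) ^ 3 / (H12.degree (ψ : G → ℂ) : ℚ)
  set R := Nat.card (P : Subgroup G) with hRdef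
  have hG : (3 * R + 1) * ((R - 1) * (R * Nat.card W)) ≤ Nat.card G := by
    rw [← Subgroup.index_mul_card H]
    exact Nat.mul_le_mul hn3 hH1
  have hG' : ((3 * (R : ℚ) + 1) * (((R : ℚ) - 1) * ((R : ℚ) * (Nat.card W : ℚ)))) ≤
      (Nat.card G : ℚ) := by
    have e : ((((3 * R + 1) * ((R - 1) * (R * Nat.card W)) : ℕ)) : ℚ) ≤ (Nat.card G : ℚ) := by
      exact_mod_cast hG
    rwa [Nat.cast_mul, Nat.cast_mul, Nat.cast_mul, Nat.cast_sub (by omega), Nat.cast_add,
      Nat.cast_mul, Nat.cast_one] at e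
  have hR2 : ((R - 2 : ℕ) : ℚ) = (R : ℚ) - 2 := by rw [Nat.cast_sub (by omega)]; norm_num
  rw [hR2] at hmass
  have hR8 : (8 : ℚ) ≤ R := by rcases h8 with e | e <;> rw [e] <;> norm_num
  have hden : 0 < ((R : ℚ) - 1) * (3 * R + 1) := by nlinarith
  rw [div_lt_iff₀ hden] at hb
  have hS : 0 < S := by
    by_contra hcon
    push Not at hcon
    have : S * (((R : ℚ) - 1) * (3 * R + 1)) ≤ 0 := mul_nonpos_of_nonpos_of_nonneg hcon hden.le
    nlinarith
  have hWpos : (0 : ℚ) < Nat.card W := by exact_mod_cast Nat.card_pos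
  have hlow := mul_le_mul_of_nonneg_left hG' hS.le
  have hup := mul_lt_mul_of_pos_right hb (mul_pos (show (0 : ℚ) < R by linarith) hWpos)
  linarith

end H85.AbTwo
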