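import Cfsg.Agent.H85.AbTwo.Nine
import Cfsg.Agent.H20.FreeAction

/-!
An automizer of order nine on an elementary abelian group of order sixteen fixes a decomposition
into two four-groups (helper85).
-/

set_option autoImplicit false
set_option linter.style.haveILetI false
set_option linter.unusedSectionVars false

open Cfsg Finset

namespace H85.AbTwo

universe u

section Action

variable {V : Type*} [Group V] [Finite V]

/-- The elements fixed by a set of automorphisms. -/
def fixS (S : Subgroup (MulAut V)) : Subgroup V where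
  carrier := {v | ∀ a ∈ S, a v = v}
  one_mem' := fun a _ => map_one a
  mul_mem' := fun hu hv a ha => by rw [map_mul, hu a ha, hv a ha]
  inv_mem' := fun hu a ha => by rw [map_inv, hu a ha]

theorem mem_fixS {S : Subgroup (MulAut V)} {v : V} : v ∈ fixS S ↔ ∀ a ∈ S, a v = v := Iff.rfl

theorem modEq_fixS {S : Subgroup (MulAut V)} [Finite S] (hS : IsPGroup 3 S) :
    Nat.card V ≡ Nat.card (fixS S) [MOD 3] := by
  haveI : Fact (Nat.Prime 3) := ⟨Nat.prime_three⟩
  have h := hS.card_modEq_card_fixedPoints V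
  have e : Nat.card (MulAction.fixedPoints S V) = Nat.card (fixS S) :=
    Nat.card_congr (Equiv.subtypeEquivRight fun v =>
      ⟨fun hv a ha => hv ⟨a, ha⟩, fun hv a => hv a a.2⟩)
  rwa [e] at h

/-- A fixed point free automorphism of odd order of a four-group is transitive. -/
theorem exists_zpow_eq {F : Subgroup V} (hF : Nat.card F = 4) {g : MulAut V}
    (hodd : Odd (orderOf g)) (hpres : ∀ v ∈ F, g v ∈ F) (hfree : ∀ v ∈ F, g v = v → v = 1)
    {v w : V} (hv : v ∈ F) (hv1 : v ≠ 1) (hw : w ∈ F) (hw1 : w ≠ 1) :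
    w = v ∨ w = g v ∨ w = g (g v) := by
  classical
  haveI : Fintype V := Fintype.ofFinite V
  have h1 : g v ∈ F := hpres v hv
  have h2 : g (g v) ∈ F := hpres _ h1
  have ne01 : g v ≠ v := fun e => hv1 (hfree v hv e)
  have hgv1 : g v ≠ 1 := fun e => hv1 (g.injective (e.trans (map_one g).symm))
  have hggv1 : g (g v) ≠ 1 := fun e => hgv1 (g.injective (e.trans (map_one g).symm))
  have ne12 : g (g v) ≠ g v := fun e => ne01 (g.injective e)
  have ne02 : g (g v) ≠ v := by
    intro e
    apply ne01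
    have hp : ∀ k : ℕ, (g ^ (2 * k)) v = v := by
      intro k
      induction k with
      | zero => simp
      | succ k ih =>
        rw [show 2 * (k + 1) = 2 + 2 * k by ring, pow_add, MulAut.mul_apply, ih, pow_two,
          MulAut.mul_apply, e]
    obtain ⟨k, hk⟩ := hodd
    have h := congrArg (fun a : MulAut V => a v) (pow_orderOf_eq_one g)
    simp only [hk, pow_succ', MulAut.mul_apply, hp k, MulAut.one_apply] at h
    exact h
  by_contra hcon
  push Not at hcon
  have hsub : ({1, v, g v, g (g v), w} : Finset V) ⊆ Finset.univ.filter fun y => y ∈ F := by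
    intro y hy
    simp only [Finset.mem_insert, Finset.mem_singleton] at hy
    simp only [Finset.mem_filter, Finset.mem_univ, true_and]
    rcases hy with rfl | rfl | rfl | rfl | rfl
    exacts [one_mem _, hv, h1, h2, hw]
  have hcard := Finset.card_le_card hsub
  rw [← Fintype.card_subtype, ← Nat.card_eq_fintype_card, hF, Finset.card_insert_of_notMem,
    Finset.card_insert_of_notMem, Finset.card_insert_of_notMem, Finset.card_pair] at hcard
  · omega
  · exact Ne.symm hcon.2.2
  · simp only [Finset.mem_insert, Finset.mem_singleton, not_or]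
    exact ⟨Ne.symm ne12, Ne.symm hcon.2.1⟩
  · simp only [Finset.mem_insert, Finset.mem_singleton, not_or]
    exact ⟨Ne.symm ne01, Ne.symm ne02, Ne.symm hcon.1⟩
  · simp only [Finset.mem_insert, Finset.mem_singleton, not_or]
    exact ⟨Ne.symm hv1, Ne.symm hgv1, Ne.symm hggv1, Ne.symm hw1⟩

variable (E : Subgroup (MulAut V))

theorem exists_nine (hV : Nat.card V = 16) (hcomm : ∀ u v : V, u * v = v * u)
    (hsq : ∀ v : V, v * v = 1) (hE : Nat.card E = 9) :
    ∃ A B : Subgroup V, Nat.card A = 4 ∧ Nat.card B = 4 ∧ A ⊓ B = ⊥ ∧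
      (∀ g ∈ E, (∀ a ∈ A, g a ∈ A) ∧ ∀ b ∈ B, g b ∈ B) ∧
      (∀ a ∈ A, a ≠ 1 → ∀ a' ∈ A, a' ≠ 1 → ∃ g ∈ E, (∀ b ∈ B, g b = b) ∧ g a = a') ∧
      (∀ b ∈ B, b ≠ 1 → ∀ b' ∈ B, b' ≠ 1 → ∃ g ∈ E, (∀ a ∈ A, g a = a) ∧ g b = b') ∧
      ∀ a ∈ A, a ≠ 1 → ∀ b ∈ B, b ≠ 1 → ∀ g ∈ E, g (a * b) = a * b → g = 1 := by
  classical
  haveI : Fact (Nat.Prime 3) := ⟨Nat.prime_three⟩
  haveI : Fintype V := Fintype.ofFinite V
  haveI : Finite E := Nat.finite_of_card_ne_zero (by omega)
  have hEp : IsPGroup 3 E := IsPGroup.of_card (n := 2) (by rw [hE]; norm_num)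
  have hEc : ∀ g ∈ E, ∀ h ∈ E, g * h = h * g := fun g hg h hh =>
    congrArg Subtype.val ((IsPGroup.isMulCommutative_of_card_eq_prime_sq (p := 3) (G := E)
      (by rw [hE]; norm_num)).is_comm.comm ⟨g, hg⟩ ⟨h, hh⟩)
  have hodd : ∀ g ∈ E, Odd (orderOf g) := fun g hg => by
    have h : orderOf g ∣ 9 := hE ▸ Subgroup.orderOf_dvd_natCard _ hg
    exact (show Odd 9 by decide).of_dvd_nat h
  have hdiv : ∀ F : Subgroup V, Nat.card F = 1 ∨ Nat.card F = 2 ∨ Nat.card F = 4 ∨ Nat.card F = 8 ∨
      Nat.card F = 16 := by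
    intro F
    have h : Nat.card F ∣ 2 ^ 4 := (Subgroup.card_subgroup_dvd_card F).trans (by rw [hV]; norm_num)
    obtain ⟨i, hi, e⟩ := (Nat.dvd_prime_pow Nat.prime_two).1 h
    interval_cases i <;> rw [e] <;> norm_num
  have hfull : ∀ S : Subgroup (MulAut V), S ≠ ⊥ → Nat.card (fixS S) ≠ 16 := by
    intro S hS h16
    apply hS
    rw [Subgroup.eq_bot_iff_forall]
    intro a ha
    have htop : fixS S = ⊤ := Subgroup.eq_top_of_card_eq _ (by rw [h16, hV])
    exact MulEquiv.ext fun v => (mem_fixS.1 (htop ▸ Subgroup.mem_top v)) a ha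
  -- the fixed points of `E`
  set F₀ := fixS E with hF₀
  have hEbot : E ≠ ⊥ := fun e => by rw [e, Subgroup.card_bot] at hE; omega
  have hF₀c : Nat.card F₀ = 1 ∨ Nat.card F₀ = 4 := by
    have h := modEq_fixS hEp
    have := hfull E hEbot
    rw [← hF₀] at h this
    rw [Nat.ModEq, hV] at h
    rcases hdiv F₀ with e | e | e | e | e <;> omega
  -- an orbit of length three
  obtain ⟨u, hu, hstab⟩ : ∃ u : V, u ∉ F₀ ∧ MulAction.stabilizer E u ≠ ⊥ := by
    by_contra hcon
    push Not at hcon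
    have horb : ∀ v : V, v ∉ F₀ → (MulAction.orbit E v).toFinset.card = 9 ∧
        Disjoint (MulAction.orbit E v).toFinset (Finset.univ.filter fun y => y ∈ F₀) := by
      intro v hv
      refine ⟨?_, ?_⟩
      · have h := Nat.card_congr (MulAction.orbitEquivQuotientStabilizer E v)
        have hs := hcon v hv
        rw [hs] at h
        rw [← Set.ncard_eq_toFinset_card', ← Nat.card_coe_set_eq, h, ← Subgroup.index_eq_card,
          Subgroup.index_bot, hE]
      · rw [Finset.disjoint_left]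
        intro y hy hy'
        rw [Set.mem_toFinset] at hy
        obtain ⟨g, rfl⟩ := hy
        simp only [Finset.mem_filter, Finset.mem_univ, true_and] at hy'
        apply hv
        have e : (g : MulAut V)⁻¹ ((g : MulAut V) v) = (g : MulAut V) v :=
          hy' _ (inv_mem g.2)
        rw [MulAut.inv_apply_self] at e
        have hy'' : (g : MulAut V) v ∈ F₀ := hy'
        rwa [← e] at hy''
    have hF₀card : (Finset.univ.filter fun y => y ∈ F₀).card = Nat.card F₀ := by
      rw [← Fintype.card_subtype, Nat.card_eq_fintype_card]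
    obtain ⟨v, -, hv⟩ : ∃ v ∈ (Finset.univ : Finset V), v ∉ Finset.univ.filter fun y => y ∈ F₀ :=
      Finset.exists_mem_notMem_of_card_lt_card (by
        rw [hF₀card, Finset.card_univ, ← Nat.card_eq_fintype_card, hV]; omega)
    simp only [Finset.mem_filter, Finset.mem_univ, true_and] at hv
    obtain ⟨h9, hd⟩ := horb v hv
    obtain ⟨w, -, hw⟩ : ∃ w ∈ (Finset.univ : Finset V),
        w ∉ (MulAction.orbit E v).toFinset ∪ Finset.univ.filter fun y => y ∈ F₀ :=
      Finset.exists_mem_notMem_of_card_lt_card (by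
        rw [Finset.card_union_of_disjoint hd, h9, hF₀card, Finset.card_univ,
          ← Nat.card_eq_fintype_card, hV]; omega)
    simp only [Finset.mem_union, Finset.mem_filter, Finset.mem_univ, true_and, not_or] at hw
    obtain ⟨h9', hd'⟩ := horb w hw.2
    have hdd : Disjoint (MulAction.orbit E v).toFinset (MulAction.orbit E w).toFinset := by
      rw [Finset.disjoint_left]
      intro y hy hy'
      rw [Set.mem_toFinset] at hy hy'
      apply hw.1
      rw [Set.mem_toFinset, ← MulAction.orbit_eq_iff, ← MulAction.orbit_eq_iff.2 hy,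
        MulAction.orbit_eq_iff.2 hy']
    have hle := Finset.card_le_univ ((MulAction.orbit E v).toFinset ∪
      (MulAction.orbit E w).toFinset)
    rw [Finset.card_union_of_disjoint hdd, h9, h9', ← Nat.card_eq_fintype_card, hV] at hle
    omega
  -- an element of order three with a four-group of fixed points
  have hKc : Nat.card (MulAction.stabilizer E u) = 3 := by
    obtain ⟨i, hi, e⟩ := (Nat.dvd_prime_pow Nat.prime_three).1
      ((Subgroup.card_subgroup_dvd_card (MulAction.stabilizer E u)).trans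
        (show Nat.card E ∣ 3 ^ 2 by rw [hE]; norm_num))
    interval_cases i
    · exact absurd (Subgroup.card_eq_one.1 e) hstab
    · exact e
    · exfalso
      apply hu
      intro g hg
      have htop : MulAction.stabilizer E u = ⊤ :=
        Subgroup.eq_top_of_card_eq _ (by rw [e, hE]; norm_num)
      exact MulAction.mem_stabilizer_iff.1 (htop ▸ Subgroup.mem_top (⟨g, hg⟩ : E))
  set K := (MulAction.stabilizer E u).map E.subtype with hK
  have hKcard : Nat.card K = 3 := by
    rw [hK, Subgroup.card_map_of_injective E.subtype_injective, hKc]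
  haveI : Finite K := Nat.finite_of_card_ne_zero (by omega)
  have hKE : K ≤ E := Subgroup.map_subtype_le _
  obtain ⟨s, hsK, hs1⟩ : ∃ s ∈ K, s ≠ 1 := by
    by_contra hcon
    push Not at hcon
    rw [(Subgroup.eq_bot_iff_forall K).2 hcon, Subgroup.card_bot] at hKcard
    omega
  have hs3 : s ^ 3 = 1 := by
    rw [← orderOf_dvd_iff_pow_eq_one, ← hKcard]; exact Subgroup.orderOf_dvd_natCard _ hsK
  have hKz : K = Subgroup.zpowers s := by
    refine (Subgroup.eq_of_le_of_card_ge (Subgroup.zpowers_le.2 hsK) ?_).symm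
    rw [hKcard, Nat.card_zpowers, orderOf_eq_prime hs3 hs1]
  have hsu : s u = u := by
    obtain ⟨t, ht, rfl⟩ := hsK
    exact MulAction.mem_stabilizer_iff.1 ht
  set A := fixS K with hA
  have hmemA : ∀ {v : V}, v ∈ A ↔ s v = v := by
    intro v
    refine ⟨fun hv => hv s hsK, fun hv a ha => ?_⟩
    rw [hKz] at ha
    exact (show Subgroup.zpowers s ≤ MulAction.stabilizer (MulAut V) v from
      Subgroup.zpowers_le.2 hv) ha
  have hu1 : u ≠ 1 := fun e => hu (e ▸ one_mem _)
  have hAc : Nat.card A = 4 := by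
    have h := modEq_fixS (IsPGroup.of_card (p := 3) (n := 1) (by rw [hKcard, pow_one]) : IsPGroup 3 K)
    rw [← hA, Nat.ModEq, hV] at h
    have h16 := hfull K fun e => hs1 (by rw [e] at hsK; exact hsK)
    rw [← hA] at h16
    have h1 : Nat.card A ≠ 1 := fun e =>
      hu1 (Subgroup.mem_bot.1 (Subgroup.card_eq_one.1 e ▸ hmemA.2 hsu))
    rcases hdiv A with e | e | e | e | e <;> omega
  have hF₀A : F₀ ≤ A := fun v hv a ha => hv a (hKE ha)
  have hF₀bot : ∀ v ∈ F₀, v = 1 := by
    rcases hF₀c with e | e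
    · exact fun v hv => Subgroup.mem_bot.1 (Subgroup.card_eq_one.1 e ▸ hv)
    · exfalso
      exact hu ((Subgroup.eq_of_le_of_card_ge hF₀A (by rw [e, hAc])) ▸ hmemA.2 hsu)
  -- the second four-group
  let φ : V →* V := MonoidHom.mk' (fun v => s v * v) fun a b => by
    show s (a * b) * (a * b) = s a * a * (s b * b)
    rw [map_mul, mul_assoc, mul_assoc, ← mul_assoc (s b) a b, hcomm (s b) a, mul_assoc]
  set B := φ.range with hB
  have hinv : ∀ v : V, v⁻¹ = v := fun v => inv_eq_of_mul_eq_one_right (hsq v)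
  have hker : φ.ker = A := by
    ext v
    rw [MonoidHom.mem_ker, hmemA]
    show s v * v = 1 ↔ _
    rw [mul_eq_one_iff_eq_inv, hinv]
  have hBc : Nat.card B = 4 := by
    have h := Subgroup.card_mul_index φ.ker
    rw [Subgroup.index_ker, hker, hAc, hV, ← hB] at h
    omega
  have hsB : ∀ b ∈ B, s b = b → b = 1 := by
    rintro _ ⟨v, rfl⟩ he
    have e : s (s v * v) = s v * v := he
    rw [map_mul, hcomm (s (s v))] at e
    have e2 : s (s v) = v := mul_left_cancel e
    have e3 : s v = v := by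
      have h3 : s (s (s v)) = v := by
        have := congrArg (fun a : MulAut V => a v) hs3
        simpa [pow_succ, MulAut.mul_apply] using this
      rwa [e2] at h3
    show s v * v = 1
    rw [e3, hsq]
  have hdisj : A ⊓ B = ⊥ := (Subgroup.eq_bot_iff_forall _).2 fun v hv =>
    hsB v (Subgroup.mem_inf.1 hv).2 (hmemA.1 (Subgroup.mem_inf.1 hv).1)
  have hsE : s ∈ E := hKE hsK
  have hpres : ∀ g ∈ E, (∀ a ∈ A, g a ∈ A) ∧ ∀ b ∈ B, g b ∈ B := by
    intro g hg
    have hgs : ∀ v, s (g v) = g (s v) := fun v =>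
      congrArg (fun a : MulAut V => a v) (hEc s hsE g hg)
    refine ⟨fun a ha => hmemA.2 (by rw [hgs, hmemA.1 ha]), ?_⟩
    rintro _ ⟨v, rfl⟩
    exact ⟨g v, by show s (g v) * g v = g (s v * v); rw [hgs, map_mul]⟩
  have hstrans : ∀ b ∈ B, b ≠ 1 → ∀ b' ∈ B, b' ≠ 1 → b' = b ∨ b' = s b ∨ b' = s (s b) :=
    fun b hb hb1 b' hb' hb'1 =>
      exists_zpow_eq hBc (hodd s hsE) (hpres s hsE).2 hsB hb hb1 hb' hb'1
  -- an element fixing the second four-group
  obtain ⟨t, htE, htK⟩ : ∃ t ∈ E, t ∉ K := by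
    by_contra hcon
    push Not at hcon
    have := Subgroup.card_le_of_le (show E ≤ K from hcon)
    omega
  obtain ⟨b₀, hb₀, hb₀1⟩ : ∃ b ∈ B, b ≠ 1 := by
    by_contra hcon
    push Not at hcon
    rw [(Subgroup.eq_bot_iff_forall B).2 hcon, Subgroup.card_bot] at hBc
    omega
  have htb₀ : t b₀ ≠ 1 := fun e => hb₀1 (t.injective (e.trans (map_one t).symm))
  obtain ⟨r, hrE, hrK, hrb⟩ : ∃ r ∈ E, r ∉ K ∧ r b₀ = b₀ := by
    rcases hstrans b₀ hb₀ hb₀1 _ ((hpres t htE).2 b₀ hb₀) htb₀ with e | e | e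
    · exact ⟨t, htE, htK, e⟩
    · refine ⟨s⁻¹ * t, mul_mem (inv_mem hsE) htE, fun h => htK ?_, ?_⟩
      · have := mul_mem hsK h
        rwa [mul_inv_cancel_left] at this
      · rw [MulAut.mul_apply, e, MulAut.inv_apply_self]
    · refine ⟨s⁻¹ * s⁻¹ * t, mul_mem (mul_mem (inv_mem hsE) (inv_mem hsE)) htE, fun h => htK ?_, ?_⟩
      · have := mul_mem (mul_mem hsK hsK) h
        rwa [show s * s * (s⁻¹ * s⁻¹ * t) = t by group] at this
      · rw [MulAut.mul_apply, e, MulAut.mul_apply, MulAut.inv_apply_self, MulAut.inv_apply_self]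
  have hrB : ∀ b ∈ B, r b = b := by
    intro b hb
    rcases eq_or_ne b 1 with rfl | hb1
    · exact map_one r
    have hrs : ∀ v, r (s v) = s (r v) := fun v =>
      congrArg (fun a : MulAut V => a v) (hEc r hrE s hsE)
    rcases hstrans b₀ hb₀ hb₀1 b hb hb1 with rfl | rfl | rfl
    · exact hrb
    · rw [hrs, hrb]
    · rw [hrs, hrs, hrb]
  have hgen : E ≤ K ⊔ Subgroup.zpowers r := by
    have hle : K ⊔ Subgroup.zpowers r ≤ E := sup_le hKE (Subgroup.zpowers_le.2 hrE)
    haveI : Finite ↥(K ⊔ Subgroup.zpowers r) :=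
      Finite.of_injective _ (Subgroup.inclusion_injective hle)
    obtain ⟨i, hi, e⟩ := (Nat.dvd_prime_pow Nat.prime_three).1
      ((Subgroup.card_dvd_of_le hle).trans (show Nat.card E ∣ 3 ^ 2 by rw [hE]; norm_num))
    have h3 : Nat.card K ≤ Nat.card ↥(K ⊔ Subgroup.zpowers r) := Subgroup.card_le_of_le le_sup_left
    have hne : Nat.card ↥(K ⊔ Subgroup.zpowers r) ≠ 3 := fun e3 => hrK (by
      rw [Subgroup.eq_of_le_of_card_ge (le_sup_left : K ≤ K ⊔ Subgroup.zpowers r)
        (by rw [e3, hKcard])]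
      exact Subgroup.mem_sup_right (Subgroup.mem_zpowers r))
    haveI : Finite E := inferInstance
    exact (Subgroup.eq_of_le_of_card_ge hle (by interval_cases i <;> omega)).ge
  have hrA : ∀ a ∈ A, r a = a → a = 1 := by
    intro a ha hra
    refine hF₀bot a fun g hg => ?_
    exact (show K ⊔ Subgroup.zpowers r ≤ MulAction.stabilizer (MulAut V) a from
      sup_le (fun k hk => ha k hk) (Subgroup.zpowers_le.2 hra)) (hgen hg)
  refine ⟨A, B, hAc, hBc, hdisj, hpres, fun a ha ha1 a' ha' ha'1 => ?_,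
    fun b hb hb1 b' hb' hb'1 => ?_, fun a ha ha1 b hb hb1 g hg he => ?_⟩
  · rcases exists_zpow_eq hAc (hodd r hrE) (hpres r hrE).1 hrA ha ha1 ha' ha'1 with e | e | e
    · exact ⟨1, one_mem _, fun b _ => rfl, e.symm⟩
    · exact ⟨r, hrE, hrB, e.symm⟩
    · exact ⟨r * r, mul_mem hrE hrE, fun b hb => by rw [MulAut.mul_apply, hrB b hb, hrB b hb],
        by rw [MulAut.mul_apply, e]⟩
  · rcases hstrans b hb hb1 b' hb' hb'1 with e | e | e
    · exact ⟨1, one_mem _, fun a _ => rfl, e.symm⟩
    · exact ⟨s, hsE, fun a ha => hmemA.1 ha, e.symm⟩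
    · exact ⟨s * s, mul_mem hsE hsE,
        fun a ha => by rw [MulAut.mul_apply, hmemA.1 ha, hmemA.1 ha],
        by rw [MulAut.mul_apply, e]⟩
  · -- fixing a product
    have hga : g a ∈ A := (hpres g hg).1 a ha
    have hgb : g b ∈ B := (hpres g hg).2 b hb
    rw [map_mul] at he
    have e1 : a⁻¹ * g a = b * (g b)⁻¹ := by
      rw [inv_mul_eq_iff_eq_mul, ← mul_assoc, ← he, mul_inv_cancel_right]
    have hz : a⁻¹ * g a ∈ A ⊓ B :=
      Subgroup.mem_inf.2 ⟨mul_mem (inv_mem ha) hga, by rw [e1]; exact mul_mem hb (inv_mem hgb)⟩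
    rw [hdisj, Subgroup.mem_bot, inv_mul_eq_one] at hz
    have hgb' : g b = b := by
      rw [← hz] at he
      exact mul_left_cancel he
    -- `g` fixes `b`, hence all of `B`, hence lies in the subgroup of `r`
    have hgB : ∀ b' ∈ B, g b' = b' := by
      intro b' hb'
      rcases eq_or_ne b' 1 with rfl | hb'1
      · exact map_one g
      have hgs : ∀ v, g (s v) = s (g v) := fun v =>
        congrArg (fun a : MulAut V => a v) (hEc g hg s hsE)
      rcases hstrans b hb hb1 b' hb' hb'1 with rfl | rfl | rfl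
      · exact hgb'
      · rw [hgs, hgb']
      · rw [hgs, hgs, hgb']
    have hgA : ∀ a' ∈ A, g a' = a' := by
      intro a' ha'
      rcases eq_or_ne a' 1 with rfl | ha'1
      · exact map_one g
      have hgr : ∀ v, g (r v) = r (g v) := fun v =>
        congrArg (fun a : MulAut V => a v) (hEc g hg r hrE)
      rcases exists_zpow_eq hAc (hodd r hrE) (hpres r hrE).1 hrA ha ha1 ha' ha'1 with rfl | rfl | rfl
      · exact hz.symm
      · rw [hgr, ← hz]
      · rw [hgr, hgr, ← hz]
    refine MulEquiv.ext fun v => ?_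
    have hsplit : v = (v * φ (s v)) * φ (s v) := by rw [mul_assoc, hsq, mul_one]
    have hleft : v * φ (s v) ∈ A := by
      rw [hmemA]
      show s (v * (s (s v) * s v)) = v * (s (s v) * s v)
      have h3 : s (s (s v)) = v := by
        have := congrArg (fun a : MulAut V => a v) hs3
        simpa [pow_succ, MulAut.mul_apply] using this
      rw [map_mul, map_mul, h3, hcomm (s v) (v * s (s v)), mul_assoc]
    show g v = v
    rw [hsplit, map_mul, hgA _ hleft, hgB _ (MonoidHom.mem_range.2 ⟨s v, rfl⟩)]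

end Action

variable {G : Type u} [Group G] [Fintype G]

open Classical in
/-- **The structure from an automizer of order nine.** -/
theorem exists_nine_of_card (P : Sylow 2 G) [hc : IsMulCommutative P]
    (hP : Nat.card (P : Subgroup G) = 16) (hsq : ∀ u ∈ (P : Subgroup G), u * u = 1)
    (he : Nat.card (H20.autG (P : Subgroup G)) = 9) : ∃ A B : Subgroup G, Nine P A B := by
  obtain ⟨A, B, hA, hB, hd, hpres, htA, htB, hreg⟩ :=
    exists_nine (H20.autG (P : Subgroup G)) hP (fun u v => hc.is_comm.comm u v)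
      (fun v => Subtype.ext (hsq v v.2)) he
  have himg : ∀ {n : G} (hn : n ∈ Subgroup.normalizer ((P : Subgroup G) : Set G)),
      (P : Subgroup G).normalizerMonoidHom ⟨n, hn⟩ ∈ H20.autG (P : Subgroup G) :=
    fun hn => ⟨⟨_, hn⟩, rfl⟩
  have hlift : ∀ (C : Subgroup (P : Subgroup G)),
      (∀ g ∈ H20.autG (P : Subgroup G), ∀ c ∈ C, g c ∈ C) →
      Subgroup.normalizer ((P : Subgroup G) : Set G) ≤
        Subgroup.normalizer ((C.map (P : Subgroup G).subtype : Subgroup G) : Set G) := by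
    intro C hC
    have key : ∀ n ∈ Subgroup.normalizer ((P : Subgroup G) : Set G),
        ∀ w ∈ C.map (P : Subgroup G).subtype, n * w * n⁻¹ ∈ C.map (P : Subgroup G).subtype := by
      rintro n hn _ ⟨c, hc', rfl⟩
      exact ⟨_, hC _ (himg hn) c hc', rfl⟩
    intro n hn
    rw [Subgroup.mem_normalizer_iff]
    refine fun w => ⟨key n hn w, fun h => ?_⟩
    have := key n⁻¹ (inv_mem hn) _ h
    simpa [mul_assoc] using this
  have hget : ∀ {g : MulAut (P : Subgroup G)}, g ∈ H20.autG (P : Subgroup G) →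
      ∃ n ∈ Subgroup.normalizer ((P : Subgroup G) : Set G),
        ∀ v : (P : Subgroup G), n * (v : G) * n⁻¹ = ((g v : (P : Subgroup G)) : G) := by
    rintro g hg
    obtain ⟨n, rfl⟩ := MonoidHom.mem_range.1 hg
    exact ⟨n, n.2, fun v => rfl⟩
  refine ⟨A.map (P : Subgroup G).subtype, B.map (P : Subgroup G).subtype, hc, hP, hsq,
    Subgroup.map_subtype_le A, Subgroup.map_subtype_le B,
    (Subgroup.card_map_of_injective (Subgroup.subtype_injective _)).trans hA,
    (Subgroup.card_map_of_injective (Subgroup.subtype_injective _)).trans hB,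
    by rw [← Subgroup.map_inf _ _ _ (Subgroup.subtype_injective _), hd, Subgroup.map_bot],
    hlift A (fun g hg => (hpres g hg).1), hlift B (fun g hg => (hpres g hg).2), ?_, ?_, ?_⟩
  · rintro _ ⟨a, ha, rfl⟩ ha1 _ ⟨a', ha', rfl⟩ ha'1
    obtain ⟨g, hg, hgB, hga⟩ := htA a ha (fun e => ha1 (by rw [e]; rfl)) a' ha'
      (fun e => ha'1 (by rw [e]; rfl))
    obtain ⟨n, hn, hng⟩ := hget hg
    refine ⟨n, hn, ?_, (hng a).trans (congrArg Subtype.val hga)⟩
    rintro _ ⟨b, hb, rfl⟩
    exact (hng b).trans (congrArg Subtype.val (hgB b hb))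
  · rintro _ ⟨b, hb, rfl⟩ hb1 _ ⟨b', hb', rfl⟩ hb'1
    obtain ⟨g, hg, hgA, hgb⟩ := htB b hb (fun e => hb1 (by rw [e]; rfl)) b' hb'
      (fun e => hb'1 (by rw [e]; rfl))
    obtain ⟨n, hn, hng⟩ := hget hg
    refine ⟨n, hn, ?_, (hng b).trans (congrArg Subtype.val hgb)⟩
    rintro _ ⟨a, ha, rfl⟩
    exact (hng a).trans (congrArg Subtype.val (hgA a ha))
  · rintro _ ⟨a, ha, rfl⟩ ha1 _ ⟨b, hb, rfl⟩ hb1 n hn he' w hw
    have h1 := hreg a ha (fun e => ha1 (by rw [e]; rfl)) b hb (fun e => hb1 (by rw [e]; rfl))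
      _ (himg hn) (Subtype.ext he')
    have e : n * w * n⁻¹ = w :=
      congrArg Subtype.val (congrArg (fun f : MulAut (P : Subgroup G) => f ⟨w, hw⟩) h1)
    exact (mul_inv_eq_iff_eq_mul.1 e).symm

end H85.AbTwo
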