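import Cfsg.Agent.H20.FreeAction
import Cfsg.Agent.H19.OneSection
import Cfsg.Agent.H19.OneSectionAbelian
import Cfsg.Agent.H19.MajorDyadic
import Cfsg.Agent.H60.PLengthRestrict
import Cfsg.Agent.H25.RealOddMain

/-!
Abelian Sylow 2-subgroups with an element whose centralizer has a normal 2-complement: the column
of such an element in the principal block (helper85).
-/

set_option autoImplicit false
set_option linter.style.haveILetI false
set_option linter.unusedSectionVars false

open Cfsg Finset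
open scoped ComplexConjugate

namespace H85.AbTwo

universe u

variable {G : Type u} [Group G]

/-- Only elements centralizing `P` fix `x` inside the normalizer of `P`. -/
def Reg (P : Subgroup G) (x : G) : Prop :=
  ∀ n ∈ Subgroup.normalizer (P : Set G), n * x * n⁻¹ = x → n ∈ Subgroup.centralizer (P : Set G)

theorem mem_cent_iff {x g : G} : g ∈ Subgroup.centralizer ({x} : Set G) ↔ g * x = x * g :=
  Subgroup.mem_centralizer_singleton_iff

theorem conj_eq_iff {x g : G} : g * x * g⁻¹ = x ↔ g * x = x * g := mul_inv_eq_iff_eq_mul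

variable [Finite G]

/-- The centralizer of a regular element of an abelian Sylow subgroup is `p`-nilpotent. -/
theorem complement_of_reg {p : ℕ} [Fact p.Prime] (P : Sylow p G) [hc : IsMulCommutative P] {u : G}
    (hu : u ∈ (P : Subgroup G)) (hreg : Reg (P : Subgroup G) u) :
    HasNormalPComplement p (Subgroup.centralizer ({u} : Set G)) := by
  set C := Subgroup.centralizer ({u} : Set G)
  have hPC : (P : Subgroup G) ≤ C := fun w hw => mem_cent_iff.2
    (congrArg Subtype.val (hc.is_comm.comm ⟨w, hw⟩ ⟨u, hu⟩))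
  refine H5.hasNormalPComplement_of_fusion (P.subtype hPC) fun x hx g hg => ?_
  refine ⟨1, one_mem _, ?_⟩
  rw [one_mul, inv_one, mul_one]
  haveI : IsMulCommutative (P.subtype hPC : Subgroup C) :=
    ⟨⟨fun a b => Subtype.ext (Subtype.ext
      (congrArg Subtype.val (hc.is_comm.comm ⟨_, a.2⟩ ⟨_, b.2⟩) :))⟩⟩
  obtain ⟨n, hn, hn'⟩ := H5.control_of_commutative (P.subtype hPC) x hx g hg
  rw [← hn']
  have hnN : (n : G) ∈ Subgroup.normalizer ((P : Subgroup G) : Set G) := by
    rw [Subgroup.mem_normalizer_iff]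
    intro w
    constructor
    · intro hw
      exact (Subgroup.mem_normalizer_iff.1 hn ⟨w, hPC hw⟩).1 hw
    · intro hw
      have hwC : w ∈ C := by
        have := C.mul_mem (C.mul_mem (C.inv_mem n.2) (hPC hw)) n.2
        simpa [mul_assoc] using this
      exact (Subgroup.mem_normalizer_iff.1 hn ⟨w, hwC⟩).2 hw
  have hcn := hreg (n : G) hnN (conj_eq_iff.2 (mem_cent_iff.1 n.2))
  apply Subtype.ext
  show (x : G) = (n : G) * x * (n : G)⁻¹
  rw [← hcn x hx, mul_inv_cancel_right]

/-- A principal block of rank one gives a normal `p`-complement. -/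
theorem complement_of_rank_one {p : ℕ} [hp : Fact p.Prime] {M : Ideal AlgInt}
    (hM : IsPModular p M) {H : Type u} [Group H] [Finite H]
    (hl : blockRank p (principalBlock M H) = 1) : HasNormalPComplement p H := by
  classical
  haveI : Fintype H := Fintype.ofFinite H
  haveI := H20.isPrime_of_modular hM
  have hle : ∀ y : H, (orderOf y).Coprime p → y ∈ pPrimeCore p H := fun y hy =>
    H60.PLenRestrict.mem_pPrimeCore_of_kernel hM fun χ hχ =>
      H19.OneSec.apply_regular_of_rank_one hl hχ (hp.out.coprime_iff_not_dvd.1 hy.symm)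
  rw [H5.hasNormalPComplement_iff_not_dvd]
  haveI := H1.pPrimeCore_normal' p H
  intro hd
  refine hp.out.coprime_iff_not_dvd.1 (H1.card_pPrimeCore_coprime p H).symm ?_
  exact hd.trans (Subgroup.card_dvd_of_le ((Subgroup.closure_le _).2 hle))

/-- A `p`-nilpotent centralizer leaves only centralizing elements in the normalizer. -/
theorem reg_of_complement {p : ℕ} [hp : Fact p.Prime] (P : Sylow p G) [hc : IsMulCommutative P]
    {x : G} (hx : x ∈ (P : Subgroup G))
    (h : HasNormalPComplement p (Subgroup.centralizer ({x} : Set G))) :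
    Reg (P : Subgroup G) x := by
  intro n hn hnx
  set C := Subgroup.centralizer ({x} : Set G) with hC
  have hPC : (P : Subgroup G) ≤ C := fun w hw => mem_cent_iff.2
    (congrArg Subtype.val (hc.is_comm.comm ⟨w, hw⟩ ⟨x, hx⟩))
  obtain ⟨N, hN, hNc⟩ := (H5.hasNormalPComplement_iff_exists (P.subtype hPC)).1 h
  let n' : C := ⟨n, mem_cent_iff.2 (conj_eq_iff.1 hnx)⟩
  intro w hw
  let w' : C := ⟨w, hPC hw⟩
  have hw' : w' ∈ (P.subtype hPC : Subgroup C) := hw
  have hcw : n' * w' * n'⁻¹ * w'⁻¹ ∈ (P.subtype hPC : Subgroup C) :=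
    mul_mem ((Subgroup.mem_normalizer_iff.1 hn w).1 hw) (inv_mem hw')
  have hcN : n' * w' * n'⁻¹ * w'⁻¹ ∈ N := by
    obtain ⟨a, ha, b, hb, hab⟩ : ∃ a ∈ N, ∃ b ∈ (P.subtype hPC : Subgroup C), a * b = n' := by
      obtain ⟨⟨a, b⟩, hab⟩ := hNc.2 n'
      exact ⟨a, a.2, b, b.2, hab⟩
    have hbw : b * w' = w' * b := Subtype.ext
      (congrArg Subtype.val (hc.is_comm.comm ⟨_, hb⟩ ⟨w, hw⟩) :)
    have e : n' * w' * n'⁻¹ * w'⁻¹ = a * (w' * a⁻¹ * w'⁻¹) := by
      rw [← hab, mul_inv_rev]
      calc a * b * w' * (b⁻¹ * a⁻¹) * w'⁻¹ = a * (b * w' * b⁻¹) * a⁻¹ * w'⁻¹ := by group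
        _ = _ := by rw [hbw]; group
    rw [e]
    exact mul_mem ha (hN.conj_mem _ (inv_mem ha) w')
  have h1 : n' * w' * n'⁻¹ * w'⁻¹ ∈ N ⊓ (P.subtype hPC : Subgroup C) := ⟨hcN, hcw⟩
  rw [hNc.disjoint.eq_bot, Subgroup.mem_bot, mul_inv_eq_one, mul_inv_eq_iff_eq_mul] at h1
  exact (congrArg Subtype.val h1).symm

theorem odd_index (P : Sylow 2 G) : Odd (P : Subgroup G).index := by
  rw [← Nat.not_even_iff_odd, even_iff_two_dvd]
  exact P.not_dvd_index

/-- An element of the normalizer whose square centralizes `P` centralizes `P`. -/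
theorem mem_cent_of_sq (P : Sylow 2 G) [hc : IsMulCommutative P] {n : G}
    (hn : n ∈ Subgroup.normalizer ((P : Subgroup G) : Set G))
    (h2 : n ^ 2 ∈ Subgroup.centralizer ((P : Subgroup G) : Set G)) :
    n ∈ Subgroup.centralizer ((P : Subgroup G) : Set G) := by
  set N := Subgroup.normalizer ((P : Subgroup G) : Set G)
  set K := (Subgroup.centralizer ((P : Subgroup G) : Set G)).subgroupOf N with hK
  have hPC : (P : Subgroup G) ≤ Subgroup.centralizer ((P : Subgroup G) : Set G) := fun w hw v hv =>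
    congrArg Subtype.val (hc.is_comm.comm ⟨v, hv⟩ ⟨w, hw⟩)
  haveI hKn : K.Normal := by
    rw [hK, ← Subgroup.normalizerMonoidHom_ker]
    infer_instance
  have hodd : Odd (Nat.card (N ⧸ K)) := by
    have h : Nat.card (N ⧸ K) ∣ (P : Subgroup G).index := by
      show (Subgroup.centralizer ((P : Subgroup G) : Set G)).relIndex N ∣ _
      exact (Subgroup.relIndex_dvd_of_le_left N hPC).trans
        (Subgroup.relIndex_dvd_index_of_le Subgroup.le_normalizer)
    exact (odd_index P).of_dvd_nat h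
  let q : N ⧸ K := QuotientGroup.mk ⟨n, hn⟩
  have hq2 : q ^ 2 = 1 := by
    rw [← QuotientGroup.mk_pow, QuotientGroup.eq_one_iff, hK, Subgroup.mem_subgroupOf]
    exact h2
  have h1 : orderOf q ∣ 1 := by
    have hcop : Nat.Coprime 2 (Nat.card (N ⧸ K)) := Nat.coprime_two_left.2 hodd
    rw [← hcop.gcd_eq_one]
    exact Nat.dvd_gcd (orderOf_dvd_of_pow_eq_one hq2) (orderOf_dvd_natCard q)
  have h3 : q = 1 := orderOf_eq_one_iff.1 (Nat.dvd_one.1 h1)
  rw [QuotientGroup.eq_one_iff, hK, Subgroup.mem_subgroupOf] at h3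
  exact h3

end H85.AbTwo
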