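import Cfsg.Agent.H85.AbTwo.Central
import Cfsg.Agent.H20.BlockApps

/-!
A central involution and an abelian Sylow 2-subgroup of order sixteen (helper85).
-/

set_option autoImplicit false
set_option linter.style.haveILetI false
set_option linter.unusedSectionVars false

open Cfsg Finset

namespace H85.AbTwo

universe u

variable {G : Type u} [Group G] [Fintype G] {M : Ideal AlgInt} [hMp : M.IsPrime]

/-- The count for a Sylow subgroup of order eight, as a hypothesis. -/
def Eight (M : Ideal AlgInt) : Prop :=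
  ∀ (H : Type u) [Group H] [Fintype H] (Q : Sylow 2 H), IsMulCommutative Q →
    Nat.card (Q : Subgroup H) = 8 → ∀ y ∈ (Q : Subgroup H), orderOf y = 2 →
      Reg (Q : Subgroup H) y → Nat.card (principalBlock M H) = 8

variable (P : Sylow 2 G) [hc : IsMulCommutative P]

theorem card_of_central_sixteen (hM : IsPModular 2 M) (h8 : Eight.{u} M) {x : G}
    (hx : x ∈ (P : Subgroup G)) (hx2 : orderOf x = 2) (hreg : Reg (P : Subgroup G) x) {z : G}
    (hz : z ∈ Subgroup.center G) (hz2 : orderOf z = 2) (hzP : z ∈ (P : Subgroup G))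
    (hP : Nat.card (P : Subgroup G) = 16) : Nat.card (principalBlock M G) = 16 := by
  classical
  haveI : Fact (Nat.Prime 2) := ⟨Nat.prime_two⟩
  by_cases hE : Subgroup.normalizer ((P : Subgroup G) : Set G) ≤
      Subgroup.centralizer ((P : Subgroup G) : Set G)
  · rw [card_of_central P hM hE, hP]
  have hxz : x ≠ z := by
    rintro rfl
    exact hE fun n hn => hreg n hn (by
      rw [Subgroup.mem_center_iff.1 hz n, mul_inv_cancel_right])
  set Z := Subgroup.zpowers z with hZdef
  have hZc : Z ≤ Subgroup.center G := Subgroup.zpowers_le.2 hz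
  haveI : Z.Normal := ⟨fun w hw g => by
    rw [Subgroup.mem_center_iff.1 (hZc hw) g, mul_inv_cancel_right]; exact hw⟩
  have hzz : z * z = 1 := by rw [← pow_two, ← hz2, pow_orderOf_eq_one]
  have hmem : ∀ {w : G}, w ∈ Z → w = 1 ∨ w = z := by
    intro w hw
    obtain ⟨k, rfl⟩ := Subgroup.mem_zpowers_iff.1 hw
    rcases Int.even_or_odd' k with ⟨j, rfl | rfl⟩
    · left; rw [zpow_mul, zpow_ofNat, pow_two, hzz, one_zpow]
    · right; rw [zpow_add, zpow_mul, zpow_ofNat, pow_two, hzz, one_zpow, one_mul, zpow_one]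
  have hZp : IsPGroup 2 Z := IsPGroup.of_card (n := 1) (by rw [Nat.card_zpowers, hz2, pow_one])
  haveI : Fintype (G ⧸ Z) := Fintype.ofFinite _
  let f := QuotientGroup.mk' Z
  have hf : Function.Surjective f := QuotientGroup.mk'_surjective Z
  let Q : Sylow 2 (G ⧸ Z) := P.mapSurjective hf
  have hQ : (Q : Subgroup (G ⧸ Z)) = (P : Subgroup G).map f := Sylow.coe_mapSurjective hf P
  have hQab : IsMulCommutative Q := ⟨⟨fun a b => Subtype.ext (by
    obtain ⟨a', ha', ea⟩ := (hQ ▸ a.2 : (a : G ⧸ Z) ∈ (P : Subgroup G).map f)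
    obtain ⟨b', hb', eb⟩ := (hQ ▸ b.2 : (b : G ⧸ Z) ∈ (P : Subgroup G).map f)
    have e : a' * b' = b' * a' := congrArg Subtype.val (hc.is_comm.comm ⟨a', ha'⟩ ⟨b', hb'⟩)
    show (a : G ⧸ Z) * b = b * a
    rw [← ea, ← eb, ← map_mul, ← map_mul, e])⟩⟩
  have hQcard : Nat.card (Q : Subgroup (G ⧸ Z)) = 8 := by
    have hmap : (P : Subgroup G).map f = (f.comp (P : Subgroup G).subtype).range := by
      rw [MonoidHom.range_comp, Subgroup.range_subtype]
    have hker : Nat.card (f.comp (P : Subgroup G).subtype).ker = 2 := by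
      conv_rhs => rw [← hz2, ← Nat.card_zpowers]
      refine Nat.card_congr ⟨fun w => ⟨((w : (P : Subgroup G)) : G),
        (QuotientGroup.eq_one_iff _).1 w.2⟩, fun w => ⟨⟨w, (Subgroup.zpowers_le.2 hzP) w.2⟩,
        (QuotientGroup.eq_one_iff _).2 w.2⟩, fun w => rfl, fun w => rfl⟩
    have h := Subgroup.card_mul_index (f.comp (P : Subgroup G).subtype).ker
    rw [Subgroup.index_ker, hker, hP] at h
    rw [hQ, hmap]
    omega
  have hxy : f x ∈ (Q : Subgroup (G ⧸ Z)) := by rw [hQ]; exact ⟨x, hx, rfl⟩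
  have hy2 : orderOf (f x) = 2 := by
    refine orderOf_eq_prime (by rw [← map_pow, ← hx2, pow_orderOf_eq_one, map_one]) fun h => ?_
    rcases hmem ((QuotientGroup.eq_one_iff x).1 h) with h | h
    · rw [h, orderOf_one] at hx2; norm_num at hx2
    · exact hxz h
  have hyreg : Reg (Q : Subgroup (G ⧸ Z)) (f x) := by
    rw [hQ]
    refine reg_map P f hf hreg fun n hn h => ?_
    rcases hmem ((QuotientGroup.eq_one_iff (x⁻¹ * (n * x * n⁻¹))).1 (by
      show f _ = 1
      rw [map_mul, map_inv, h, inv_mul_cancel])) with e | e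
    · exact (inv_mul_eq_one.1 e).symm
    · exact absurd (_root_.isConj_iff.2 ⟨n, inv_mul_eq_iff_eq_mul.1 e⟩)
        (not_isConj_mul P hz hz2 hzP hx)
  have hk8 := h8 (G ⧸ Z) Q hQab hQcard (f x) hxy hy2 hyreg
  obtain ⟨-, hkQ, -, hsumQ⟩ := column_data Q (hc := hQab) hM hxy hy2 hyreg
  rw [hQcard] at hsumQ
  -- the two halves
  set S := H22.blockFinset (principalBlock M G) with hSdef
  obtain ⟨h1, hk, hne, hsum⟩ := column_data P hM hx hx2 hreg
  rw [hP] at hsum
  set Sp := S.filter fun χ : IrrCharacter G => (χ : G → ℂ) z = (χ : G → ℂ) 1 with hSp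
  set Sm := S.filter fun χ : IrrCharacter G => ¬ (χ : G → ℂ) z = (χ : G → ℂ) 1 with hSm
  have hC : ∃ k : ℕ, (Subgroup.centralizer (Z : Set G)).index = 2 ^ k := ⟨0, by
    rw [pow_zero, Subgroup.index_eq_one, eq_top_iff]
    exact fun g _ w hw => (Subgroup.mem_center_iff.1 (hZc hw) g).symm⟩
  have hone : H21.inflate Z (H12.oneIrr (G ⧸ Z)) = H12.oneIrr G :=
    Subtype.ext (funext fun g => by rw [H21.inflate_apply, H12.oneIrr_apply, H12.oneIrr_apply])
  have hiff : ∀ ψ : IrrCharacter (G ⧸ Z),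
      H21.inflate Z ψ ∈ principalBlock M G ↔ ψ ∈ principalBlock M (G ⧸ Z) := by
    intro ψ
    have h := H20.inflation_blocks hM Z hZp hC (H12.oneIrr (G ⧸ Z)) ψ
    rw [hone] at h
    exact h.symm
  have hinf : Function.Injective (H21.inflate Z : IrrCharacter (G ⧸ Z) → IrrCharacter G) := by
    intro a b h
    refine Subtype.ext (funext fun q => ?_)
    obtain ⟨g, rfl⟩ := QuotientGroup.mk_surjective q
    rw [← H21.inflate_apply Z a g, h, H21.inflate_apply]
  have himg : Sp = (H22.blockFinset (principalBlock M (G ⧸ Z))).map ⟨H21.inflate Z, hinf⟩ := by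
    ext χ
    simp only [hSp, hSdef, Finset.mem_filter, Finset.mem_map, Function.Embedding.coeFn_mk,
      H22.mem_blockFinset]
    constructor
    · rintro ⟨hχ, hχz⟩
      obtain ⟨ψ, rfl⟩ := H21.exists_deflate (N := Z) χ fun n hn => by
        rcases hmem hn with rfl | rfl
        · rfl
        · exact hχz
      exact ⟨ψ, (hiff ψ).1 hχ, rfl⟩
    · rintro ⟨ψ, hψ, rfl⟩
      refine ⟨(hiff ψ).2 hψ, ?_⟩
      rw [H21.inflate_apply, H21.inflate_apply,
        (QuotientGroup.eq_one_iff z).2 (Subgroup.mem_zpowers z), QuotientGroup.mk_one]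
  have hspc : Sp.card = 8 := by rw [himg, Finset.card_map, hkQ, hk8]
  have hsps : ∑ χ ∈ Sp, dv x χ ^ 2 = 8 := by
    rw [himg, Finset.sum_map, show (8 : ℤ) = ((8 : ℕ) : ℤ) from rfl, ← hsumQ]
    refine Finset.sum_congr rfl fun ψ _ => ?_
    simp only [dv, Function.Embedding.coeFn_mk, H21.inflate_apply]
    rfl
  have hsplit := Finset.sum_filter_add_sum_filter_not S (fun χ : IrrCharacter G => (χ : G → ℂ) z = (χ : G → ℂ) 1)
    (fun χ => dv x χ ^ 2)
  rw [hsum, ← hSp, hsps, ← hSm] at hsplit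
  have hsms : ∑ χ ∈ Sm, dv x χ ^ 2 = 8 := by push_cast at hsplit; linarith
  obtain ⟨l, j, hlj, hlz⟩ := exists_linear_central P hz hz2 hzP
  set μ := H12.linIrr l with hμ
  have hμm : μ ∈ Sm := by
    rw [hSm, Finset.mem_filter]
    refine ⟨H22.mem_blockFinset.2 (linIrr_mem_principal hM l hlj), ?_⟩
    rw [hμ, H12.linIrr_apply, H12.linIrr_apply, hlz, map_one, Units.val_one]
    norm_num
  have hsq : dv x μ * dv x μ = 1 := by
    have e : (l x : ℂ) * (l x : ℂ) = 1 := by
      rw [← Units.val_mul, ← map_mul, ← pow_two, ← hx2, pow_orderOf_eq_one, map_one, Units.val_one]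
    have e2 := dv_eq hx2 μ
    rw [hμ, H12.linIrr_apply, ← hμ] at e2
    rw [e2] at e
    exact_mod_cast e
  obtain ⟨hm5, -⟩ := card_eight Sm (fun χ => dv x μ * dv x χ)
    (fun χ hχ => mul_ne_zero (fun h0 => by rw [h0, zero_mul] at hsq; exact one_ne_zero hsq.symm)
      (hne χ (Finset.mem_filter.1 hχ).1))
    μ hμm hsq (by
      rw [← hsms]
      refine Finset.sum_congr rfl fun χ _ => ?_
      rw [mul_pow, pow_two (dv x μ), hsq, one_mul])
  have hcs := Finset.card_filter_add_card_filter_not (s := S)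
    (fun χ : IrrCharacter G => (χ : G → ℂ) z = (χ : G → ℂ) 1)
  rw [← hSp, ← hSm, hspc, hk] at hcs
  have heven := even_card_of_central P hM hz hz2 hzP
  omega

end H85.AbTwo
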