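import Cfsg.Agent.H85.AbTwo.Column
import Cfsg.Agent.H85.BrauerSuzuki
import Cfsg.Agent.H85.ZStar
import Cfsg.Agent.H18.AbelianSylowAut

/-!
Counting the principal block of a group with an abelian Sylow 2-subgroup by its classes of
2-elements; a central involution makes the count even (helper85).
-/

set_option autoImplicit false
set_option linter.style.haveILetI false
set_option linter.unusedSectionVars false

open Cfsg Finset

namespace H85.AbTwo

universe u

variable {G : Type u} [Group G] [Fintype G] {M : Ideal AlgInt} [hMp : M.IsPrime]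

local notation "C[" x "]" => (Subgroup.centralizer ({x} : Set _))

theorem zStarHyp : H18.ZStarHyp.{u} := by
  intro H _ _ P t ht htP hiso
  haveI : Fact (Nat.Prime 2) := ⟨Nat.prime_two⟩
  refine ⟨pPrimeCore 2 H, H1.pPrimeCore_normal' 2 H,
    Nat.coprime_two_right.1 (H1.card_pPrimeCore_coprime 2 H), ?_⟩
  exact H85.zStar (H85.isolated_of_sylow P ht htP hiso)

/-- An involution fixed by the normalizer of an abelian Sylow 2-subgroup is central modulo the odd
core. -/
theorem central_of_fixed (hO : pPrimeCore 2 G = ⊥) (P : Sylow 2 G)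
    [hc : IsMulCommutative P] {z : G} (hz : z ∈ (P : Subgroup G))
    (hN : ∀ m ∈ Subgroup.normalizer ((P : Subgroup G) : Set G), m * z * m⁻¹ = z) :
    z ∈ Subgroup.center G :=
  H18.central_of_normalizer_fixed zStarHyp (Nat.card G) G rfl
    (fun N hN hodd => le_bot_iff.1 (hO ▸ H1.le_pPrimeCore (Nat.coprime_two_right.2 hodd)))
    P hc z hz hN

section Reps

variable (P : Sylow 2 G)

/-- A set of representatives in `P` for the classes of its elements. -/
def IsReps (X : Finset G) : Prop :=
  (∀ x ∈ X, x ∈ (P : Subgroup G)) ∧ ∀ u ∈ (P : Subgroup G), ∃! x, x ∈ X ∧ IsConj u x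

/-- There are representatives of the classes meeting `P`, containing any given ones. -/
theorem exists_isReps (T : Finset G) (hT : ∀ x ∈ T, x ∈ (P : Subgroup G))
    (hTinj : ∀ x ∈ T, ∀ y ∈ T, IsConj x y → x = y) :
    ∃ X : Finset G, T ⊆ X ∧ IsReps P X := by
  classical
  let S : Finset G := Finset.univ.filter fun u => u ∈ (P : Subgroup G)
  let r : ConjClasses G → G := fun c =>
    if h : ∃ x ∈ T, ConjClasses.mk x = c then h.choose
    else if h' : ∃ x ∈ S, ConjClasses.mk x = c then h'.choose else 1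
  have hr : ∀ u ∈ (P : Subgroup G), IsConj u (r (ConjClasses.mk u)) ∧
      r (ConjClasses.mk u) ∈ (P : Subgroup G) := by
    intro u hu
    simp only [r]
    split_ifs with h h'
    · exact ⟨(ConjClasses.mk_eq_mk_iff_isConj.1 h.choose_spec.2).symm, hT _ h.choose_spec.1⟩
    · exact ⟨(ConjClasses.mk_eq_mk_iff_isConj.1 h'.choose_spec.2).symm,
        (Finset.mem_filter.1 h'.choose_spec.1).2⟩
    · exact absurd ⟨u, Finset.mem_filter.2 ⟨Finset.mem_univ _, hu⟩, rfl⟩ h'
  refine ⟨S.image fun u => r (ConjClasses.mk u), fun x hx => ?_, ?_, fun u hu => ?_⟩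
  · refine Finset.mem_image.2 ⟨x, Finset.mem_filter.2 ⟨Finset.mem_univ _, hT x hx⟩, ?_⟩
    have h : ∃ y ∈ T, ConjClasses.mk y = ConjClasses.mk x := ⟨x, hx, rfl⟩
    simp only [r, dif_pos h]
    exact hTinj _ h.choose_spec.1 x hx (ConjClasses.mk_eq_mk_iff_isConj.1 h.choose_spec.2)
  · intro x hx
    obtain ⟨u, hu, rfl⟩ := Finset.mem_image.1 hx
    exact (hr u (Finset.mem_filter.1 hu).2).2
  · refine ⟨r (ConjClasses.mk u), ⟨Finset.mem_image.2 ⟨u, Finset.mem_filter.2
      ⟨Finset.mem_univ _, hu⟩, rfl⟩, (hr u hu).1⟩, ?_⟩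
    rintro y ⟨hy, huy⟩
    obtain ⟨v, hv, rfl⟩ := Finset.mem_image.1 hy
    have hvu : IsConj v u := ((hr v (Finset.mem_filter.1 hv).2).1).trans huy.symm
    rw [ConjClasses.mk_eq_mk_iff_isConj.2 hvu]

theorem reps_eq {X : Finset G} (hX : IsReps P X) {x y : G} (hx : x ∈ X) (hy : y ∈ X)
    (h : IsConj x y) : x = y :=
  (hX.2 x (hX.1 x hx)).unique ⟨hx, IsConj.refl x⟩ ⟨hy, h⟩

/-- The number of principal block characters is the sum of the local ranks. -/
theorem card_eq_sum_reps (hM : IsPModular 2 M) {X : Finset G} (hX : IsReps P X) :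
    Nat.card (principalBlock M G) = ∑ x ∈ X, blockRank 2 (principalBlock M C[x]) := by
  haveI : Fact (Nat.Prime 2) := ⟨Nat.prime_two⟩
  refine H19.OneSec.card_eq_sum hM X (fun x hx => orderOf_pow_mem P (hX.1 x hx)) fun g hg => ?_
  obtain ⟨u, hu, hgu⟩ := H20.FreeSylow.exists_isConj_mem (P := P) hg
  obtain ⟨x, ⟨hx, hux⟩, huniq⟩ := hX.2 u hu
  exact ⟨x, ⟨hx, hgu.trans hux⟩, fun y hy => huniq y ⟨hy.1, hgu.symm.trans hy.2⟩⟩

theorem one_le_rank_cent (H : Subgroup G) : 1 ≤ blockRank 2 (principalBlock M H) := by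
  haveI : Fact (Nat.Prime 2) := ⟨Nat.prime_two⟩
  haveI : Fintype H := Fintype.ofFinite _
  exact H19.OneSec.one_le_rank H

theorem rank_one_eq :
    blockRank 2 (principalBlock M C[(1 : G)]) = blockRank 2 (principalBlock M G) := by
  haveI : Fact (Nat.Prime 2) := ⟨Nat.prime_two⟩
  exact H19.OneSec.rank_centralizer_one

variable [hc : IsMulCommutative P]

theorem le_cent {x : G} (hx : x ∈ (P : Subgroup G)) :
    (P : Subgroup G) ≤ C[x] := fun w hw => mem_cent_iff.2
  (congrArg Subtype.val (hc.is_comm.comm ⟨w, hw⟩ ⟨x, hx⟩))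

theorem rank_of_reg (hM : IsPModular 2 M) {x : G} (hx : x ∈ (P : Subgroup G))
    (hreg : Reg (P : Subgroup G) x) : blockRank 2 (principalBlock M C[x]) = 1 := by
  haveI : Fact (Nat.Prime 2) := ⟨Nat.prime_two⟩
  haveI : Fintype C[x] := Fintype.ofFinite _
  exact H22.Sub.blockRank_principal_of_complement hM (complement_of_reg P hx hreg)

theorem reg_of_rank (hM : IsPModular 2 M) {x : G} (hx : x ∈ (P : Subgroup G))
    (hl : blockRank 2 (principalBlock M C[x]) = 1) : Reg (P : Subgroup G) x := by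
  haveI : Fact (Nat.Prime 2) := ⟨Nat.prime_two⟩
  exact reg_of_complement P hx (complement_of_rank_one hM hl)

/-- Fusion in an abelian Sylow subgroup comes from its normalizer. -/
theorem exists_norm {u v : G} (hu : u ∈ (P : Subgroup G)) (hv : v ∈ (P : Subgroup G))
    (h : IsConj u v) :
    ∃ n ∈ Subgroup.normalizer ((P : Subgroup G) : Set G), n * u * n⁻¹ = v := by
  haveI : Fact (Nat.Prime 2) := ⟨Nat.prime_two⟩
  obtain ⟨g, hg⟩ := _root_.isConj_iff.1 h
  obtain ⟨n, hn, he⟩ := H5.control_of_commutative P u hu g (by rw [hg]; exact hv)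
  exact ⟨n, hn, he.trans hg⟩

theorem isConj_iff_eq_of_central
    (hE : Subgroup.normalizer ((P : Subgroup G) : Set G) ≤
      Subgroup.centralizer ((P : Subgroup G) : Set G)) {u v : G} (hu : u ∈ (P : Subgroup G))
    (hv : v ∈ (P : Subgroup G)) : IsConj u v ↔ u = v := by
  refine ⟨fun h => ?_, fun h => h ▸ IsConj.refl u⟩
  obtain ⟨n, hn, he⟩ := exists_norm P hu hv h
  rw [← he, ← hE hn u hu, mul_inv_cancel_right]

/-- With trivial automizer the principal block has as many characters as `P` has elements. -/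
theorem card_of_central (hM : IsPModular 2 M)
    (hE : Subgroup.normalizer ((P : Subgroup G) : Set G) ≤
      Subgroup.centralizer ((P : Subgroup G) : Set G)) :
    Nat.card (principalBlock M G) = Nat.card (P : Subgroup G) := by
  classical
  let X : Finset G := Finset.univ.filter fun u => u ∈ (P : Subgroup G)
  have hmem : ∀ {u : G}, u ∈ X ↔ u ∈ (P : Subgroup G) := by simp [X]
  have hX : IsReps P X := ⟨fun x hx => hmem.1 hx, fun u hu =>
    ⟨u, ⟨hmem.2 hu, IsConj.refl u⟩, fun y hy =>
      ((isConj_iff_eq_of_central P hE hu (hmem.1 hy.1)).1 hy.2).symm⟩⟩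
  rw [card_eq_sum_reps P hM hX, Finset.sum_congr rfl
    (fun x hx => rank_of_reg P hM (hmem.1 hx) fun n hn _ => hE hn), Finset.sum_const,
    smul_eq_mul, mul_one, Nat.card_eq_fintype_card, Fintype.card_subtype]

/-- An odd power of an element of the normalizer centralizes `P`. -/
theorem exists_odd_pow {n : G} (hn : n ∈ Subgroup.normalizer ((P : Subgroup G) : Set G)) :
    ∃ m : ℕ, Odd m ∧ n ^ m ∈ Subgroup.centralizer ((P : Subgroup G) : Set G) := by
  haveI : Fact (Nat.Prime 2) := ⟨Nat.prime_two⟩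
  obtain ⟨k, hk⟩ : ∃ k, orderOf n = 2 ^ (orderOf n).factorization 2 * k :=
    ⟨_, (Nat.ordProj_mul_ordCompl_eq_self (orderOf n) 2).symm⟩
  have hk2 : ¬ 2 ∣ k := by
    intro hd
    have h := Nat.not_dvd_ordCompl Nat.prime_two (orderOf_pos n).ne'
    apply h
    have : orderOf n / 2 ^ (orderOf n).factorization 2 = k :=
      Nat.div_eq_of_eq_mul_right (pow_pos two_pos _) hk
    rwa [this]
  refine ⟨k, Nat.not_even_iff_odd.1 (fun h => hk2 (even_iff_two_dvd.1 h)), ?_⟩
  have key : ∀ j : ℕ, (n ^ k) ^ 2 ^ j ∈ Subgroup.centralizer ((P : Subgroup G) : Set G) →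
      n ^ k ∈ Subgroup.centralizer ((P : Subgroup G) : Set G) := by
    intro j
    induction j with
    | zero => intro h; rwa [pow_zero, pow_one] at h
    | succ j ih =>
      intro h
      refine ih (mem_cent_of_sq P (pow_mem (pow_mem hn _) _) ?_)
      rwa [← pow_mul, ← pow_succ]
  refine key ((orderOf n).factorization 2) ?_
  rw [← pow_mul, mul_comm, ← hk, pow_orderOf_eq_one]
  exact one_mem _

/-- No element of the normalizer maps `u` to `u * z` for a central involution `z`. -/
theorem not_isConj_mul {z : G} (hz : z ∈ Subgroup.center G) (hz2 : orderOf z = 2)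
    (hzP : z ∈ (P : Subgroup G)) {u : G} (hu : u ∈ (P : Subgroup G)) : ¬ IsConj u (u * z) := by
  intro h
  obtain ⟨n, hn, he⟩ := exists_norm P hu (mul_mem hu hzP) h
  obtain ⟨m, hm, hmC⟩ := exists_odd_pow P hn
  have hstep : ∀ j : ℕ, n ^ j * u * (n ^ j)⁻¹ = u * z ^ j := by
    intro j
    induction j with
    | zero => simp
    | succ j ih =>
      have hzn : n * z ^ j * n⁻¹ = z ^ j := by
        rw [Subgroup.mem_center_iff.1 (pow_mem hz j) n, mul_inv_cancel_right]
      calc n ^ (j + 1) * u * (n ^ (j + 1))⁻¹ = n * (n ^ j * u * (n ^ j)⁻¹) * n⁻¹ := by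
            rw [pow_succ']; group
        _ = (n * u * n⁻¹) * (n * z ^ j * n⁻¹) := by rw [ih]; group
        _ = u * z ^ (j + 1) := by rw [he, hzn, pow_succ', mul_assoc]
  obtain ⟨j, rfl⟩ := hm
  have h1 := hstep (2 * j + 1)
  rw [← hmC u hu, mul_inv_cancel_right] at h1
  have hz1 : z ^ (2 * j + 1) = z := by
    rw [pow_succ, pow_mul, ← hz2, pow_orderOf_eq_one, one_pow, one_mul]
  rw [hz1, left_eq_mul] at h1
  rw [h1, orderOf_one] at hz2
  norm_num at hz2

/-- Conjugate elements have centralizers of the same principal rank. -/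
theorem rank_of_isConj {x y : G} (h : IsConj x y) :
    blockRank 2 (principalBlock M C[x]) = blockRank 2 (principalBlock M C[y]) := by
  haveI : Fact (Nat.Prime 2) := ⟨Nat.prime_two⟩
  obtain ⟨g, rfl⟩ := _root_.isConj_iff.1 h
  have hmap : (C[x] : Subgroup G).map (MulAut.conj g).toMonoidHom = C[g * x * g⁻¹] := by
    ext w
    rw [Subgroup.mem_map_equiv, MulAut.conj_symm_apply, mem_cent_iff, mem_cent_iff]
    constructor
    · intro h
      calc w * (g * x * g⁻¹) = g * ((g⁻¹ * w * g) * x) * g⁻¹ := by group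
        _ = g * (x * (g⁻¹ * w * g)) * g⁻¹ := by rw [h]
        _ = g * x * g⁻¹ * w := by group
    · intro h
      calc g⁻¹ * w * g * x = g⁻¹ * (w * (g * x * g⁻¹)) * g := by group
        _ = g⁻¹ * (g * x * g⁻¹ * w) * g := by rw [h]
        _ = x * (g⁻¹ * w * g) := by group
  haveI : Fintype C[x] := Fintype.ofFinite _
  haveI : Fintype C[g * x * g⁻¹] := Fintype.ofFinite _
  exact H22.Klein.blockRank_principal_congr
    (((MulAut.conj g).subgroupMap C[x]).trans (MulEquiv.subgroupCongr hmap))

theorem cent_mul_center {z : G} (hz : z ∈ Subgroup.center G) (x : G) : C[x * z] = C[x] := by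
  ext w
  have h := (Subgroup.mem_center_iff.1 hz w)
  rw [mem_cent_iff, mem_cent_iff]
  constructor
  · intro e
    apply mul_right_cancel (b := z)
    rw [mul_assoc, e, mul_assoc, ← h, ← mul_assoc]
  · intro e
    rw [← mul_assoc, e, mul_assoc, h, ← mul_assoc]

theorem rank_mul_center {z : G} (hz : z ∈ Subgroup.center G) (x : G) :
    blockRank 2 (principalBlock M C[x * z]) = blockRank 2 (principalBlock M C[x]) := by
  have key : ∀ H : Subgroup G, H = C[x] →
      blockRank 2 (principalBlock M H) = blockRank 2 (principalBlock M C[x]) := by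
    rintro H rfl; rfl
  exact key _ (cent_mul_center hz x)

/-- A central involution in `P` makes the number of principal block characters even. -/
theorem even_card_of_central (hM : IsPModular 2 M) {z : G} (hz : z ∈ Subgroup.center G)
    (hz2 : orderOf z = 2) (hzP : z ∈ (P : Subgroup G)) :
    2 ∣ Nat.card (principalBlock M G) := by
  classical
  obtain ⟨X, -, hX⟩ := exists_isReps P ∅ (by simp) (by simp)
  rw [card_eq_sum_reps P hM hX, ← ZMod.natCast_eq_zero_iff, Nat.cast_sum]
  have hex : ∀ x ∈ X, ∃ y, y ∈ X ∧ IsConj (x * z) y := fun x hx =>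
    (hX.2 (x * z) (mul_mem (hX.1 x hx) hzP)).exists
  have hzz : z * z = 1 := by rw [← pow_two, ← hz2, pow_orderOf_eq_one]
  refine Finset.sum_involution (fun x hx => (hex x hx).choose) (fun x hx => ?_) (fun x hx _ => ?_)
    (fun x hx => (hex x hx).choose_spec.1) (fun x hx => ?_)
  · rw [← rank_of_isConj (hex x hx).choose_spec.2, rank_mul_center hz, ← two_mul]
    exact mul_eq_zero_of_left (by decide) _
  · intro he
    have h := (hex x hx).choose_spec.2
    rw [he] at h
    exact not_isConj_mul P hz hz2 hzP (hX.1 x hx) h.symm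
  · set y := (hex x hx).choose with hy
    have h1 := (hex x hx).choose_spec.2
    have hyX := (hex x hx).choose_spec.1
    refine reps_eq P hX ((hex y hyX).choose_spec.1) hx ?_
    refine (hex y hyX).choose_spec.2.symm.trans ?_
    obtain ⟨g, hg⟩ := _root_.isConj_iff.1 h1
    refine (_root_.isConj_iff.2 ⟨g, ?_⟩ : IsConj x (y * z)).symm
    rw [← hy] at hg
    rw [← hg, mul_assoc _ g⁻¹, Subgroup.mem_center_iff.1 hz g⁻¹]
    calc g * x * g⁻¹ = g * (x * (z * z)) * g⁻¹ := by rw [hzz, mul_one]
      _ = g * (x * z) * (z * g⁻¹) := by group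

end Reps

end H85.AbTwo
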