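import Cfsg.Agent.H85.AbTwo.Basic
import Cfsg.Agent.H22.BlockClasses

/-!
The column of a regular element of an abelian Sylow 2-subgroup in the principal block: integers,
none zero, with square sum the order of the Sylow subgroup (helper85).
-/

set_option autoImplicit false
set_option linter.style.haveILetI false
set_option linter.unusedSectionVars false

open Cfsg Finset
open scoped ComplexConjugate

namespace H85.AbTwo

universe u

variable {G : Type u} [Group G] [Fintype G] {M : Ideal AlgInt} [hMp : M.IsPrime]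

/-- An element is an involution or the identity and its value is an integer. -/
theorem exists_int_value (χ : IrrCharacter G) {x : G} (hx : orderOf x = 2) :
    ∃ n : ℤ, (χ : G → ℂ) x = (n : ℂ) ∧ (2 : ℤ) ∣ (H12.degree (χ : G → ℂ) : ℤ) - n := by
  obtain ⟨n, h1, h2⟩ := H20.irr_involution χ hx
  exact ⟨n, h1, by rwa [← H20.charDegree_eq_degree]⟩

/-- The integral value at an involution. -/
noncomputable def dv (x : G) (χ : IrrCharacter G) : ℤ := ⌊((χ : G → ℂ) x).re⌋

theorem dv_eq {x : G} (hx : orderOf x = 2) (χ : IrrCharacter G) : (χ : G → ℂ) x = (dv x χ : ℂ) := by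
  obtain ⟨n, hn, -⟩ := exists_int_value χ hx
  rw [dv, hn, Complex.intCast_re, Int.floor_intCast]

theorem dv_parity {x : G} (hx : orderOf x = 2) (χ : IrrCharacter G) :
    (2 : ℤ) ∣ (H12.degree (χ : G → ℂ) : ℤ) - dv x χ := by
  obtain ⟨n, hn, h⟩ := exists_int_value χ hx
  have : dv x χ = n := by
    have e := (dv_eq hx χ).symm.trans hn
    exact_mod_cast e
  rwa [this]

theorem dv_one {x : G} (hx : orderOf x = 2) : dv x (H12.oneIrr G) = 1 := by
  have h := (dv_eq hx (H12.oneIrr G)).symm
  rw [H12.oneIrr_apply] at h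
  exact_mod_cast h

section Prime

variable {p : ℕ} [hp : Fact p.Prime]

theorem orderOf_pow_mem (P : Sylow p G) {x : G} (hx : x ∈ (P : Subgroup G)) :
    ∃ k : ℕ, orderOf x = p ^ k := H20.FreeSylow.orderOf_eq_pow hx

/-- Principal block characters are constant on `x` times the regular part of `C(x)`. -/
theorem apply_shift (hM : IsPModular p M) (P : Sylow p G) {x : G} (hx : x ∈ (P : Subgroup G))
    (hK : HasNormalPComplement p (Subgroup.centralizer ({x} : Set G))) {χ : IrrCharacter G}
    (hχ : χ ∈ principalBlock M G) {c : G} (hcx : c * x = x * c) (hc : ¬ p ∣ orderOf c) :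
    (χ : G → ℂ) (x * c) = (χ : G → ℂ) x := by
  classical
  set C := Subgroup.centralizer ({x} : Set G)
  haveI : Fintype C := Fintype.ofFinite _
  let c' : C := ⟨c, mem_cent_iff.2 hcx⟩
  have hc' : ¬ p ∣ orderOf c' := by rwa [Subgroup.orderOf_mk]
  have h1 := H20.principal_shift hM (orderOf_pow_mem P hx) hχ c' hc'
  have h2 := H20.principal_shift hM (orderOf_pow_mem P hx) hχ (1 : C) (by simp [hp.out.ne_one])
  rw [Subgroup.coe_one, mul_one] at h2
  rw [show c = (c' : G) from rfl, h1, h2, H20.blockPart_eq_sum, H20.blockPart_eq_sum]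
  refine Finset.sum_congr rfl fun φ _ => ?_
  by_cases hφ : φ ∈ principalBlock M C
  · rw [if_pos hφ, if_pos hφ, H22.Sub.apply_regular_of_complement hM hK hφ hc']
  · rw [if_neg hφ, if_neg hφ]

/-- The value at an element depends only on its `p`-part when that is conjugate to `x`. -/
theorem apply_of_pPart (hM : IsPModular p M) (P : Sylow p G) {x : G} (hx : x ∈ (P : Subgroup G))
    (hK : HasNormalPComplement p (Subgroup.centralizer ({x} : Set G))) {χ : IrrCharacter G}
    (hχ : χ ∈ principalBlock M G) {g : G} (hg : IsConj (H20.pPart p g) x) :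
    (χ : G → ℂ) g = (χ : G → ℂ) x := by
  obtain ⟨c, hc⟩ := (_root_.isConj_iff.1 hg)
  have h1 : c * g * c⁻¹ = x * (c * H20.qPart p g * c⁻¹) := by
    conv_lhs => rw [← H20.pPart_mul_qPart (p := p) g]
    rw [← hc]; group
  have hcomm : c * H20.qPart p g * c⁻¹ * x = x * (c * H20.qPart p g * c⁻¹) := by
    rw [← hc]
    calc c * H20.qPart p g * c⁻¹ * (c * H20.pPart p g * c⁻¹) =
          c * (H20.qPart p g * H20.pPart p g) * c⁻¹ := by group
      _ = c * (H20.pPart p g * H20.qPart p g) * c⁻¹ := by
          rw [(H20.commute_pPart_qPart (p := p) g).eq]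
      _ = _ := by group
  rw [← H12.irr_isClassFunction χ g c, h1,
    apply_shift hM P hx hK hχ hcomm (by rw [H20.orderOf_conj']; exact H20.not_dvd_orderOf_qPart g)]

theorem card_cent_factorization (P : Sylow p G) {x : G}
    (hPC : (P : Subgroup G) ≤ Subgroup.centralizer ({x} : Set G)) :
    p ^ (Nat.card (Subgroup.centralizer ({x} : Set G))).factorization p =
      Nat.card (P : Subgroup G) := by
  rw [← (P.subtype hPC).card_eq_multiplicity]
  exact Nat.card_congr (Subgroup.subgroupOfEquivOfLe hPC).toEquiv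

/-- The square sum of the column. -/
theorem column_norm (hM : IsPModular p M) (P : Sylow p G) {x : G} (hx : x ∈ (P : Subgroup G))
    (hPC : (P : Subgroup G) ≤ Subgroup.centralizer ({x} : Set G))
    (hK : HasNormalPComplement p (Subgroup.centralizer ({x} : Set G))) :
    ∑ χ ∈ H22.blockFinset (principalBlock M G), (χ : G → ℂ) x * conj ((χ : G → ℂ) x) =
      (Nat.card (P : Subgroup G) : ℂ) := by
  classical
  haveI : Fintype (Subgroup.centralizer ({x} : Set G)) := Fintype.ofFinite _
  have h1 := H22.Sub.principal_section_orth hM (orderOf_pow_mem P hx)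
    (1 : Subgroup.centralizer ({x} : Set G)) 1 (by simp [hp.out.ne_one]) (by simp [hp.out.ne_one])
  rw [Subgroup.coe_one, mul_one] at h1
  rw [h1, H22.Sub.sum_principal_of_complement hM hK (by simp [hp.out.ne_one])
    (by simp [hp.out.ne_one]), ← card_cent_factorization P hPC, Nat.cast_pow]

/-- Principal block characters do not vanish at a central element of a Sylow subgroup with
`p`-nilpotent centralizer. -/
theorem apply_ne_zero (hM : IsPModular p M) (P : Sylow p G) {x : G} (hx : x ∈ (P : Subgroup G))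
    (hPC : (P : Subgroup G) ≤ Subgroup.centralizer ({x} : Set G))
    (hK : HasNormalPComplement p (Subgroup.centralizer ({x} : Set G))) {χ : IrrCharacter G}
    (hχ : χ ∈ principalBlock M G) : (χ : G → ℂ) x ≠ 0 := by
  classical
  intro h0
  set C := Subgroup.centralizer ({x} : Set G) with hC
  haveI : Fintype C := Fintype.ofFinite _
  obtain ⟨a, ha⟩ := orderOf_pow_mem P hx
  let z : C := ⟨x, mem_cent_iff.2 rfl⟩
  have hz : z ∈ Subgroup.center C := Subgroup.mem_center_iff.2 fun g =>
    Subtype.ext (mem_cent_iff.1 g.2)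
  have hzero : ∀ c : C, ¬ p ∣ orderOf c → (χ : G → ℂ) (x * (c : G)) = 0 := fun c hc => by
    rw [apply_shift hM P hx hK hχ (mem_cent_iff.1 c.2) (by rwa [Subgroup.orderOf_coe]), h0]
  have hd : blockDefect p (principalBlock M C) = blockDefect p (principalBlock M G) := by
    rw [H22.blockDefect_principalBlock, H22.blockDefect_principalBlock]
    refine (Nat.pow_right_injective hp.out.two_le ?_)
    show p ^ _ = p ^ _
    rw [card_cent_factorization P hPC, P.card_eq_multiplicity]
  have hsec : ∀ θ : IrrCharacter C, H19.RankTwo.secFun p C x χ θ = 0 := by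
    intro θ
    rw [H19.RankTwo.secFun]
    refine mul_eq_zero_of_right _ (Finset.sum_eq_zero fun D _ => ?_)
    by_cases hD : p ∣ orderOf D.out
    · rw [H22.pRegularPart_of_dvd _ hD, zero_mul]
    · rw [H22.pRegularPart_of_not_dvd _ hD, centralChar, hzero D.out hD, mul_zero, zero_div,
        zero_mul]
  have hloc : ∀ θ ∈ principalBlock M C,
      H19.RankTwo.loc p C z (principalBlock M C) 1 χ θ = 0 := by
    intro θ hθ
    have e := H19.RankTwo.pow_mul_loc_eq hM ⟨a, ha⟩ C rfl H20.isPBlock_principalBlock hz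
      (j := 1) (by rw [pow_one]) hχ hθ
    rw [hsec, mul_zero, mul_eq_zero] at e
    exact e.resolve_left (pow_ne_zero _ (Nat.cast_ne_zero.2 hp.out.ne_zero))
  have h := (H19.MajorTwo.contrib_valuation hM ha C rfl (H20.principal_induces hM ⟨a, ha⟩) hd hz rfl
    hχ (show H12.oneIrr G ∈ principalBlock M G from H20.mem_blockOf_self (H12.oneIrr G))).2
  refine (h.1 ?_) (H20.blockHeight_oneIrr _)
  rw [H19.RankTwo.contrib_eq_sum_loc,
    Finset.sum_eq_zero fun θ hθ => by rw [hloc θ (H22.mem_blockFinset.1 hθ), mul_zero],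
    mul_zero, zero_div]
  exact H20.memIdeal_zero

end Prime

variable (P : Sylow 2 G)

/-- The square sum of the integral column. -/
theorem sum_dv_sq (hM : IsPModular 2 M) [hc : IsMulCommutative P] {x : G}
    (hx : x ∈ (P : Subgroup G)) (hx2 : orderOf x = 2) (hreg : Reg (P : Subgroup G) x) :
    ∑ χ ∈ H22.blockFinset (principalBlock M G), dv x χ ^ 2 = (Nat.card (P : Subgroup G) : ℤ) := by
  haveI : Fact (Nat.Prime 2) := ⟨Nat.prime_two⟩
  have hPC : (P : Subgroup G) ≤ Subgroup.centralizer ({x} : Set G) := fun w hw => mem_cent_iff.2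
    (congrArg Subtype.val (hc.is_comm.comm ⟨w, hw⟩ ⟨x, hx⟩))
  have h := column_norm hM P hx hPC (complement_of_reg P hx hreg)
  apply Int.cast_injective (α := ℂ)
  push_cast
  rw [← h]
  refine Finset.sum_congr rfl fun χ _ => ?_
  rw [dv_eq hx2, map_intCast, sq]

theorem dv_ne_zero (hM : IsPModular 2 M) [hc : IsMulCommutative P] {x : G}
    (hx : x ∈ (P : Subgroup G)) (hx2 : orderOf x = 2) (hreg : Reg (P : Subgroup G) x)
    {χ : IrrCharacter G} (hχ : χ ∈ principalBlock M G) : dv x χ ≠ 0 := by
  haveI : Fact (Nat.Prime 2) := ⟨Nat.prime_two⟩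
  have hPC : (P : Subgroup G) ≤ Subgroup.centralizer ({x} : Set G) := fun w hw => mem_cent_iff.2
    (congrArg Subtype.val (hc.is_comm.comm ⟨w, hw⟩ ⟨x, hx⟩))
  intro h0
  apply apply_ne_zero hM P hx hPC (complement_of_reg P hx hreg) hχ
  rw [dv_eq hx2, h0, Int.cast_zero]

end H85.AbTwo
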