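import Mathlib

/-!
Two commuting quasi-idempotent integral symmetric matrices with product `d dᵀ` (helper85).
-/

set_option autoImplicit false

namespace H85.AbTwo

open Finset

variable {ι : Type*}

theorem four_dvd_sq_of_even {a : ℤ} (h : Even a) : |a| * 2 ≤ a ^ 2 := by
  obtain ⟨b, rfl⟩ := h
  rcases le_or_gt 0 b with hb | hb
  · rcases hb.eq_or_lt with rfl | hb'
    · simp
    · rw [abs_of_nonneg (by omega)]; nlinarith
  · rw [abs_of_nonpos (by omega)]; nlinarith

/-- The properties of the matrices. -/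
structure Quasi (s : Finset ι) (d : ι → ℤ) (Q : ι → ι → ℤ) : Prop where
  symm : ∀ i ∈ s, ∀ j ∈ s, Q i j = Q j i
  sq : ∀ i ∈ s, ∀ j ∈ s, ∑ l ∈ s, Q i l * Q l j = 4 * Q i j
  eig : ∀ i ∈ s, ∑ l ∈ s, Q i l * d l = 4 * d i

namespace Quasi

variable {s : Finset ι} {d : ι → ℤ} {Q : ι → ι → ℤ} (h : Quasi s d Q)

include h

theorem sum_sq {i : ι} (hi : i ∈ s) : ∑ l ∈ s, Q i l ^ 2 = 4 * Q i i := by
  rw [← h.sq i hi i hi]
  exact Finset.sum_congr rfl fun l hl => by rw [pow_two, h.symm l hl i hi]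

theorem diag_pos {i : ι} (hi : i ∈ s) (hd : d i ≠ 0) : 1 ≤ Q i i := by
  have h1 := h.sum_sq hi
  have h0 : 0 ≤ ∑ l ∈ s, Q i l ^ 2 := Finset.sum_nonneg fun l _ => sq_nonneg _
  by_contra hcon
  have hz : ∑ l ∈ s, Q i l ^ 2 = 0 := by omega
  have hall := (Finset.sum_eq_zero_iff_of_nonneg fun l _ => sq_nonneg (Q i l)).1 hz
  have he := h.eig i hi
  rw [Finset.sum_eq_zero fun l hl => by rw [pow_eq_zero_iff two_ne_zero |>.1 (hall l hl), zero_mul]]
    at he
  omega

theorem row_four {i : ι} (hi : i ∈ s) (hq : 4 ≤ Q i i) {l : ι} (hl : l ∈ s) (hli : l ≠ i) :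
    Q i l = 0 := by
  classical
  have h1 := h.sum_sq hi
  rw [← Finset.add_sum_erase _ _ hi] at h1
  have h2 : Q i l ^ 2 ≤ ∑ j ∈ s.erase i, Q i j ^ 2 :=
    Finset.single_le_sum (f := fun j => Q i j ^ 2) (fun j _ => sq_nonneg _)
      (Finset.mem_erase.2 ⟨hli, hl⟩)
  have h3 : Q i l ^ 2 ≤ 0 := by nlinarith
  exact pow_eq_zero_iff two_ne_zero |>.1 (le_antisymm h3 (sq_nonneg _))

end Quasi

variable {s : Finset ι} {d : ι → ℤ} {A B : ι → ι → ℤ}

theorem diag_lt_four (hA : Quasi s d A) (hAB : ∀ i ∈ s, ∀ j ∈ s, ∑ l ∈ s, A i l * B l j = d i * d j)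
    {i : ι} (hi : i ∈ s) (hdi : d i = 2) {j : ι} (hj : j ∈ s) (hdj : d j = 1) : A i i < 4 := by
  classical
  by_contra hcon
  push Not at hcon
  have h1 := hAB i hi j hj
  rw [← Finset.add_sum_erase _ _ hi, Finset.sum_eq_zero fun l hl => by
    rw [hA.row_four hi hcon (Finset.mem_of_mem_erase hl) (Finset.ne_of_mem_erase hl), zero_mul],
    add_zero, hdi, hdj] at h1
  have h2 := hA.sum_sq hi
  rw [← Finset.add_sum_erase _ _ hi, Finset.sum_eq_zero fun l hl => by
    rw [hA.row_four hi hcon (Finset.mem_of_mem_erase hl) (Finset.ne_of_mem_erase hl)]; norm_num,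
    add_zero] at h2
  have h4 : A i i = 4 := by nlinarith
  rw [h4] at h1
  omega

theorem parity_row (hA : Quasi s d A) {i : ι} (hi : i ∈ s) : Even (∑ l ∈ s, A i l) := by
  rw [even_iff_two_dvd]
  show ((2 : ℕ) : ℤ) ∣ _
  rw [← ZMod.intCast_zmod_eq_zero_iff_dvd]
  have h := congrArg (fun z : ℤ => (z : ZMod 2)) (hA.sum_sq hi)
  push_cast at h ⊢
  rw [show (4 : ZMod 2) = 0 from rfl, zero_mul] at h
  rw [← h]
  exact Finset.sum_congr rfl fun l _ => by
    generalize ((A i l : ℤ) : ZMod 2) = a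
    revert a; decide

/-- In every row the entries at the columns with `d = 2` have even sum. -/
theorem parity_two (hA : Quasi s d A) (hd : ∀ i ∈ s, d i = 1 ∨ d i = 2) {j : ι} (hj : j ∈ s) :
    Even (∑ l ∈ s.filter (fun l => d l = 2), A j l) := by
  have h1 := parity_row hA hj
  have h2 := hA.eig j hj
  have e : ∑ l ∈ s, A j l * d l = ∑ l ∈ s, A j l + ∑ l ∈ s.filter (fun l => d l = 2), A j l := by
    rw [Finset.sum_filter, ← Finset.sum_add_distrib]
    refine Finset.sum_congr rfl fun l hl => ?_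
    rcases hd l hl with e | e <;> simp [e]; ring
  rw [e] at h2
  obtain ⟨a, ha⟩ := h1
  exact ⟨2 * d j - a, by linarith⟩

/-- There is not exactly one column with `d = 2`. -/
theorem not_one (hA : Quasi s d A)
    (hAB : ∀ i ∈ s, ∀ j ∈ s, ∑ l ∈ s, A i l * B l j = d i * d j)
    (hd : ∀ i ∈ s, d i = 1 ∨ d i = 2) {j : ι} (hj : j ∈ s) (hdj : d j = 1) :
    (s.filter fun l => d l = 2).card ≠ 1 := by
  classical
  intro hc
  obtain ⟨i, he⟩ := Finset.card_eq_one.1 hc
  have hi : i ∈ s.filter (fun l => d l = 2) := by rw [he]; exact Finset.mem_singleton_self i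
  obtain ⟨hi, hdi⟩ := Finset.mem_filter.1 hi
  have hev : ∀ l ∈ s, Even (A l i) := fun l hl => by
    have := parity_two hA hd hl
    rwa [he, Finset.sum_singleton] at this
  have h1 := hA.diag_pos hi (by omega)
  have h2 := diag_lt_four hA hAB hi hdi hj hdj
  have h3 : A i i = 2 := by
    obtain ⟨a, ha⟩ := hev i hi
    omega
  have hsq := hA.sum_sq hi
  have heig := hA.eig i hi
  rw [← Finset.add_sum_erase _ _ hi, h3] at hsq
  rw [← Finset.add_sum_erase _ _ hi, h3, hdi] at heig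
  have hle : ∑ l ∈ s.erase i, A i l * d l * 2 ≤ ∑ l ∈ s.erase i, A i l ^ 2 := by
    refine Finset.sum_le_sum fun l hl => ?_
    have hl' := Finset.mem_of_mem_erase hl
    have hdl : d l = 1 := (hd l hl').resolve_right fun e => by
      have : l ∈ s.filter (fun l => d l = 2) := Finset.mem_filter.2 ⟨hl', e⟩
      rw [he, Finset.mem_singleton] at this
      exact Finset.ne_of_mem_erase hl this
    rw [hdl, mul_one]
    have h4 := four_dvd_sq_of_even (show Even (A i l) by rw [hA.symm i hi l hl']; exact hev l hl')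
    have := le_abs_self (A i l)
    linarith
  rw [← Finset.sum_mul] at hle
  linarith

/-- The two kinds of rows for two columns with `d = 2`. -/
theorem row_kinds (hA : Quasi s d A)
    (hAB : ∀ i ∈ s, ∀ j ∈ s, ∑ l ∈ s, A i l * B l j = d i * d j)
    (hd : ∀ i ∈ s, d i = 1 ∨ d i = 2) {j : ι} (hj : j ∈ s) (hdj : d j = 1) {i i' : ι}
    [DecidableEq ι] (hne : i ≠ i') (he : s.filter (fun l => d l = 2) = {i, i'}) :
    A i i = 2 ∧ A i i' = 2 ∧ (∀ l ∈ (s.erase i).erase i', A i l = 0) ∨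
    A i i = 3 ∧ A i i' = 1 ∧ ∑ l ∈ (s.erase i).erase i', A i l ^ 2 = 2 ∨
    A i i = 2 ∧ A i i' = 0 ∧ (∀ l ∈ (s.erase i).erase i', A i l ^ 2 = A i l) ∧
      ∑ l ∈ (s.erase i).erase i', A i l = 4 := by
  have hi : i ∈ s ∧ d i = 2 := Finset.mem_filter.1 (he ▸ Finset.mem_insert_self i {i'})
  have hi' : i' ∈ s ∧ d i' = 2 := Finset.mem_filter.1 (he ▸
    Finset.mem_insert_of_mem (Finset.mem_singleton_self i'))
  have hi'e : i' ∈ s.erase i := Finset.mem_erase.2 ⟨hne.symm, hi'.1⟩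
  set T := (s.erase i).erase i' with hT
  have hone : ∀ l ∈ T, d l = 1 := by
    intro l hl
    simp only [hT, Finset.mem_erase] at hl
    refine (hd l hl.2.2).resolve_right fun e => ?_
    have : l ∈ s.filter (fun l => d l = 2) := Finset.mem_filter.2 ⟨hl.2.2, e⟩
    rw [he] at this
    simp at this
    tauto
  have hsq := hA.sum_sq hi.1
  have heig := hA.eig i hi.1
  rw [← Finset.add_sum_erase _ _ hi.1, ← Finset.add_sum_erase _ _ hi'e, ← hT] at hsq heig
  rw [Finset.sum_congr rfl fun l hl => by rw [hone l hl, mul_one], hi.2, hi'.2] at heig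
  have hpar := parity_two hA hd hi.1
  rw [he, Finset.sum_pair hne] at hpar
  have hq1 := hA.diag_pos hi.1 (by omega)
  have hq4 := diag_lt_four hA hAB hi.1 hi.2 hj hdj
  have hle : ∑ l ∈ T, A i l ≤ ∑ l ∈ T, A i l ^ 2 := Finset.sum_le_sum fun l _ => Int.le_self_sq _
  have h0 : 0 ≤ ∑ l ∈ T, A i l ^ 2 := Finset.sum_nonneg fun l _ => sq_nonneg _
  obtain ⟨t, ht⟩ := hpar
  have heb : A i i' ^ 2 ≤ 4 := by nlinarith
  have hb1 : -2 ≤ A i i' ∧ A i i' ≤ 2 := by constructor <;> nlinarith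
  obtain ⟨hb1, hb2⟩ := hb1
  rcases (show A i i = 1 ∨ A i i = 2 ∨ A i i = 3 by omega) with hq | hq | hq <;>
    rw [hq] at hsq heig ht ⊢
  · exfalso; nlinarith [sq_nonneg (A i i' - 1)]
  · rcases (show A i i' = -2 ∨ A i i' = 0 ∨ A i i' = 2 by omega) with e | e | e <;>
      rw [e] at hsq heig ⊢
    · exfalso; linarith
    · refine Or.inr (Or.inr ⟨rfl, rfl, fun l hl => ?_, by linarith⟩)
      have hz : ∑ l ∈ T, (A i l ^ 2 - A i l) = 0 := by rw [Finset.sum_sub_distrib]; linarith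
      have := (Finset.sum_eq_zero_iff_of_nonneg fun l _ => by
        have := Int.le_self_sq (A i l); linarith).1 hz l hl
      linarith
    · refine Or.inl ⟨rfl, rfl, fun l hl => ?_⟩
      have hz : ∑ l ∈ T, A i l ^ 2 = 0 := by linarith
      exact pow_eq_zero_iff two_ne_zero |>.1
        ((Finset.sum_eq_zero_iff_of_nonneg fun l _ => sq_nonneg (A i l)).1 hz l hl)
  · rcases (show A i i' = -1 ∨ A i i' = 1 by omega) with e | e <;> rw [e] at hsq heig ⊢
    · exfalso; linarith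
    · exact Or.inr (Or.inl ⟨rfl, rfl, by linarith⟩)

/-- A row of the last kind does not occur. -/
theorem row_kinds' (hA : Quasi s d A)
    (hAB : ∀ i ∈ s, ∀ j ∈ s, ∑ l ∈ s, A i l * B l j = d i * d j)
    (hd : ∀ i ∈ s, d i = 1 ∨ d i = 2) {j : ι} (hj : j ∈ s) (hdj : d j = 1) {i i' : ι}
    [DecidableEq ι] (hne : i ≠ i') (he : s.filter (fun l => d l = 2) = {i, i'}) :
    A i i = 2 ∧ A i i' = 2 ∧ (∀ l ∈ (s.erase i).erase i', A i l = 0) ∨
    A i i = 3 ∧ A i i' = 1 ∧ ∑ l ∈ (s.erase i).erase i', A i l ^ 2 = 2 := by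
  rcases row_kinds hA hAB hd hj hdj hne he with h | h | ⟨hq, hz, h01, hsum⟩
  · exact Or.inl h
  · exact Or.inr h
  exfalso
  have he' : s.filter (fun l => d l = 2) = {i', i} := by rw [he, Finset.pair_comm]
  have hi : i ∈ s := (Finset.mem_filter.1 (he ▸ Finset.mem_insert_self i {i'})).1
  have hi' : i' ∈ s := (Finset.mem_filter.1 (he' ▸ Finset.mem_insert_self i' {i})).1
  have hz' : A i' i = 0 := by rw [← hA.symm i hi i' hi', hz]
  have hT : (s.erase i').erase i = (s.erase i).erase i' := Finset.erase_right_comm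
  rcases row_kinds hA hAB hd hj hdj hne.symm he' with ⟨-, h, -⟩ | ⟨-, h, -⟩ | ⟨hq', -, h01', hsum'⟩
  · omega
  · omega
  rw [hT] at h01' hsum'
  have h := hA.sq i hi i' hi'
  rw [← Finset.add_sum_erase _ _ hi, ← Finset.add_sum_erase _ _
    (Finset.mem_erase.2 ⟨hne.symm, hi'⟩), hz] at h
  have heq : ∀ l ∈ (s.erase i).erase i', A i l * A l i' = A i l := by
    intro l hl
    have hls : l ∈ s := Finset.mem_of_mem_erase (Finset.mem_of_mem_erase hl)
    have hpar := parity_two hA hd hls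
    rw [he, Finset.sum_pair hne, hA.symm l hls i hi, hA.symm l hls i' hi'] at hpar
    rw [hA.symm l hls i' hi']
    have h1 : A i l = 0 ∨ A i l = 1 := by
      have := h01 l hl; rcases eq_or_ne (A i l) 0 with e | e
      · exact Or.inl e
      · right; exact mul_left_cancel₀ e (by rw [mul_one, ← pow_two, this])
    have h2 : A i' l = 0 ∨ A i' l = 1 := by
      have := h01' l hl; rcases eq_or_ne (A i' l) 0 with e | e
      · exact Or.inl e
      · right; exact mul_left_cancel₀ e (by rw [mul_one, ← pow_two, this])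
    obtain ⟨t, ht⟩ := hpar
    rcases h1 with e | e <;> rcases h2 with e' | e' <;> rw [e, e'] <;> first | omega | norm_num
  rw [Finset.sum_congr rfl heq, hsum] at h
  simp at h

/-- There are not exactly two columns with `d = 2`. -/
theorem not_two (hA : Quasi s d A) (hB : Quasi s d B)
    (hAB : ∀ i ∈ s, ∀ j ∈ s, ∑ l ∈ s, A i l * B l j = d i * d j)
    (hBA : ∀ i ∈ s, ∀ j ∈ s, ∑ l ∈ s, B i l * A l j = d i * d j)
    (hd : ∀ i ∈ s, d i = 1 ∨ d i = 2) {j : ι} (hj : j ∈ s) (hdj : d j = 1) :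
    (s.filter fun l => d l = 2).card ≠ 2 := by
  classical
  intro hc
  obtain ⟨i, i', hne, he⟩ := Finset.card_eq_two.1 hc
  have hi : i ∈ s ∧ d i = 2 := Finset.mem_filter.1 (he ▸ Finset.mem_insert_self i {i'})
  have hi' : i' ∈ s ∧ d i' = 2 := Finset.mem_filter.1 (he ▸
    Finset.mem_insert_of_mem (Finset.mem_singleton_self i'))
  have h := hAB i hi.1 i hi.1
  rw [← Finset.add_sum_erase _ _ hi.1, ← Finset.add_sum_erase _ _
    (Finset.mem_erase.2 ⟨hne.symm, hi'.1⟩), hB.symm i' hi'.1 i hi.1,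
    Finset.sum_congr rfl (fun l hl => by
      rw [hB.symm l (Finset.mem_of_mem_erase (Finset.mem_of_mem_erase hl)) i hi.1]), hi.2] at h
  rcases row_kinds' hA hAB hd hj hdj hne he with ⟨a1, a2, a3⟩ | ⟨a1, a2, a3⟩ <;>
    rcases row_kinds' hB hBA hd hj hdj hne he with ⟨b1, b2, b3⟩ | ⟨b1, b2, b3⟩ <;>
      rw [a1, a2, b1, b2] at h
  · rw [Finset.sum_eq_zero fun l hl => by rw [a3 l hl, zero_mul]] at h; omega
  · rw [Finset.sum_eq_zero fun l hl => by rw [a3 l hl, zero_mul]] at h; omega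
  · rw [Finset.sum_eq_zero fun l hl => by rw [b3 l hl, mul_zero]] at h; omega
  · have hlow : ∑ l ∈ (s.erase i).erase i', -((A i l ^ 2 + B i l ^ 2)) ≤
        ∑ l ∈ (s.erase i).erase i', 2 * (A i l * B i l) :=
      Finset.sum_le_sum fun l _ => by nlinarith [sq_nonneg (A i l + B i l)]
    rw [Finset.sum_neg_distrib, Finset.sum_add_distrib, a3, b3, ← Finset.mul_sum] at hlow
    omega

/-- Integral matrices of this kind force the squares of the entries of `d` to differ. -/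
theorem no_two_columns (s : Finset ι) (d : ι → ℤ) (A B : ι → ι → ℤ) (hA : Quasi s d A)
    (hB : Quasi s d B) (hAB : ∀ i ∈ s, ∀ j ∈ s, ∑ l ∈ s, A i l * B l j = d i * d j)
    (hBA : ∀ i ∈ s, ∀ j ∈ s, ∑ l ∈ s, B i l * A l j = d i * d j)
    (hd : ∀ i ∈ s, d i ^ 2 = 1 ∨ d i ^ 2 = 4) {j : ι} (hj : j ∈ s) (hdj : d j = 1) :
    (s.filter fun l => d l ^ 2 = 4).card ≠ 1 ∧ (s.filter fun l => d l ^ 2 = 4).card ≠ 2 := by
  classical
  let σ : ι → ℤ := fun i => if d i < 0 then -1 else 1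
  have hσ : ∀ i, σ i * σ i = 1 := fun i => by simp only [σ]; split_ifs <;> norm_num
  let d' : ι → ℤ := fun i => σ i * d i
  let T : (ι → ι → ℤ) → ι → ι → ℤ := fun Q i l => σ i * σ l * Q i l
  have habs : ∀ i, d' i = |d i| := fun i => by
    simp only [d', σ]
    split_ifs with h
    · rw [abs_of_neg h]; ring
    · rw [abs_of_nonneg (not_lt.1 h)]; ring
  have hd' : ∀ i ∈ s, (d' i = 1 ∨ d' i = 2) ∧ (d' i = 2 ↔ d i ^ 2 = 4) := by
    intro i hi
    rw [habs, ← sq_abs]
    rcases hd i hi with e | e <;> rw [← sq_abs] at e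
    · have : |d i| = 1 := by nlinarith [abs_nonneg (d i)]
      rw [this]; norm_num
    · have : |d i| = 2 := by nlinarith [abs_nonneg (d i)]
      rw [this]; norm_num
  have hprod : ∀ (Q R : ι → ι → ℤ) (i k : ι),
      ∑ l ∈ s, T Q i l * T R l k = σ i * σ k * ∑ l ∈ s, Q i l * R l k := by
    intro Q R i k
    rw [Finset.mul_sum]
    refine Finset.sum_congr rfl fun l _ => ?_
    simp only [T]
    linear_combination σ i * σ k * Q i l * R l k * hσ l
  have hT : ∀ {Q : ι → ι → ℤ}, Quasi s d Q → Quasi s d' (T Q) := fun {Q} hQ =>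
    ⟨fun i hi k hk => by simp only [T]; rw [hQ.symm i hi k hk]; ring,
    fun i hi k hk => by rw [hprod, hQ.sq i hi k hk]; simp only [T]; ring,
    fun i hi => by
      show _ = 4 * (σ i * d i)
      rw [show 4 * (σ i * d i) = σ i * (4 * d i) by ring, ← hQ.eig i hi, Finset.mul_sum]
      refine Finset.sum_congr rfl fun l _ => ?_
      simp only [T, d']
      linear_combination σ i * Q i l * d l * hσ l⟩
  have hfil : s.filter (fun l => d l ^ 2 = 4) = s.filter (fun l => d' l = 2) :=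
    Finset.filter_congr fun l hl => (hd' l hl).2.symm
  have hj' : d' j = 1 := by rw [habs, hdj]; norm_num
  have hAB' : ∀ i ∈ s, ∀ k ∈ s, ∑ l ∈ s, T A i l * T B l k = d' i * d' k := fun i hi k hk => by
    rw [hprod, hAB i hi k hk]; simp only [d']; ring
  have hBA' : ∀ i ∈ s, ∀ k ∈ s, ∑ l ∈ s, T B i l * T A l k = d' i * d' k := fun i hi k hk => by
    rw [hprod, hBA i hi k hk]; simp only [d']; ring
  rw [hfil]
  exact ⟨not_one (hT hA) hAB' (fun i hi => (hd' i hi).1) hj hj',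
    not_two (hT hA) (hT hB) hAB' hBA' (fun i hi => (hd' i hi).1) hj hj'⟩

end H85.AbTwo
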