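import Cfsg.Agent.H85.AbTwo.Free
import Cfsg.Agent.H85.AbTwo.Automizer
import Cfsg.Agent.H20.FreeAbelian.Homocyclic
import Cfsg.Agent.H23.DefectPair

/-!
The number of principal block characters for an abelian Sylow 2-subgroup of order eight or sixteen
with a regular involution (helper85).
-/

set_option autoImplicit false
set_option linter.style.haveILetI false
set_option linter.unusedSectionVars false

open Cfsg Finset

namespace H85.AbTwo

universe u

variable {G : Type u} [Group G] [Fintype G] {M : Ideal AlgInt} [hMp : M.IsPrime]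

local notation "C[" x "]" => (Subgroup.centralizer ({x} : Set _))

variable (P : Sylow 2 G) [hc : IsMulCommutative P]

/-- A square without fixed involutions has order sixteen and exponent four. -/
theorem homocyclic_of_not_fixed
    (hnf : ∀ z ∈ (P : Subgroup G), z * z = 1 → z ≠ 1 →
      ∃ n ∈ Subgroup.normalizer ((P : Subgroup G) : Set G), n * z * n⁻¹ ≠ z)
    (hP : Nat.card (P : Subgroup G) ∣ 16) {u : G} (hu : u ∈ (P : Subgroup G)) (hu2 : u * u ≠ 1) :
    Nat.card (P : Subgroup G) = 16 ∧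
      Nonempty ((P : Subgroup G) ≃* Multiplicative (ZMod (2 ^ 2) × ZMod (2 ^ 2))) := by
  classical
  haveI : Fact (Nat.Prime 2) := ⟨Nat.prime_two⟩
  let V := (P : Subgroup G)
  have hcomm : ∀ a b : V, a * b = b * a := fun a b => hc.is_comm.comm a b
  let sq : V →* V := MonoidHom.mk' (fun v => v * v) fun a b => by
    show a * b * (a * b) = a * a * (b * b)
    rw [mul_assoc, mul_assoc, ← mul_assoc b a b, hcomm b a, mul_assoc]
  set S := sq.range with hS
  have hSne : S ≠ ⊥ := fun e => by
    have h : sq ⟨u, hu⟩ ∈ S := ⟨_, rfl⟩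
    rw [e, Subgroup.mem_bot] at h
    exact hu2 (congrArg Subtype.val h)
  have hprod : Nat.card sq.ker * Nat.card S = Nat.card V := by
    rw [hS, ← Subgroup.index_ker, Subgroup.card_mul_index]
  -- two involutions among the squares
  have hSp : IsPGroup 2 S := P.isPGroup'.to_subgroup S
  have hS1 : 1 < Nat.card S := by
    rcases Nat.lt_or_ge 1 (Nat.card S) with h | h
    · exact h
    · exfalso
      exact hSne (Subgroup.card_eq_one.1 (by have := Nat.card_pos (α := S); omega))
  obtain ⟨z, hz⟩ := exists_prime_orderOf_dvd_card' (G := S) 2 (by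
    obtain ⟨j, hj⟩ := IsPGroup.iff_card.1 hSp
    rcases j with _ | j
    · rw [pow_zero] at hj; omega
    · rw [hj]; exact dvd_pow_self 2 (Nat.succ_ne_zero j))
  have hz1 : ((z : V) : G) ≠ 1 := fun e => by
    rw [show z = 1 from Subtype.ext (Subtype.ext e), orderOf_one] at hz; norm_num at hz
  have hzz : ((z : V) : G) * (z : V) = 1 := by
    have h := congrArg (fun s : S => ((s : V) : G)) (pow_orderOf_eq_one z)
    rw [hz, pow_two] at h
    exact h
  obtain ⟨n, hn, hnz⟩ := hnf _ (z : V).2 hzz hz1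
  have hz' : ∃ w : V, w ∈ S ∧ ((w : G) * w = 1) ∧ (w : G) ≠ 1 ∧ (w : G) ≠ (z : V) := by
    obtain ⟨v, hv⟩ := z.2
    refine ⟨⟨n * (z : V) * n⁻¹, (Subgroup.mem_normalizer_iff.1 hn _).1 (z : V).2⟩,
      ⟨⟨n * (v : G) * n⁻¹, (Subgroup.mem_normalizer_iff.1 hn _).1 v.2⟩, Subtype.ext ?_⟩, ?_,
      fun e => hz1 (conj_eq_one_iff.1 e), hnz⟩
    · show n * (v : G) * n⁻¹ * (n * (v : G) * n⁻¹) = n * ((z : V) : G) * n⁻¹
      rw [_root_.conj_mul]
      congr 2
      exact congrArg Subtype.val hv
    · show n * ((z : V) : G) * n⁻¹ * (n * ((z : V) : G) * n⁻¹) = 1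
      rw [_root_.conj_mul, hzz, mul_one, mul_inv_cancel]
  obtain ⟨w, hwS, hww, hw1, hwz⟩ := hz'
  set T : Finset V := {1, (z : V), w, (z : V) * w} with hT
  have hT4 : T.card = 4 := by
    rw [hT, Finset.card_insert_of_notMem, Finset.card_insert_of_notMem, Finset.card_pair]
    · intro e
      exact hz1 (congrArg Subtype.val (right_eq_mul.1 e) :)
    · simp only [Finset.mem_insert, Finset.mem_singleton, not_or]
      exact ⟨fun e => hwz (congrArg Subtype.val e).symm,
        fun e => hw1 (congrArg Subtype.val (left_eq_mul.1 e) :)⟩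
    · simp only [Finset.mem_insert, Finset.mem_singleton, not_or]
      refine ⟨fun e => hz1 (congrArg Subtype.val e).symm, fun e => hw1 (congrArg Subtype.val e).symm,
        fun e => hwz ?_⟩
      have e' : (1 : G) = ((z : V) : G) * w := congrArg Subtype.val e
      have e'' : (w : G) = ((z : V) : G)⁻¹ := eq_inv_of_mul_eq_one_right e'.symm
      rw [e'', inv_eq_of_mul_eq_one_right hzz]
  have hTS : T ⊆ Finset.univ.filter fun v => v ∈ S ∧ v ∈ sq.ker := by
    have hz0 : (z : V) ∈ sq.ker := Subtype.ext hzz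
    have hw0 : w ∈ sq.ker := Subtype.ext hww
    intro v hv
    simp only [hT, Finset.mem_insert, Finset.mem_singleton] at hv
    simp only [Finset.mem_filter, Finset.mem_univ, true_and]
    rcases hv with rfl | rfl | rfl | rfl
    exacts [⟨one_mem _, one_mem _⟩, ⟨z.2, hz0⟩, ⟨hwS, hw0⟩, ⟨mul_mem z.2 hwS, mul_mem hz0 hw0⟩]
  have h4 := Finset.card_le_card hTS
  rw [hT4] at h4
  have hS4 : 4 ≤ Nat.card S := by
    rw [Nat.card_eq_fintype_card, Fintype.card_subtype]
    exact h4.trans (Finset.card_le_card fun v hv => by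
      simp only [Finset.mem_filter] at hv ⊢; exact ⟨hv.1, hv.2.1⟩)
  have hK4 : 4 ≤ Nat.card sq.ker := by
    rw [Nat.card_eq_fintype_card, Fintype.card_subtype]
    exact h4.trans (Finset.card_le_card fun v hv => by
      simp only [Finset.mem_filter] at hv ⊢; exact ⟨hv.1, hv.2.2⟩)
  have h16 : Nat.card V ≤ 16 := Nat.le_of_dvd (by norm_num) hP
  have hV : Nat.card V = 16 := by nlinarith
  have hK : Nat.card sq.ker = 4 := by nlinarith
  have hSc : Nat.card S = 4 := by nlinarith
  refine ⟨hV, ?_⟩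
  -- the squares are involutions
  have hSK : S = sq.ker := by
    have hsub : (Finset.univ.filter fun v => v ∈ S ∧ v ∈ sq.ker) =
        Finset.univ.filter fun v => v ∈ S := by
      refine Finset.eq_of_subset_of_card_le (fun v hv => by
        simp only [Finset.mem_filter] at hv ⊢; exact ⟨hv.1, hv.2.1⟩) ?_
      rw [← Fintype.card_subtype, ← Nat.card_eq_fintype_card, hSc]
      exact h4
    refine Subgroup.eq_of_le_of_card_ge (fun v hv => ?_) (by rw [hSc, hK])
    have : v ∈ Finset.univ.filter fun v => v ∈ S := by simpa using hv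
    rw [← hsub] at this
    exact (Finset.mem_filter.1 this).2.2
  have h4pow : ∀ v : V, v ^ 4 = 1 := fun v => by
    have : sq v ∈ sq.ker := hSK ▸ ⟨v, rfl⟩
    rw [show v ^ 4 = v * v * (v * v) by rw [← pow_two, ← pow_two, ← pow_mul]]
    exact this
  obtain ⟨a, ha⟩ := z.2
  obtain ⟨b, hb⟩ := hwS
  have h4a : a ^ (2 ^ 2) = 1 := by norm_num; exact h4pow a
  have h4b : b ^ (2 ^ 2) = 1 := by norm_num; exact h4pow b
  let f : Multiplicative (ZMod (2 ^ 2) × ZMod (2 ^ 2)) →* V :=
    MonoidHom.mk' (fun p => a ^ (Multiplicative.toAdd p).1.val * b ^ (Multiplicative.toAdd p).2.val)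
      fun p q => by
        show a ^ ((Multiplicative.toAdd p).1 + (Multiplicative.toAdd q).1).val *
            b ^ ((Multiplicative.toAdd p).2 + (Multiplicative.toAdd q).2).val = _
        rw [ZMod.val_add, ZMod.val_add, ← pow_eq_pow_mod _ h4a,
          ← pow_eq_pow_mod _ h4b, pow_add, pow_add, mul_assoc, mul_assoc,
          ← mul_assoc (a ^ _) (b ^ _) (b ^ _), hcomm (a ^ (Multiplicative.toAdd q).1.val) (b ^ _),
          mul_assoc]
  have hsqf : ∀ i j : ℕ, sq (a ^ i * b ^ j) = (z : V) ^ i * w ^ j := by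
    intro i j
    rw [map_mul, map_pow, map_pow, ha, hb]
  have hinj : Function.Injective f := by
    rw [injective_iff_map_eq_one]
    intro p hp
    set i := (Multiplicative.toAdd p).1.val with hi
    set j := (Multiplicative.toAdd p).2.val with hj
    have hp' : a ^ i * b ^ j = 1 := hp
    have hi4 : i < 4 := ZMod.val_lt _
    have hj4 : j < 4 := ZMod.val_lt _
    have hz2 : (z : V) ^ 2 = 1 := Subtype.ext (by rw [Subgroup.coe_pow, pow_two]; exact hzz)
    have hw2 : w ^ 2 = 1 := Subtype.ext (by rw [Subgroup.coe_pow, pow_two]; exact hww)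
    have hmod : ∀ k l : ℕ, (z : V) ^ k * w ^ l = 1 → k % 2 = 0 ∧ l % 2 = 0 := by
      intro k l e
      rw [pow_eq_pow_mod k hz2, pow_eq_pow_mod l hw2] at e
      rcases Nat.mod_two_eq_zero_or_one k with hk | hk <;>
        rcases Nat.mod_two_eq_zero_or_one l with hl | hl
      · exact ⟨hk, hl⟩
      · rw [hk, hl, pow_zero, pow_one, one_mul] at e
        exact absurd (congrArg Subtype.val e) hw1
      · rw [hk, hl, pow_zero, pow_one, mul_one] at e
        exact absurd (congrArg Subtype.val e) hz1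
      · rw [hk, hl, pow_one, pow_one] at e
        exfalso
        have e' : ((z : V) : G) * w = 1 := congrArg Subtype.val e
        exact hwz (by rw [eq_inv_of_mul_eq_one_right e', inv_eq_of_mul_eq_one_right hzz])
    obtain ⟨hie, hje⟩ := hmod i j (by rw [← hsqf, hp', map_one])
    obtain ⟨i', hi'⟩ : ∃ i', i = 2 * i' := ⟨i / 2, by omega⟩
    obtain ⟨j', hj'⟩ : ∃ j', j = 2 * j' := ⟨j / 2, by omega⟩
    obtain ⟨hie', hje'⟩ := hmod i' j' (by
      rw [← ha, ← hb, ← map_pow, ← map_pow]
      show a ^ i' * a ^ i' * (b ^ j' * b ^ j') = 1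
      rw [← pow_add, ← pow_add, ← two_mul, ← two_mul, ← hi', ← hj', hp'])
    have hi0 : i = 0 := by omega
    have hj0 : j = 0 := by omega
    exact Multiplicative.toAdd.injective (Prod.ext ((ZMod.val_eq_zero _).1 hi0)
      ((ZMod.val_eq_zero _).1 hj0))
  refine ⟨(MulEquiv.ofBijective f ((Fintype.bijective_iff_injective_and_card f).2 ⟨hinj, ?_⟩)).symm⟩
  rw [Fintype.card_multiplicative, Fintype.card_prod, ZMod.card, ← Nat.card_eq_fintype_card]
  change (2 ^ 2) * (2 ^ 2) = Nat.card V
  rw [hV]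
  norm_num

theorem reg_conj {x m : G} (hm : m ∈ Subgroup.normalizer ((P : Subgroup G) : Set G))
    (h : Reg (P : Subgroup G) x) : Reg (P : Subgroup G) (m * x * m⁻¹) := by
  intro n hn e w hw
  have e' : (m⁻¹ * n * m) * x * (m⁻¹ * n * m)⁻¹ = x := by
    calc (m⁻¹ * n * m) * x * (m⁻¹ * n * m)⁻¹ = m⁻¹ * (n * (m * x * m⁻¹) * n⁻¹) * m := by group
      _ = _ := by rw [e]; group
  have hw' : m⁻¹ * w * m ∈ (P : Subgroup G) := by
    have := (Subgroup.mem_normalizer_iff.1 (inv_mem hm) w).1 hw
    simpa using this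
  have h' := h _ (mul_mem (mul_mem (inv_mem hm) hn) hm) e' _ hw'
  calc w * n = m * (m⁻¹ * w * m * (m⁻¹ * n * m)) * m⁻¹ := by group
    _ = m * (m⁻¹ * n * m * (m⁻¹ * w * m)) * m⁻¹ := by rw [h']
    _ = n * w := by group

theorem odd_card_autG : Odd (Nat.card (H20.autG (P : Subgroup G))) := by
  rw [H20.card_autG]
  exact (odd_index P).of_dvd_nat ((Subgroup.relIndex_dvd_of_le_left _
    (show (P : Subgroup G) ≤ Subgroup.centralizer ((P : Subgroup G) : Set G) from fun w hw v hv =>
      congrArg Subtype.val (hc.is_comm.comm ⟨v, hv⟩ ⟨w, hw⟩))).trans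
    (Subgroup.relIndex_dvd_index_of_le Subgroup.le_normalizer))

/-- The automizer of an irregular elementary Sylow subgroup has order nine. -/
theorem card_autG_nine (hR : Nat.card (P : Subgroup G) = 8 ∨ Nat.card (P : Subgroup G) = 16)
    (hnf : ∀ z ∈ (P : Subgroup G), z ≠ 1 →
      ∃ n ∈ Subgroup.normalizer ((P : Subgroup G) : Set G), n * z * n⁻¹ ≠ z)
    {x : G} (hx : x ∈ (P : Subgroup G)) (hx1 : x ≠ 1) (hreg : Reg (P : Subgroup G) x)
    {u : G} (hu : u ∈ (P : Subgroup G)) (hu1 : u ≠ 1) (hirr : ¬ Reg (P : Subgroup G) u) :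
    Nat.card (P : Subgroup G) = 16 ∧ Nat.card (H20.autG (P : Subgroup G)) = 9 := by
  classical
  set E := H20.autG (P : Subgroup G) with hE
  haveI : Fintype E := Fintype.ofFinite _
  have hodd : Odd (Nat.card E) := odd_card_autG P
  let u' : (P : Subgroup G) := ⟨u, hu⟩
  let x' : (P : Subgroup G) := ⟨x, hx⟩
  have himg : ∀ {n : G} (hn : n ∈ Subgroup.normalizer ((P : Subgroup G) : Set G)),
      (P : Subgroup G).normalizerMonoidHom ⟨n, hn⟩ ∈ E := fun hn => ⟨⟨_, hn⟩, rfl⟩
  -- `E` is regular on the orbit of `x`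
  have hinj : Function.Injective fun g : E => (g : MulAut (P : Subgroup G)) x' := by
    intro g g' e
    have e1 : ((g'⁻¹ * g : E) : MulAut (P : Subgroup G)) x' = x' := by
      show (g' : MulAut (P : Subgroup G))⁻¹ ((g : MulAut (P : Subgroup G)) x') = x'
      rw [show (g : MulAut (P : Subgroup G)) x' = (g' : MulAut (P : Subgroup G)) x' from e,
        MulAut.inv_apply_self]
    obtain ⟨n, hn⟩ := MonoidHom.mem_range.1 (g'⁻¹ * g : E).2
    rw [← hn] at e1
    have hcn := hreg (n : G) n.2 (congrArg Subtype.val e1)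
    have e2 : ((g'⁻¹ * g : E) : MulAut (P : Subgroup G)) = 1 := by
      rw [← hn]
      refine MulEquiv.ext fun v => Subtype.ext ?_
      show (n : G) * (v : G) * (n : G)⁻¹ = v
      rw [← hcn v v.2, mul_inv_cancel_right]
    exact (inv_mul_eq_one.1 (Subtype.ext e2 : g'⁻¹ * g = 1)).symm
  set O := Finset.univ.image fun g : E => (g : MulAut (P : Subgroup G)) x' with hO
  have hOc : O.card = Nat.card E := by
    rw [hO, Finset.card_image_of_injective _ hinj, Finset.card_univ, Nat.card_eq_fintype_card]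
  have hO1 : O ⊆ (Finset.univ : Finset (P : Subgroup G)).erase 1 := by
    intro v hv
    obtain ⟨g, -, rfl⟩ := Finset.mem_image.1 hv
    refine Finset.mem_erase.2 ⟨fun e => hx1 ?_, Finset.mem_univ _⟩
    exact congrArg Subtype.val ((g : MulAut (P : Subgroup G)).injective (e.trans (map_one _).symm))
  have hle : Nat.card E ≤ Nat.card (P : Subgroup G) - 1 := by
    rw [← hOc, Nat.card_eq_fintype_card, ← Finset.card_univ,
      ← Finset.card_erase_of_mem (Finset.mem_univ (1 : (P : Subgroup G)))]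
    exact Finset.card_le_card hO1
  -- a nontrivial stabilizer
  have hstab : MulAction.stabilizer E u' ≠ ⊥ := by
    intro hbot
    apply hirr
    intro n hn e w hw
    have h1 : (⟨_, himg hn⟩ : E) ∈ MulAction.stabilizer E u' :=
      (MulAction.mem_stabilizer_iff (a := u')).2 (Subtype.ext e)
    rw [hbot, Subgroup.mem_bot] at h1
    have e' : n * w * n⁻¹ = w :=
      congrArg Subtype.val (congrArg (fun f : E => (f : MulAut (P : Subgroup G)) ⟨w, hw⟩) h1)
    exact (mul_inv_eq_iff_eq_mul.1 e').symm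
  have htop : MulAction.stabilizer E u' ≠ ⊤ := by
    intro htop
    obtain ⟨n, hn, hne⟩ := hnf u hu hu1
    have h1 : (⟨_, himg hn⟩ : E) ∈ MulAction.stabilizer E u' := by
      rw [htop]; exact Subgroup.mem_top _
    exact hne (congrArg Subtype.val ((MulAction.mem_stabilizer_iff (a := u')).1 h1))
  have hnp : ¬ (Nat.card E).Prime := fun hp => by
    rcases hp.eq_one_or_self_of_dvd _ (Subgroup.card_subgroup_dvd_card
      (MulAction.stabilizer E u')) with h | h
    · exact hstab (Subgroup.card_eq_one.1 h)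
    · exact htop (Subgroup.eq_top_of_card_eq _ h)
  have h1 : Nat.card E ≠ 1 := fun h => hstab (Subgroup.card_eq_one.1
    (Nat.dvd_one.1 (h ▸ Subgroup.card_subgroup_dvd_card (MulAction.stabilizer E u'))))
  -- not transitive
  have h15 : Nat.card E ≠ Nat.card (P : Subgroup G) - 1 := by
    intro h
    apply hirr
    have heq : O = (Finset.univ : Finset (P : Subgroup G)).erase 1 := by
      refine Finset.eq_of_subset_of_card_le hO1 ?_
      rw [hOc, h, Finset.card_erase_of_mem (Finset.mem_univ _), Finset.card_univ,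
        Nat.card_eq_fintype_card]
    have hu' : u' ∈ O := by
      rw [heq]
      exact Finset.mem_erase.2 ⟨fun e => hu1 (congrArg Subtype.val e), Finset.mem_univ _⟩
    obtain ⟨g, -, hg⟩ := Finset.mem_image.1 hu'
    obtain ⟨n, hn⟩ := MonoidHom.mem_range.1 g.2
    rw [← hn] at hg
    have e : (n : G) * x * (n : G)⁻¹ = u := congrArg Subtype.val hg
    rw [← e]
    exact reg_conj P n.2 hreg
  obtain ⟨m, hm⟩ := hodd
  rcases hR with h | h <;> rw [h] at hle h15 ⊢
  · exfalso
    have hm3 : m ≤ 3 := by omega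
    interval_cases m <;> rw [hm] at h1 hnp h15
    · exact h1 rfl
    · exact hnp (by norm_num)
    · exact hnp (by norm_num)
    · exact h15 rfl
  · refine ⟨rfl, ?_⟩
    have hm7 : m ≤ 7 := by omega
    interval_cases m <;> rw [hm] at h1 hnp h15 ⊢ <;>
      first
      | rfl
      | exact absurd rfl h1
      | exact absurd rfl h15
      | exact absurd (by norm_num) hnp

/-- The count when the odd core is trivial. -/
theorem card_of_core (hM : IsPModular 2 M) (h8 : Nat.card (P : Subgroup G) = 16 → Eight.{u} M)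
    (hO : pPrimeCore 2 G = ⊥) (hR : Nat.card (P : Subgroup G) = 8 ∨ Nat.card (P : Subgroup G) = 16)
    {x : G} (hx : x ∈ (P : Subgroup G)) (hx2 : orderOf x = 2) (hreg : Reg (P : Subgroup G) x) :
    (Nat.card (P : Subgroup G) = 8 → Nat.card (principalBlock M G) = 8) ∧
      (Nat.card (P : Subgroup G) = 16 →
        Nat.card (principalBlock M G) = 8 ∨ Nat.card (principalBlock M G) = 16) := by
  classical
  haveI : Fact (Nat.Prime 2) := ⟨Nat.prime_two⟩
  by_cases hfix : ∃ z ∈ (P : Subgroup G), z ≠ 1 ∧ z * z = 1 ∧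
      ∀ n ∈ Subgroup.normalizer ((P : Subgroup G) : Set G), n * z * n⁻¹ = z
  · obtain ⟨z, hz, hz1, hzz, hN⟩ := hfix
    have hzc := central_of_fixed hO P hz hN
    have hz2 : orderOf z = 2 := orderOf_eq_prime (by rw [pow_two, hzz]) hz1
    exact ⟨fun h => card_of_central_eight P hM hx hx2 hreg hzc hz2 hz h,
      fun h => Or.inr (card_of_central_sixteen P hM (h8 h) hx hx2 hreg hzc hz2 hz h)⟩
  push Not at hfix
  by_cases hE : ∀ u ∈ (P : Subgroup G), u * u = 1
  · have hx1 : x ≠ 1 := fun e => by rw [e, orderOf_one] at hx2; norm_num at hx2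
    have hnf : ∀ z ∈ (P : Subgroup G), z ≠ 1 →
        ∃ n ∈ Subgroup.normalizer ((P : Subgroup G) : Set G), n * z * n⁻¹ ≠ z :=
      fun z hz hz1 => hfix z hz hz1 (hE z hz)
    by_cases hall : ∀ u ∈ (P : Subgroup G), u ≠ 1 → Reg (P : Subgroup G) u
    · obtain ⟨h1, hk, hne, hsum⟩ := column_data P hM hx hx2 hreg
      have hodd : ∀ χ ∈ H22.blockFinset (principalBlock M G), Odd (dv x χ) := fun χ hχ =>
        odd_of_free P hE hall hM hO hx hx2 hR χ (H22.mem_blockFinset.1 hχ)
      refine ⟨fun h => ?_, fun h => ?_⟩ <;> rw [h] at hsum <;> rw [← hk]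
      · exact (card_eight _ _ hne _ h1 (dv_one hx2) (by exact_mod_cast hsum)).2 hodd
      · exact (card_sixteen _ _ hne _ h1 (dv_one hx2) (by exact_mod_cast hsum)).2.1 hodd
    · push Not at hall
      obtain ⟨u, hu, hu1, hirr⟩ := hall
      obtain ⟨h16, h9⟩ := card_autG_nine P hR hnf hx hx1 hreg hu hu1 hirr
      obtain ⟨A, B, hAB⟩ := exists_nine_of_card P h16 hE h9
      exact ⟨fun h => absurd h (by omega), fun _ => Or.inr (hAB.count hM (h8 h16)).1⟩
  · push Not at hE
    obtain ⟨u, hu, hu2⟩ := hE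
    have hdvd : Nat.card (P : Subgroup G) ∣ 16 := by rcases hR with h | h <;> rw [h] <;> norm_num
    obtain ⟨h16, ⟨e⟩⟩ := homocyclic_of_not_fixed P (fun z hz hzz hz1 => hfix z hz hz1 hzz) hdvd hu hu2
    refine ⟨fun h => absurd h (by omega), fun _ => ?_⟩
    haveI := H20.k_charP (p := 2) hM
    haveI := H23.isAlgClosed_k hM.2.1
    rcases H20.FAb.homocyclic_invariants M hM (principalBlock M G) H20.isPBlock_principalBlock
      (P : Subgroup G) ((H23.isDefectGroup_principal_iff hM _).2 ⟨P, rfl⟩) 2 (by norm_num) ⟨e⟩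
      with ⟨-, h⟩ | ⟨-, h⟩
    · exact Or.inr (by rw [h]; norm_num)
    · left; rw [show (4 : ℕ) ^ 2 = 16 from rfl] at h; omega

omit hc in
/-- The count. -/
theorem card_principal (hM : IsPModular 2 M) (h8 : Nat.card (P : Subgroup G) = 16 → Eight.{u} M)
    (hab : IsMulCommutative P) (hR : Nat.card (P : Subgroup G) = 8 ∨ Nat.card (P : Subgroup G) = 16)
    {x : G} (hx : x ∈ (P : Subgroup G)) (hx2 : orderOf x = 2) (hreg : Reg (P : Subgroup G) x) :
    (Nat.card (P : Subgroup G) = 8 → Nat.card (principalBlock M G) = 8) ∧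
      (Nat.card (P : Subgroup G) = 16 →
        Nat.card (principalBlock M G) = 8 ∨ Nat.card (principalBlock M G) = 16) := by
  haveI := hab
  obtain ⟨H, iH, iF, Q, y, hO, hQc, hQ, hy, hy2, hyreg, hk⟩ := exists_reduction hM P hx hx2 hreg
  haveI := hQc
  have hQ' : Nat.card (Q : Subgroup H) = Nat.card (P : Subgroup G) := hQ
  have h := card_of_core Q hM (fun e => h8 (hQ'.symm.trans e)) hO (by rw [hQ']; exact hR) hy hy2 hyreg
  rwa [hQ', hk] at h

omit hc in
theorem eight (hM : IsPModular 2 M) : Eight.{u} M := by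
  intro H _ _ Q hQ h8 y hy hy2 hreg
  exact (card_principal Q hM (fun e => absurd e (by omega)) hQ (Or.inl h8) hy hy2 hreg).1 h8

end H85.AbTwo
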