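import Cfsg.Agent.H85.AbTwo.Central
import Cfsg.Agent.H85.AbTwo.Combinatorics
import Cfsg.Agent.H11.Star.Star
import Cfsg.Agent.H14.BrauerInduction

/-!
The generalized character cutting out the 2-sections that avoid an invariant subgroup of an abelian
Sylow 2-subgroup, and its matrix on the principal block (helper85).
-/

set_option autoImplicit false
set_option linter.style.haveILetI false
set_option linter.unusedSectionVars false

open Cfsg Finset
open scoped ComplexConjugate

namespace H85.AbTwo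

universe u

variable {G : Type u} [Group G] [Fintype G] {M : Ideal AlgInt} [hMp : M.IsPrime]

local notation "C[" x "]" => (Subgroup.centralizer ({x} : Set _))

variable (P : Sylow 2 G)

/-- The 2-part is conjugate into `P` outside `B`. -/
def Out (B : Subgroup G) (g : G) : Prop :=
  ∃ u ∈ (P : Subgroup G), u ∉ B ∧ IsConj (H20.pPart 2 g) u

open Classical in
/-- Four times the indicator of these sections. -/
noncomputable def fOut (B : Subgroup G) (g : G) : ℂ := if Out P B g then 4 else 0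

theorem out_congr {B : Subgroup G} {g h : G} (e : IsConj (H20.pPart 2 g) (H20.pPart 2 h)) :
    Out P B g ↔ Out P B h :=
  exists_congr fun _ => and_congr_right fun _ => and_congr_right fun _ =>
    ⟨fun hg => e.symm.trans hg, fun hh => e.trans hh⟩

theorem fOut_congr {B : Subgroup G} {g h : G} (e : IsConj (H20.pPart 2 g) (H20.pPart 2 h)) :
    fOut P B g = fOut P B h := by
  classical
  exact if_congr (out_congr P e) rfl rfl

theorem fOut_classFunction (B : Subgroup G) : IsClassFunction G (fOut P B) := by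
  haveI : Fact (Nat.Prime 2) := ⟨Nat.prime_two⟩
  intro g h
  refine fOut_congr P ?_
  rw [H20.pPart_conj]
  exact (_root_.isConj_iff.2 ⟨h, rfl⟩ : IsConj (H20.pPart 2 g) _).symm

variable [hc : IsMulCommutative P]

theorem out_mem {B : Subgroup G}
    (hB : Subgroup.normalizer ((P : Subgroup G) : Set G) ≤ Subgroup.normalizer (B : Set G))
    {u : G} (hu : u ∈ (P : Subgroup G)) : Out P B u ↔ u ∉ B := by
  haveI : Fact (Nat.Prime 2) := ⟨Nat.prime_two⟩
  have e : H20.pPart 2 u = u := H20.pPart_eq_self (orderOf_pow_mem P hu)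
  constructor
  · rintro ⟨v, hv, hvB, huv⟩ huB
    rw [e] at huv
    obtain ⟨n, hn, rfl⟩ := exists_norm P hu hv huv
    exact hvB ((Subgroup.mem_normalizer_iff.1 (hB hn) u).1 huB)
  · exact fun h => ⟨u, hu, h, by rw [e]⟩

theorem isGen_fOut {B : Subgroup G} (hB4 : Nat.card B * 4 = Nat.card (P : Subgroup G))
    (hBP : B ≤ (P : Subgroup G))
    (hB : Subgroup.normalizer ((P : Subgroup G) : Set G) ≤ Subgroup.normalizer (B : Set G)) :
    IsGeneralizedCharacter G (fOut P B) := by
  classical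
  haveI : Fact (Nat.Prime 2) := ⟨Nat.prime_two⟩
  -- on the Sylow subgroup it is a difference of characters
  set B' := B.subgroupOf (P : Subgroup G) with hB'
  haveI : Fintype B' := Fintype.ofFinite _
  have hind : ∀ u : (P : Subgroup G),
      indFun B' (fun _ => (1 : ℂ)) u = if (u : G) ∈ B then 4 else 0 := by
    intro u
    have hconj : ∀ x : (P : Subgroup G), x⁻¹ * u * x = u := fun x => by
      rw [mul_assoc, hc.is_comm.comm u x, inv_mul_cancel_left]
    simp only [indFun, hconj, Finset.sum_const, Finset.card_univ, nsmul_eq_mul,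
      ← Nat.card_eq_fintype_card]
    by_cases hu : (u : G) ∈ B
    · have hu' : u ∈ B' := hu
      rw [H12.extendByZero_mk B' _ hu', if_pos hu, mul_one, ← hB4,
        show Nat.card B' = Nat.card B from Nat.card_congr (Subgroup.subgroupOfEquivOfLe hBP).toEquiv]
      push_cast
      rw [← mul_assoc, inv_mul_cancel₀ (Nat.cast_ne_zero.2 Nat.card_pos.ne'), one_mul]
    · have hu' : u ∉ B' := hu
      rw [H12.extendByZero_of_notMem B' _ hu', if_neg hu, mul_zero, mul_zero]
  have hψ : IsGeneralizedCharacter (P : Subgroup G) fun u : (P : Subgroup G) => fOut P B (u : G) := by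
    refine ⟨fun _ => ((4 : ℕ) : ℂ), indFun B' fun _ => (1 : ℂ), H12.isCharacter_natCast 4,
      H21.indFun_isCharacter B' H12.isCharacter_one, funext fun u => ?_⟩
    rw [Pi.sub_apply, hind, fOut]
    by_cases hu : (u : G) ∈ B
    · rw [if_neg fun h => (out_mem P hB u.2).1 h hu, if_pos hu]; norm_num
    · rw [if_pos ((out_mem P hB u.2).2 hu), if_neg hu]; norm_num
  refine H14.isGeneralizedCharacter_of_elementary _ (fOut_classFunction P B) fun E q hq hE => ?_
  obtain ⟨S, K, hL, hSK⟩ := H11.Star.exists_split_of_elementary (p := 2) hq hE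
  obtain ⟨c, hcP⟩ := hL.pgrp.exists_le_sylow
  obtain ⟨g, hg⟩ := MulAction.exists_smul_eq G c P
  have hSP : ∀ v ∈ S, g * v * g⁻¹ ∈ (P : Subgroup G) := by
    intro v hv
    have h : (P : Subgroup G) = (c : Subgroup G).map (MulAut.conj g).toMonoidHom := by
      rw [← hg]; rfl
    rw [h]
    exact ⟨v, hcP hv, rfl⟩
  have hKS : S ≤ Subgroup.normalizer (K : Set G) := fun v hv => by
    rw [Subgroup.mem_normalizer_iff]
    intro k
    constructor
    · intro hk
      rwa [Subgroup.mem_centralizer_iff.1 (hL.cent hk) v hv, mul_inv_cancel_right]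
    · intro hk
      have h := Subgroup.mem_centralizer_iff.1 (hL.cent hk) v hv
      have : v * k * v⁻¹ = k := by
        calc v * k * v⁻¹ = v⁻¹ * (v * (v * k * v⁻¹)) := by group
          _ = v⁻¹ * ((v * k * v⁻¹) * v) := by rw [h]
          _ = k := by group
      rwa [this] at hk
  have hdec : ∀ e : E, ∃ v ∈ S, (∃ k ∈ K, v * k = (e : G)) ∧ H20.pPart 2 (e : G) = v := by
    intro e
    have he : (e : G) ∈ ((S ⊔ K : Subgroup G) : Set G) := by rw [hSK]; exact e.2
    rw [Subgroup.coe_mul_of_left_le_normalizer_right _ _ hKS] at he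
    obtain ⟨v, hv, k, hk, hvk⟩ := he
    refine ⟨v, hv, ⟨k, hk, hvk⟩, ?_⟩
    obtain ⟨j, hj⟩ := hL.pgrp ⟨v, hv⟩
    obtain ⟨i, -, hi⟩ := (Nat.dvd_prime_pow Nat.prime_two).1
      (orderOf_dvd_of_pow_eq_one (congrArg Subtype.val hj : v ^ 2 ^ j = 1))
    exact ((H20.isPPart_unique' hvk (Subgroup.mem_centralizer_iff.1 (hL.cent hk) v hv)
      ⟨i, hi⟩ fun h => hL.cop (h.trans (Subgroup.orderOf_dvd_natCard _ hk))).1).symm
  let π : E →* (P : Subgroup G) :=
    MonoidHom.mk' (fun e => ⟨g * H20.pPart 2 (e : G) * g⁻¹, by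
      obtain ⟨v, hv, -, he⟩ := hdec e
      rw [he]; exact hSP v hv⟩) fun e₁ e₂ => by
      apply Subtype.ext
      obtain ⟨v₁, hv₁, ⟨k₁, hk₁, e1⟩, p1⟩ := hdec e₁
      obtain ⟨v₂, hv₂, ⟨k₂, hk₂, e2⟩, p2⟩ := hdec e₂
      show g * H20.pPart 2 ((e₁ : G) * e₂) * g⁻¹ =
        g * H20.pPart 2 (e₁ : G) * g⁻¹ * (g * H20.pPart 2 (e₂ : G) * g⁻¹)
      rw [p1, p2, _root_.conj_mul]
      congr 2
      have hcomm : k₁ * v₂ = v₂ * k₁ :=
        (Subgroup.mem_centralizer_iff.1 (hL.cent hk₁) v₂ hv₂).symm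
      have hprod : v₁ * v₂ * (k₁ * k₂) = (e₁ : G) * e₂ := by
        rw [← e1, ← e2]
        calc v₁ * v₂ * (k₁ * k₂) = v₁ * (v₂ * k₁) * k₂ := by group
          _ = v₁ * (k₁ * v₂) * k₂ := by rw [hcomm]
          _ = _ := by group
      obtain ⟨j, hj⟩ := hL.pgrp ⟨_, mul_mem hv₁ hv₂⟩
      obtain ⟨i, -, hi⟩ := (Nat.dvd_prime_pow Nat.prime_two).1
        (orderOf_dvd_of_pow_eq_one (congrArg Subtype.val hj : (v₁ * v₂) ^ 2 ^ j = 1))
      exact ((H20.isPPart_unique' hprod
        (Subgroup.mem_centralizer_iff.1 (hL.cent (mul_mem hk₁ hk₂)) _ (mul_mem hv₁ hv₂))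
        ⟨i, hi⟩ fun h => hL.cop (h.trans (Subgroup.orderOf_dvd_natCard _ (mul_mem hk₁ hk₂)))).1).symm
  obtain ⟨a, b, ha, hb, hab⟩ := hψ
  refine ⟨a ∘ π, b ∘ π, H12.IsCharacter.comp ha π, H12.IsCharacter.comp hb π, funext fun e => ?_⟩
  have h := congrFun hab (π e)
  show fOut P B (e : G) = a (π e) - b (π e)
  rw [Pi.sub_apply] at h
  rw [← h]
  refine fOut_congr P ?_
  show IsConj (H20.pPart 2 (e : G)) (H20.pPart 2 (g * H20.pPart 2 (e : G) * g⁻¹))
  rw [H20.pPart_conj, H20.pPart_eq_self (H20.exists_orderOf_pPart _)]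
  exact _root_.isConj_iff.2 ⟨g, rfl⟩

theorem conj_fOut (B : Subgroup G) (g : G) : conj (fOut P B g) = fOut P B g := by
  rw [fOut]
  split_ifs
  · rw [map_ofNat]
  · rw [map_zero]

/-- The matrix of `fOut` on the irreducible characters. -/
noncomputable def qm (B : Subgroup G) (χ ψ : IrrCharacter G) : ℤ :=
  ⌊(classInner (fun g => fOut P B g * (χ : G → ℂ) g) (ψ : G → ℂ)).re⌋

theorem qm_eq {B : Subgroup G} (hf : IsGeneralizedCharacter G (fOut P B))
    (χ ψ : IrrCharacter G) :
    (qm P B χ ψ : ℂ) = classInner (fun g => fOut P B g * (χ : G → ℂ) g) (ψ : G → ℂ) := by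
  obtain ⟨a, b, ha, hb, hab⟩ := hf
  have hg : IsGeneralizedCharacter G (fun g => fOut P B g * (χ : G → ℂ) g) := by
    refine ⟨a * (χ : G → ℂ), b * (χ : G → ℂ), H12.IsCharacter.mul ha (H12.isCharacter_irr χ),
      H12.IsCharacter.mul hb (H12.isCharacter_irr χ), funext fun g => ?_⟩
    show fOut P B g * _ = _
    rw [hab, Pi.sub_apply, Pi.sub_apply, Pi.mul_apply, Pi.mul_apply]; ring
  obtain ⟨z, hz⟩ := (H12.isGeneralizedCharacter_iff.1 hg).2 ψ
  rw [qm, hz, Complex.intCast_re, Int.floor_intCast]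

theorem qm_symm {B : Subgroup G} (hf : IsGeneralizedCharacter G (fOut P B))
    (χ ψ : IrrCharacter G) : qm P B χ ψ = qm P B ψ χ := by
  apply Int.cast_injective (α := ℂ)
  have h : conj (classInner (fun g => fOut P B g * (ψ : G → ℂ) g) (χ : G → ℂ)) =
      classInner (fun g => fOut P B g * (χ : G → ℂ) g) (ψ : G → ℂ) := by
    rw [H12.conj_classInner]
    simp only [classInner]
    congr 1
    refine Finset.sum_congr rfl fun g _ => ?_
    rw [map_mul, conj_fOut]
    ring
  rw [qm_eq P hf, ← h, ← qm_eq P hf, map_intCast]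

/-- The function times a principal character stays in the principal block. -/
theorem sum_qm (hM : IsPModular 2 M) {B : Subgroup G} (hf : IsGeneralizedCharacter G (fOut P B))
    {χ : IrrCharacter G} (hχ : χ ∈ principalBlock M G) (g : G) :
    ∑ ψ ∈ H22.blockFinset (principalBlock M G), (qm P B χ ψ : ℂ) * (ψ : G → ℂ) g =
      fOut P B g * (χ : G → ℂ) g := by
  classical
  haveI : Fact (Nat.Prime 2) := ⟨Nat.prime_two⟩
  set S := H22.blockFinset (principalBlock M G)
  let K : G → ℂ := fun h => ∑ ψ ∈ S, (ψ : G → ℂ) g * conj ((ψ : G → ℂ) h)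
  have hK : ∀ h : G, fOut P B h * K h = fOut P B g * K h := by
    intro h
    by_cases hgh : IsConj (H20.pPart 2 g) (H20.pPart 2 h)
    · rw [fOut_congr P hgh]
    · have h0 := H20.block_orthogonality hM hgh (H20.isPBlock_principalBlock (M := M))
      rw [H22.finsum_mem_block] at h0
      have : K h = 0 := by
        simp only [K, ← H12.irr_inv]
        exact h0
      rw [this, mul_zero, mul_zero]
  have h1 : ∀ ψ : IrrCharacter G, (qm P B χ ψ : ℂ) * (ψ : G → ℂ) g = (Nat.card G : ℂ)⁻¹ *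
      ∑ h : G, fOut P B h * (χ : G → ℂ) h * conj ((ψ : G → ℂ) h) * (ψ : G → ℂ) g := fun ψ => by
    rw [qm_eq P hf, H12.classInner_def, mul_assoc, Finset.sum_mul]
  rw [Finset.sum_congr rfl fun ψ _ => h1 ψ, ← Finset.mul_sum, Finset.sum_comm]
  have h2 : ∀ h : G, ∑ ψ ∈ S, fOut P B h * (χ : G → ℂ) h * conj ((ψ : G → ℂ) h) * (ψ : G → ℂ) g =
      fOut P B g * ((χ : G → ℂ) h * K h) := by
    intro h
    calc ∑ ψ ∈ S, fOut P B h * (χ : G → ℂ) h * conj ((ψ : G → ℂ) h) * (ψ : G → ℂ) g =
          (χ : G → ℂ) h * (fOut P B h * K h) := by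
            simp only [K, Finset.mul_sum]
            exact Finset.sum_congr rfl fun ψ _ => by ring
      _ = _ := by rw [hK]; ring
  rw [Finset.sum_congr rfl fun h _ => h2 h, ← Finset.mul_sum]
  have h3 : ∑ h : G, (χ : G → ℂ) h * K h = (Nat.card G : ℂ) * (χ : G → ℂ) g := by
    simp only [K, Finset.mul_sum]
    rw [Finset.sum_comm]
    have e : ∀ ψ : IrrCharacter G, ∑ h : G, (χ : G → ℂ) h * ((ψ : G → ℂ) g * conj ((ψ : G → ℂ) h)) =
        (ψ : G → ℂ) g * ((Nat.card G : ℂ) * classInner (χ : G → ℂ) (ψ : G → ℂ)) := fun ψ => by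
      rw [← H12.sum_mul_conj_eq_card_mul, Finset.mul_sum]
      exact Finset.sum_congr rfl fun h _ => by ring
    rw [Finset.sum_congr rfl fun ψ _ => e ψ,
      Finset.sum_eq_single_of_mem χ (H22.mem_blockFinset.2 hχ) fun ψ _ hne => by
        rw [H12.classInner_irr_ne (Ne.symm hne), mul_zero, mul_zero],
      H12.classInner_irr_self, mul_one, mul_comm]
  rw [h3]
  field_simp

/-- The product of two of the matrices. -/
theorem qm_prod (hM : IsPModular 2 M) {B C : Subgroup G}
    (hfB : IsGeneralizedCharacter G (fOut P B)) (hfC : IsGeneralizedCharacter G (fOut P C))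
    {χ : IrrCharacter G} (hχ : χ ∈ principalBlock M G) (η : IrrCharacter G) :
    ((∑ ψ ∈ H22.blockFinset (principalBlock M G), qm P B χ ψ * qm P C ψ η : ℤ) : ℂ) =
      classInner (fun g => fOut P B g * fOut P C g * (χ : G → ℂ) g) (η : G → ℂ) := by
  classical
  push_cast
  simp only [qm_eq P hfC, H12.classInner_def, Finset.mul_sum]
  rw [Finset.sum_comm]
  refine Finset.sum_congr rfl fun g _ => ?_
  have h := congrArg (fun z => (Nat.card G : ℂ)⁻¹ * (fOut P C g * z * conj ((η : G → ℂ) g)))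
    (sum_qm P hM hfB hχ g)
  simp only [Finset.mul_sum, Finset.sum_mul] at h
  refine Eq.trans ?_ (h.trans (by ring))
  exact Finset.sum_congr rfl fun ψ _ => by ring

variable {x : G}

/-- The matrix is of the kind treated combinatorially. -/
theorem quasi_qm (hM : IsPModular 2 M) {B : Subgroup G}
    (hf : IsGeneralizedCharacter G (fOut P B))
    (hB : Subgroup.normalizer ((P : Subgroup G) : Set G) ≤ Subgroup.normalizer (B : Set G))
    (hx : x ∈ (P : Subgroup G)) (hx2 : orderOf x = 2) (hxB : x ∉ B) :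
    Quasi (H22.blockFinset (principalBlock M G)) (dv x) (qm P B) := by
  refine ⟨fun χ _ ψ _ => qm_symm P hf χ ψ, fun χ hχ η _ => ?_, fun χ hχ => ?_⟩
  · apply Int.cast_injective (α := ℂ)
    rw [qm_prod P hM hf hf (H22.mem_blockFinset.1 hχ)]
    push_cast
    rw [qm_eq P hf]
    simp only [H12.classInner_def, Finset.mul_sum]
    refine Finset.sum_congr rfl fun g _ => ?_
    unfold fOut
    split_ifs <;> ring
  · apply Int.cast_injective (α := ℂ)
    have h := sum_qm P hM hf (H22.mem_blockFinset.1 hχ) x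
    rw [fOut, if_pos ((out_mem P hB hx).2 hxB)] at h
    push_cast
    simp only [← dv_eq hx2]
    exact h

/-- The product of the matrices of two subgroups is `d dᵀ`. -/
theorem qm_mixed (hM : IsPModular 2 M) {B C : Subgroup G}
    (hfB : IsGeneralizedCharacter G (fOut P B)) (hfC : IsGeneralizedCharacter G (fOut P C))
    (hB : Subgroup.normalizer ((P : Subgroup G) : Set G) ≤ Subgroup.normalizer (B : Set G))
    (hC : Subgroup.normalizer ((P : Subgroup G) : Set G) ≤ Subgroup.normalizer (C : Set G))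
    (hP : Nat.card (P : Subgroup G) = 16)
    (hout : ∀ u ∈ (P : Subgroup G), u ∉ B → u ∉ C → IsConj u x)
    (hx : x ∈ (P : Subgroup G)) (hx2 : orderOf x = 2) (hxB : x ∉ B) (hxC : x ∉ C)
    (hreg : Reg (P : Subgroup G) x) {χ η : IrrCharacter G}
    (hχ : χ ∈ principalBlock M G) (hη : η ∈ principalBlock M G) :
    ∑ ψ ∈ H22.blockFinset (principalBlock M G), qm P B χ ψ * qm P C ψ η = dv x χ * dv x η := by
  classical
  haveI : Fact (Nat.Prime 2) := ⟨Nat.prime_two⟩
  let T : Finset G := Finset.univ.filter fun g => IsConj (H20.pPart 2 g) x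
  have hxP : H20.pPart 2 x = x := H20.pPart_eq_self (orderOf_pow_mem P hx)
  have hff : ∀ g, fOut P B g * fOut P C g = if g ∈ T then (16 : ℂ) else 0 := by
    intro g
    by_cases hg : IsConj (H20.pPart 2 g) x
    · have hg' : IsConj (H20.pPart 2 g) (H20.pPart 2 x) := by rwa [hxP]
      rw [if_pos (show g ∈ T from Finset.mem_filter.2 ⟨Finset.mem_univ _, hg⟩), fOut_congr P hg', fOut_congr P hg', fOut, fOut,
        if_pos ((out_mem P hB hx).2 hxB), if_pos ((out_mem P hC hx).2 hxC)]
      norm_num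
    · rw [if_neg (show g ∉ T from fun h => hg (Finset.mem_filter.1 h).2), fOut, fOut]
      by_cases hb : Out P B g
      · by_cases hc' : Out P C g
        · exfalso
          obtain ⟨u, hu, huB, hgu⟩ := hb
          obtain ⟨v, hv, hvC, hgv⟩ := hc'
          obtain ⟨n, hn, rfl⟩ := exists_norm P hu hv (hgu.symm.trans hgv)
          refine hg (hgu.trans (hout u hu huB fun huC => hvC ?_))
          exact (Subgroup.mem_normalizer_iff.1 (hC hn) u).1 huC
        · rw [if_neg hc', mul_zero]
      · rw [if_neg hb, zero_mul]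
  have hval : ∀ (ψ : IrrCharacter G), ψ ∈ principalBlock M G → ∀ g ∈ T, (ψ : G → ℂ) g = (dv x ψ : ℂ) :=
    fun ψ hψ g hg => by
      rw [apply_of_pPart hM P hx (complement_of_reg P hx hreg) hψ (Finset.mem_filter.1 hg).2,
        dv_eq hx2]
  let c : ℂ := 16 * (Nat.card G : ℂ)⁻¹ * (T.card : ℂ)
  have hgen : ∀ χ η : IrrCharacter G, χ ∈ principalBlock M G → η ∈ principalBlock M G →
      ((∑ ψ ∈ H22.blockFinset (principalBlock M G), qm P B χ ψ * qm P C ψ η : ℤ) : ℂ) =
        c * (dv x χ : ℂ) * (dv x η : ℂ) := by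
    intro χ η hχ hη
    rw [qm_prod P hM hfB hfC hχ, H12.classInner_def]
    simp only [hff, ite_mul, zero_mul, Finset.sum_ite_mem, Finset.univ_inter]
    rw [Finset.sum_congr rfl fun g hg => by rw [hval χ hχ g hg, hval η hη g hg, map_intCast],
      Finset.sum_const, nsmul_eq_mul]
    simp only [c]
    ring
  -- the constant is one
  have hc1 : c = 1 := by
    have h1 := (column_data P hM hx hx2 hreg)
    obtain ⟨h1, -, -, hsum⟩ := h1
    have hχ₀ := H22.mem_blockFinset.1 h1
    have e1 : ∑ η ∈ H22.blockFinset (principalBlock M G),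
        ((∑ ψ ∈ H22.blockFinset (principalBlock M G),
          qm P B (H12.oneIrr G) ψ * qm P C ψ η : ℤ) : ℂ) * (dv x η : ℂ) = 16 := by
      have hq := quasi_qm P hM hfC hC hx hx2 hxC
      have hq' := quasi_qm P hM hfB hB hx hx2 hxB
      have e : ∑ η ∈ H22.blockFinset (principalBlock M G),
          (∑ ψ ∈ H22.blockFinset (principalBlock M G),
            qm P B (H12.oneIrr G) ψ * qm P C ψ η) * dv x η = 16 := by
        simp only [Finset.sum_mul, mul_assoc]
        rw [Finset.sum_comm]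
        simp only [← Finset.mul_sum]
        rw [Finset.sum_congr rfl fun ψ hψ => by rw [hq.eig ψ hψ, mul_left_comm],
          ← Finset.mul_sum, hq'.eig _ h1, dv_one hx2]
        norm_num
      have e' := congrArg (Int.cast (R := ℂ)) e
      simp only [Int.cast_sum, Int.cast_mul, Int.cast_ofNat] at e' ⊢
      exact e'
    rw [Finset.sum_congr rfl fun η hη => by rw [hgen _ η hχ₀ (H22.mem_blockFinset.1 hη)]] at e1
    have e2 : ∀ η : IrrCharacter G, c * (dv x (H12.oneIrr G) : ℂ) * (dv x η : ℂ) * (dv x η : ℂ) =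
        c * ((dv x η ^ 2 : ℤ) : ℂ) := fun η => by rw [dv_one hx2]; push_cast; ring
    rw [Finset.sum_congr rfl fun η _ => e2 η, ← Finset.mul_sum, ← Int.cast_sum, hsum, hP] at e1
    norm_num at e1
    exact e1
  apply Int.cast_injective (α := ℂ)
  rw [hgen χ η hχ hη, hc1, one_mul, Int.cast_mul]

end H85.AbTwo
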