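import Cfsg.Agent.H85.AbTwo.CentralSixteen
import Cfsg.Agent.H85.AbTwo.Section
import Cfsg.Agent.H10.Offender

/-!
An elementary abelian Sylow 2-subgroup of order sixteen that splits into two invariant four-groups
with independent automorphisms of order three: sixteen characters and rank nine (helper85).
-/

set_option autoImplicit false
set_option linter.style.haveILetI false
set_option linter.unusedSectionVars false

open Cfsg Finset

namespace H85.AbTwo

universe u

variable {G : Type u} [Group G] [Fintype G] {M : Ideal AlgInt} [hMp : M.IsPrime]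

local notation "C[" x "]" => (Subgroup.centralizer ({x} : Set _))

/-- The structure of the Sylow subgroup and its normalizer. -/
structure Nine (P : Sylow 2 G) (A B : Subgroup G) : Prop where
  comm : IsMulCommutative P
  card : Nat.card (P : Subgroup G) = 16
  sq : ∀ u ∈ (P : Subgroup G), u * u = 1
  leA : A ≤ (P : Subgroup G)
  leB : B ≤ (P : Subgroup G)
  cardA : Nat.card A = 4
  cardB : Nat.card B = 4
  disj : A ⊓ B = ⊥
  normA : Subgroup.normalizer ((P : Subgroup G) : Set G) ≤ Subgroup.normalizer (A : Set G)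
  normB : Subgroup.normalizer ((P : Subgroup G) : Set G) ≤ Subgroup.normalizer (B : Set G)
  transA : ∀ a ∈ A, a ≠ 1 → ∀ a' ∈ A, a' ≠ 1 →
    ∃ n ∈ Subgroup.normalizer ((P : Subgroup G) : Set G), (∀ b ∈ B, n * b * n⁻¹ = b) ∧ n * a * n⁻¹ = a'
  transB : ∀ b ∈ B, b ≠ 1 → ∀ b' ∈ B, b' ≠ 1 →
    ∃ n ∈ Subgroup.normalizer ((P : Subgroup G) : Set G), (∀ a ∈ A, n * a * n⁻¹ = a) ∧ n * b * n⁻¹ = b'
  reg : ∀ a ∈ A, a ≠ 1 → ∀ b ∈ B, b ≠ 1 → Reg (P : Subgroup G) (a * b)

namespace Nine

variable {P : Sylow 2 G} {A B : Subgroup G} (h : Nine P A B)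

include h

theorem comm_mul {u v : G} (hu : u ∈ (P : Subgroup G)) (hv : v ∈ (P : Subgroup G)) :
    u * v = v * u :=
  congrArg Subtype.val (h.comm.is_comm.comm ⟨u, hu⟩ ⟨v, hv⟩)

theorem swap : Nine P B A :=
  ⟨h.comm, h.card, h.sq, h.leB, h.leA, h.cardB, h.cardA, by rw [inf_comm]; exact h.disj, h.normB,
    h.normA, h.transB, h.transA, fun b hb hb1 a ha ha1 => by
      rw [h.comm_mul (h.leB hb) (h.leA ha)]; exact h.reg a ha ha1 b hb hb1⟩

theorem decomp {u : G} (hu : u ∈ (P : Subgroup G)) : ∃ a ∈ A, ∃ b ∈ B, a * b = u := by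
  haveI := h.comm
  have hn : A ≤ Subgroup.normalizer (B : Set G) := fun a ha =>
    h.normB (Subgroup.le_normalizer (h.leA ha))
  have h1 := H10.card_mul_card_inf (H := A) (K := B) hn
  rw [h.disj, Subgroup.card_bot, mul_one, h.cardA, h.cardB] at h1
  have e : A ⊔ B = (P : Subgroup G) :=
    Subgroup.eq_of_le_of_card_ge (sup_le h.leA h.leB) (by rw [h1, h.card])
  rw [← e, ← SetLike.mem_coe, Subgroup.coe_mul_of_left_le_normalizer_right _ _ hn] at hu
  obtain ⟨a, ha, b, hb, hab⟩ := hu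
  exact ⟨a, ha, b, hb, hab⟩

theorem decomp_unique {a b a' b' : G} (ha : a ∈ A) (hb : b ∈ B) (ha' : a' ∈ A) (hb' : b' ∈ B)
    (e : a * b = a' * b') : a = a' ∧ b = b' := by
  have e1 : a'⁻¹ * a = b' * b⁻¹ := by
    rw [inv_mul_eq_iff_eq_mul, ← mul_assoc, ← e, mul_inv_cancel_right]
  have hmem : a'⁻¹ * a ∈ A ⊓ B :=
    Subgroup.mem_inf.2 ⟨mul_mem (inv_mem ha') ha, by rw [e1]; exact mul_mem hb' (inv_mem hb)⟩
  rw [h.disj, Subgroup.mem_bot, inv_mul_eq_one] at hmem
  subst hmem
  exact ⟨rfl, mul_left_cancel e⟩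

/-- An element of the normalizer fixing a product fixes both factors. -/
theorem fix_factors {n a b : G} (hn : n ∈ Subgroup.normalizer ((P : Subgroup G) : Set G))
    (ha : a ∈ A) (hb : b ∈ B) {a' b' : G} (ha' : a' ∈ A) (hb' : b' ∈ B)
    (e : n * (a * b) * n⁻¹ = a' * b') : n * a * n⁻¹ = a' ∧ n * b * n⁻¹ = b' :=
  h.decomp_unique ((Subgroup.mem_normalizer_iff.1 (h.normA hn) a).1 ha)
    ((Subgroup.mem_normalizer_iff.1 (h.normB hn) b).1 hb) ha' hb' (by rw [← e]; group)

theorem exists_ne_one : ∃ a ∈ A, a ≠ 1 := by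
  have : 1 < Nat.card A := by rw [h.cardA]; norm_num
  haveI := (Finite.one_lt_card_iff_nontrivial).1 this
  obtain ⟨a, ha⟩ := exists_ne (1 : A)
  exact ⟨a, a.2, fun e => ha (Subtype.ext e)⟩

theorem mem_normalizer_of_subgroup {H : Subgroup G} (hPH : (P : Subgroup G) ≤ H) {n : H}
    (hn : n ∈ Subgroup.normalizer ((P.subtype hPH : Subgroup H) : Set H)) :
    (n : G) ∈ Subgroup.normalizer ((P : Subgroup G) : Set G) := by
  rw [Subgroup.mem_normalizer_iff]
  intro w
  constructor
  · intro hw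
    exact (Subgroup.mem_normalizer_iff.1 hn ⟨w, hPH hw⟩).1 hw
  · intro hw
    have hwH : w ∈ H := by
      have := H.mul_mem (H.mul_mem (H.inv_mem n.2) (hPH hw)) n.2
      simpa [mul_assoc] using this
    exact (Subgroup.mem_normalizer_iff.1 hn ⟨w, hwH⟩).2 hw

open Classical in
/-- The ranks inside a subgroup between `C(A)` and the centralizer of an element of `A`. -/
theorem sum_local (hM : IsPModular 2 M) (h8 : Eight.{u} M) {a : G} (ha : a ∈ A) (ha1 : a ≠ 1)
    {H : Subgroup G} (hPH : (P : Subgroup G) ≤ H) (hHa : H ≤ C[a])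
    (hAH : Subgroup.centralizer (A : Set G) ≤ H) :
    ∑ a' ∈ (Finset.univ : Finset A),
      blockRank 2 (principalBlock M C[(⟨(a' : G), hPH (h.leA a'.2)⟩ : H)]) + 4 = 16 := by
  haveI : Fact (Nat.Prime 2) := ⟨Nat.prime_two⟩
  haveI : Fintype H := Fintype.ofFinite _
  obtain ⟨b, hb, hb1⟩ := h.swap.exists_ne_one
  set Q := P.subtype hPH with hQ
  haveI hQc : IsMulCommutative (Q : Subgroup H) :=
    ⟨⟨fun p q => Subtype.ext (Subtype.ext (h.comm_mul p.2 q.2))⟩⟩
  let ι : A → H := fun a' => ⟨(a' : G), hPH (h.leA a'.2)⟩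
  let κ : A → H := fun a' => ⟨(a' : G) * b, hPH (mul_mem (h.leA a'.2) (h.leB hb))⟩
  have hfix : ∀ n : H, (n : G) * a * (n : G)⁻¹ = a := fun n => by
    rw [mem_cent_iff.1 (hHa n.2), mul_inv_cancel_right]
  -- regularity of the elements outside `A`
  have hreg : ∀ a' : A, Reg (Q : Subgroup H) (κ a') := by
    intro a' n hn hnx w hw
    have hnG := mem_normalizer_of_subgroup h hPH hn
    have e : (n : G) * ((a' : G) * b) * (n : G)⁻¹ = (a' : G) * b := congrArg Subtype.val hnx
    obtain ⟨-, hnb⟩ := h.fix_factors hnG a'.2 hb a'.2 hb e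
    have hab : (n : G) * (a * b) * (n : G)⁻¹ = a * b := by
      calc (n : G) * (a * b) * (n : G)⁻¹ = ((n : G) * a * (n : G)⁻¹) * ((n : G) * b * (n : G)⁻¹) := by
            group
        _ = _ := by rw [hfix n, hnb]
    exact Subtype.ext (h.reg a ha ha1 b hb hb1 (n : G) hnG hab (w : G) hw)
  -- an element of `H` normalizing `P` fixes `A`
  have hfixA : ∀ n : H, (n : G) ∈ Subgroup.normalizer ((P : Subgroup G) : Set G) →
      ∀ a' ∈ A, (n : G) * a' * (n : G)⁻¹ = a' := by
    intro n hnG a' ha'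
    have hnb : (n : G) * b * (n : G)⁻¹ ∈ B := (Subgroup.mem_normalizer_iff.1 (h.normB hnG) b).1 hb
    obtain ⟨m, hm, hmA, hmb⟩ := h.transB _ hnb (fun e => hb1 (conj_eq_one_iff.1 e)) b hb hb1
    have hmn : m * (n : G) * (a * b) * (m * (n : G))⁻¹ = a * b := by
      calc m * (n : G) * (a * b) * (m * (n : G))⁻¹ =
          (m * ((n : G) * a * (n : G)⁻¹) * m⁻¹) * (m * ((n : G) * b * (n : G)⁻¹) * m⁻¹) := by group
        _ = _ := by rw [hfix n, hmA a ha, hmb]
    have hc := h.reg a ha ha1 b hb hb1 _ (mul_mem hm hnG) hmn a' (h.leA ha')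
    have e : m * ((n : G) * a' * (n : G)⁻¹) * m⁻¹ = m * a' * m⁻¹ := by
      rw [hmA a' ha']
      calc m * ((n : G) * a' * (n : G)⁻¹) * m⁻¹ = (m * (n : G)) * a' * (m * (n : G))⁻¹ := by group
        _ = a' := by rw [← hc, mul_inv_cancel_right]
    exact mul_left_cancel (mul_right_cancel e)
  have hιinj : Function.Injective ι := fun p q e => Subtype.ext (congrArg Subtype.val e :)
  have hκinj : Function.Injective κ := fun p q e =>
    Subtype.ext (mul_right_cancel (congrArg Subtype.val e :))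
  have hne : ∀ p q : A, ι p ≠ κ q := fun p q e => by
    have e' : (p : G) * 1 = (q : G) * b := by rw [mul_one]; exact congrArg Subtype.val e
    exact hb1 (h.decomp_unique p.2 (one_mem _) q.2 hb e').2.symm
  set X : Finset H := (Finset.univ.image ι) ∪ (Finset.univ.image κ) with hX
  have hdisj : Disjoint (Finset.univ.image ι) (Finset.univ.image κ) := by
    rw [Finset.disjoint_left]
    intro y hy hy'
    obtain ⟨p, -, rfl⟩ := Finset.mem_image.1 hy
    obtain ⟨q, -, e⟩ := Finset.mem_image.1 hy'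
    exact hne p q e.symm
  -- the classes in `H` of the elements of `P`
  have hclass : ∀ (a₁ b₁ a₂ b₂ : G), a₁ ∈ A → b₁ ∈ B → a₂ ∈ A → b₂ ∈ B →
      ∀ n : H, (n : G) ∈ Subgroup.normalizer ((P : Subgroup G) : Set G) →
      (n : G) * (a₁ * b₁) * (n : G)⁻¹ = a₂ * b₂ → a₁ = a₂ ∧ (b₁ = 1 ↔ b₂ = 1) := by
    intro a₁ b₁ a₂ b₂ ha₁ hb₁ ha₂ hb₂ n hn e
    obtain ⟨e1, e2⟩ := h.fix_factors hn ha₁ hb₁ ha₂ hb₂ e
    rw [hfixA n hn a₁ ha₁] at e1
    exact ⟨e1, by rw [← e2]; exact conj_eq_one_iff.symm⟩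
  have hXreps : IsReps Q X := by
    refine ⟨fun y hy => ?_, fun y hy => ?_⟩
    · rcases Finset.mem_union.1 hy with hy | hy <;> obtain ⟨p, -, rfl⟩ := Finset.mem_image.1 hy
      · exact h.leA p.2
      · exact mul_mem (h.leA p.2) (h.leB hb)
    obtain ⟨a₁, ha₁, b₁, hb₁, e₁⟩ := h.decomp (show (y : G) ∈ (P : Subgroup G) from hy)
    -- uniqueness
    have huniq : ∀ (a₂ b₂ : G), a₂ ∈ A → b₂ ∈ B → ∀ z : H, z ∈ (Q : Subgroup H) →
        (z : G) = a₂ * b₂ → IsConj y z → a₁ = a₂ ∧ (b₁ = 1 ↔ b₂ = 1) := by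
      intro a₂ b₂ ha₂ hb₂ z hz ez hyz
      obtain ⟨n, hn, e⟩ := exists_norm Q (hc := hQc) hy hz hyz
      refine hclass a₁ b₁ a₂ b₂ ha₁ hb₁ ha₂ hb₂ n (mem_normalizer_of_subgroup h hPH hn) ?_
      rw [e₁, ← ez]
      exact congrArg Subtype.val e
    by_cases hb₁1 : b₁ = 1
    · have hy' : y = ι ⟨a₁, ha₁⟩ := Subtype.ext (by rw [← e₁, hb₁1, mul_one])
      refine ⟨ι ⟨a₁, ha₁⟩, ⟨Finset.mem_union_left _ (Finset.mem_image_of_mem _ (Finset.mem_univ _)),
        hy' ▸ IsConj.refl y⟩, ?_⟩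
      rintro z ⟨hz, hyz⟩
      rcases Finset.mem_union.1 hz with hz | hz <;> obtain ⟨p, -, rfl⟩ := Finset.mem_image.1 hz
      · obtain ⟨e, -⟩ := huniq p 1 p.2 (one_mem _) (ι p) (h.leA p.2) (mul_one _).symm hyz
        exact congrArg ι (Subtype.ext e.symm)
      · obtain ⟨-, e⟩ := huniq p b p.2 hb (κ p) (mul_mem (h.leA p.2) (h.leB hb)) rfl hyz
        exact absurd (e.1 hb₁1) hb1
    · obtain ⟨m, hm, hmA, hmb⟩ := h.transB b₁ hb₁ hb₁1 b hb hb1
      have hmH : m ∈ H := hAH fun a' ha' => (mul_inv_eq_iff_eq_mul.1 (hmA a' ha')).symm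
      have hyκ : IsConj y (κ ⟨a₁, ha₁⟩) := _root_.isConj_iff.2 ⟨⟨m, hmH⟩, Subtype.ext (by
        show m * (y : G) * m⁻¹ = a₁ * b
        rw [← e₁]
        calc m * (a₁ * b₁) * m⁻¹ = (m * a₁ * m⁻¹) * (m * b₁ * m⁻¹) := by group
          _ = _ := by rw [hmA a₁ ha₁, hmb])⟩
      refine ⟨κ ⟨a₁, ha₁⟩, ⟨Finset.mem_union_right _ (Finset.mem_image_of_mem _ (Finset.mem_univ _)),
        hyκ⟩, ?_⟩
      rintro z ⟨hz, hyz⟩
      rcases Finset.mem_union.1 hz with hz | hz <;> obtain ⟨p, -, rfl⟩ := Finset.mem_image.1 hz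
      · obtain ⟨-, e⟩ := huniq p 1 p.2 (one_mem _) (ι p) (h.leA p.2) (mul_one _).symm hyz
        exact absurd (e.2 rfl) hb₁1
      · obtain ⟨e, -⟩ := huniq p b p.2 hb (κ p) (mul_mem (h.leA p.2) (h.leB hb)) rfl hyz
        exact congrArg κ (Subtype.ext e.symm)
  -- the count
  have hQcard : Nat.card (Q : Subgroup H) = 16 := by
    rw [← h.card]; exact Nat.card_congr (Subgroup.subgroupOfEquivOfLe hPH).toEquiv
  have hord : ∀ {v : G}, v ∈ (P : Subgroup G) → v ≠ 1 → orderOf v = 2 := fun hv hv1 =>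
    orderOf_eq_prime (by rw [pow_two]; exact h.sq _ hv) hv1
  have hab1 : a * b ≠ 1 := fun e =>
    ha1 (h.decomp_unique ha hb (one_mem _) (one_mem _) (by rw [e, one_mul])).1
  have hcard : Nat.card (principalBlock M H) = 16 :=
    card_of_central_sixteen Q (hc := hQc) hM h8 (x := κ ⟨a, ha⟩)
      (mul_mem (h.leA ha) (h.leB hb))
      (by rw [Subgroup.orderOf_mk]; exact hord (mul_mem (h.leA ha) (h.leB hb)) hab1)
      (hreg ⟨a, ha⟩) (z := ι ⟨a, ha⟩)
      (Subgroup.mem_center_iff.2 fun g => Subtype.ext (mem_cent_iff.1 (hHa g.2)))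
      (by rw [Subgroup.orderOf_mk]; exact hord (h.leA ha) ha1) (h.leA ha) hQcard
  rw [card_eq_sum_reps Q hM hXreps, hX, Finset.sum_union hdisj, Finset.sum_image hιinj.injOn,
    Finset.sum_image hκinj.injOn,
    Finset.sum_congr rfl (fun p _ => rank_of_reg Q (hc := hQc) hM (x := κ p)
      (mul_mem (h.leA p.2) (h.leB hb)) (hreg p)), Finset.sum_const, Finset.card_univ,
    ← Nat.card_eq_fintype_card, h.cardA] at hcard
  exact hcard

theorem le_cent_set : (P : Subgroup G) ≤ Subgroup.centralizer (A : Set G) := fun _ hu _ ha' =>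
  h.comm_mul (h.leA ha') hu

theorem cent_set_le {a : G} (ha : a ∈ A) : Subgroup.centralizer (A : Set G) ≤ C[a] := fun _ hm =>
  mem_cent_iff.2 (hm a ha).symm

/-- The rank at `C(A)`. -/
theorem rank_cent_set (hM : IsPModular 2 M) (h8 : Eight.{u} M) :
    blockRank 2 (principalBlock M (Subgroup.centralizer (A : Set G))) = 3 := by
  classical
  haveI : Fact (Nat.Prime 2) := ⟨Nat.prime_two⟩
  obtain ⟨a, ha, ha1⟩ := h.exists_ne_one
  set H := Subgroup.centralizer (A : Set G) with hH
  haveI : Fintype H := Fintype.ofFinite _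
  have hs := h.sum_local hM h8 ha ha1 h.le_cent_set (h.cent_set_le ha) le_rfl
  rw [Finset.sum_congr rfl (fun (a' : A) _ => show _ = blockRank 2 (principalBlock M H) by
    rw [← one_mul (⟨(a' : G), h.le_cent_set (h.leA a'.2)⟩ : H), rank_mul_center (Subgroup.mem_center_iff.2
      fun g => Subtype.ext (g.2 a' a'.2).symm), rank_one_eq]), Finset.sum_const, Finset.card_univ,
    ← Nat.card_eq_fintype_card, h.cardA, smul_eq_mul] at hs
  omega

/-- The rank at an element of `A`. -/
theorem rank_cent (hM : IsPModular 2 M) (h8 : Eight.{u} M) {a : G} (ha : a ∈ A) (ha1 : a ≠ 1) :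
    blockRank 2 (principalBlock M C[a]) = 3 := by
  classical
  haveI : Fact (Nat.Prime 2) := ⟨Nat.prime_two⟩
  haveI := h.comm
  set H : Subgroup G := C[a] with hH
  haveI : Fintype H := Fintype.ofFinite _
  have hPH : (P : Subgroup G) ≤ H := le_cent P (h.leA ha)
  have hs := h.sum_local hM h8 ha ha1 hPH le_rfl (h.cent_set_le ha)
  set r := blockRank 2 (principalBlock M H) with hr
  have hor : ∀ a' : A, (a' : G) = 1 ∨ (a' : G) = a →
      blockRank 2 (principalBlock M C[(⟨(a' : G), hPH (h.leA a'.2)⟩ : H)]) = r := by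
    intro a' ha'
    rw [← one_mul (⟨(a' : G), hPH (h.leA a'.2)⟩ : H), rank_mul_center (Subgroup.mem_center_iff.2
      fun g => Subtype.ext ?_), rank_one_eq]
    show (g : G) * (a' : G) = a' * g
    rcases ha' with e | e <;> rw [e]
    · simp
    · exact mem_cent_iff.1 g.2
  have hother : ∀ a' : A, (a' : G) ≠ 1 → (a' : G) ≠ a →
      blockRank 2 (principalBlock M C[(⟨(a' : G), hPH (h.leA a'.2)⟩ : H)]) = 3 := by
    intro a' h1 h2
    set K : Subgroup H := C[(⟨(a' : G), hPH (h.leA a'.2)⟩ : H)] with hK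
    have hmap : K.map H.subtype = Subgroup.centralizer (A : Set G) := by
      apply le_antisymm
      · rintro _ ⟨g, hg, rfl⟩
        have hga : (g : G) * a = a * g := mem_cent_iff.1 g.2
        have hga' : (g : G) * a' = a' * g := congrArg Subtype.val (mem_cent_iff.1 hg)
        intro v hv
        -- the four elements of `A`
        have hA4 : ({1, a, (a' : G), a * a'} : Finset G) =
            Finset.univ.filter fun w => w ∈ A := by
          refine Finset.eq_of_subset_of_card_le (fun w hw => ?_) ?_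
          · simp only [Finset.mem_insert, Finset.mem_singleton] at hw
            simp only [Finset.mem_filter, Finset.mem_univ, true_and]
            rcases hw with rfl | rfl | rfl | rfl
            exacts [one_mem _, ha, a'.2, mul_mem ha a'.2]
          · rw [← Fintype.card_subtype, ← Nat.card_eq_fintype_card, h.cardA,
              Finset.card_insert_of_notMem, Finset.card_insert_of_notMem, Finset.card_pair]
            · exact fun e => ha1 (mul_eq_right.1 e.symm)
            · simp only [Finset.mem_insert, Finset.mem_singleton, not_or]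
              exact ⟨Ne.symm h2, fun e => h1 (left_eq_mul.1 e)⟩
            · simp only [Finset.mem_insert, Finset.mem_singleton, not_or]
              refine ⟨Ne.symm ha1, Ne.symm h1, fun e => h2 ?_⟩
              rw [← mul_left_cancel_iff (a := a), ← e, h.sq a (h.leA ha)]
        have hv' : v ∈ ({1, a, (a' : G), a * a'} : Finset G) := by
          rw [hA4]; simpa using hv
        simp only [Finset.mem_insert, Finset.mem_singleton] at hv'
        show v * (g : G) = g * v
        rcases hv' with rfl | rfl | rfl | rfl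
        · simp
        · exact hga.symm
        · exact hga'.symm
        · rw [← mul_assoc, hga, mul_assoc, ← hga', ← mul_assoc]
      · intro g hg
        exact ⟨⟨g, h.cent_set_le ha hg⟩, mem_cent_iff.2 (Subtype.ext (hg a' a'.2).symm), rfl⟩
    haveI : Fintype K := Fintype.ofFinite _
    haveI : Fintype (Subgroup.centralizer (A : Set G)) := Fintype.ofFinite _
    rw [← h.rank_cent_set hM h8]
    exact H22.Klein.blockRank_principal_congr
      ((Subgroup.equivMapOfInjective K H.subtype H.subtype_injective).trans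
        (MulEquiv.subgroupCongr hmap))
  have hsplit := Finset.sum_filter_add_sum_filter_not (Finset.univ : Finset A)
    (fun a' => (a' : G) = 1 ∨ (a' : G) = a)
    (fun a' => blockRank 2 (principalBlock M C[(⟨(a' : G), hPH (h.leA a'.2)⟩ : H)]))
  rw [Finset.sum_congr rfl (fun a' ha' => hor a' (Finset.mem_filter.1 ha').2),
    Finset.sum_congr (s₁ := Finset.univ.filter fun a' : A => ¬((a' : G) = 1 ∨ (a' : G) = a)) rfl
      (fun a' ha' => hother a' (fun e => (Finset.mem_filter.1 ha').2 (Or.inl e))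
      fun e => (Finset.mem_filter.1 ha').2 (Or.inr e)),
    Finset.sum_const, Finset.sum_const, smul_eq_mul, smul_eq_mul] at hsplit
  have h2 : (Finset.univ.filter fun a' : A => (a' : G) = 1 ∨ (a' : G) = a).card = 2 := by
    have : (Finset.univ.filter fun a' : A => (a' : G) = 1 ∨ (a' : G) = a) = {1, ⟨a, ha⟩} := by
      ext a'
      simp only [Finset.mem_filter, Finset.mem_univ, true_and, Finset.mem_insert,
        Finset.mem_singleton]
      exact ⟨fun e => e.imp (fun e1 => Subtype.ext e1) (fun e1 => Subtype.ext e1),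
        fun e => e.imp (fun e1 => congrArg Subtype.val e1) (fun e1 => congrArg Subtype.val e1)⟩
    rw [this, Finset.card_pair fun e => ha1 (congrArg Subtype.val e).symm]
  have h4 := Finset.card_filter_add_card_filter_not (s := (Finset.univ : Finset A))
    (fun a' => (a' : G) = 1 ∨ (a' : G) = a)
  rw [Finset.card_univ, ← Nat.card_eq_fintype_card, h.cardA, h2] at h4
  rw [h2] at hsplit
  rw [← hsplit] at hs
  omega

open Classical in
/-- **Sixteen characters and rank nine.** -/
theorem count (hM : IsPModular 2 M) (h8 : Eight.{u} M) :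
    Nat.card (principalBlock M G) = 16 ∧ blockRank 2 (principalBlock M G) = 9 := by
  haveI : Fact (Nat.Prime 2) := ⟨Nat.prime_two⟩
  haveI := h.comm
  obtain ⟨a, ha, ha1⟩ := h.exists_ne_one
  obtain ⟨b, hb, hb1⟩ := h.swap.exists_ne_one
  set x := a * b with hxdef
  have hxP : x ∈ (P : Subgroup G) := mul_mem (h.leA ha) (h.leB hb)
  have hreg := h.reg a ha ha1 b hb hb1
  have hxA : x ∉ A := fun hx =>
    hb1 (h.decomp_unique hx (one_mem _) ha hb (mul_one _)).2.symm
  have hxB : x ∉ B := fun hx =>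
    ha1 (h.decomp_unique (one_mem _) hx ha hb (one_mul _)).1.symm
  have hx1 : x ≠ 1 := fun e => hxA (e ▸ one_mem _)
  have hx2 : orderOf x = 2 := orderOf_eq_prime (by rw [pow_two]; exact h.sq x hxP) hx1
  have hout : ∀ u ∈ (P : Subgroup G), u ∉ A → u ∉ B → IsConj u x := by
    intro u hu huA huB
    obtain ⟨a₁, ha₁, b₁, hb₁, rfl⟩ := h.decomp hu
    have ha₁1 : a₁ ≠ 1 := fun e => huB (by rw [e, one_mul]; exact hb₁)
    have hb₁1 : b₁ ≠ 1 := fun e => huA (by rw [e, mul_one]; exact ha₁)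
    obtain ⟨n, -, hnB, hna⟩ := h.transA a₁ ha₁ ha₁1 a ha ha1
    obtain ⟨m, -, hmA, hmb⟩ := h.transB b₁ hb₁ hb₁1 b hb hb1
    refine _root_.isConj_iff.2 ⟨m * n, ?_⟩
    calc m * n * (a₁ * b₁) * (m * n)⁻¹ = (m * (n * a₁ * n⁻¹) * m⁻¹) * (m * (n * b₁ * n⁻¹) * m⁻¹) := by
          group
      _ = _ := by rw [hna, hnB b₁ hb₁, hmA a ha, hmb]
  -- representatives of the classes
  have hX : IsReps P {1, a, b, x} := by
    have hA' : ∀ {u v : G}, u ∈ A → v ∈ (P : Subgroup G) → IsConj u v → v ∈ A := by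
      intro u v hu hv huv
      obtain ⟨n, hn, rfl⟩ := exists_norm P (h.leA hu) hv huv
      exact (Subgroup.mem_normalizer_iff.1 (h.normA hn) u).1 hu
    have hB' : ∀ {u v : G}, u ∈ B → v ∈ (P : Subgroup G) → IsConj u v → v ∈ B := by
      intro u v hu hv huv
      obtain ⟨n, hn, rfl⟩ := exists_norm P (h.leB hu) hv huv
      exact (Subgroup.mem_normalizer_iff.1 (h.normB hn) u).1 hu
    refine ⟨fun y hy => ?_, fun u hu => ?_⟩
    · simp only [Finset.mem_insert, Finset.mem_singleton] at hy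
      rcases hy with rfl | rfl | rfl | rfl
      exacts [one_mem _, h.leA ha, h.leB hb, hxP]
    have hAB : ∀ {w : G}, w ∈ A → w ∈ B → w = 1 := fun hA hB =>
      Subgroup.mem_bot.1 (h.disj ▸ (⟨hA, hB⟩ : _ ∈ A ⊓ B))
    by_cases hu1 : u = 1
    · subst hu1
      exact ⟨1, ⟨by simp, IsConj.refl 1⟩, fun y hy => isConj_one_right.1 hy.2⟩
    by_cases huA : u ∈ A
    · obtain ⟨n, -, -, hn⟩ := h.transA u huA hu1 a ha ha1
      refine ⟨a, ⟨by simp, _root_.isConj_iff.2 ⟨n, hn⟩⟩, ?_⟩
      rintro y ⟨hy, hyu⟩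
      simp only [Finset.mem_insert, Finset.mem_singleton] at hy
      rcases hy with rfl | rfl | rfl | rfl
      · exact absurd (isConj_one_left.1 hyu) hu1
      · rfl
      · exact absurd (hAB (hA' huA (h.leB hb) hyu) hb) hb1
      · exact absurd (hA' huA hxP hyu) hxA
    by_cases huB : u ∈ B
    · obtain ⟨n, -, -, hn⟩ := h.transB u huB hu1 b hb hb1
      refine ⟨b, ⟨by simp, _root_.isConj_iff.2 ⟨n, hn⟩⟩, ?_⟩
      rintro y ⟨hy, hyu⟩
      simp only [Finset.mem_insert, Finset.mem_singleton] at hy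
      rcases hy with rfl | rfl | rfl | rfl
      · exact absurd (isConj_one_left.1 hyu) hu1
      · exact absurd (hAB ha (hB' huB (h.leA ha) hyu)) ha1
      · rfl
      · exact absurd (hB' huB hxP hyu) hxB
    refine ⟨x, ⟨by simp, hout u hu huA huB⟩, ?_⟩
    rintro y ⟨hy, hyu⟩
    simp only [Finset.mem_insert, Finset.mem_singleton] at hy
    rcases hy with rfl | rfl | rfl | rfl
    · exact absurd (isConj_one_left.1 hyu) hu1
    · exact absurd (hA' ha hu hyu.symm) huA
    · exact absurd (hB' hb hu hyu.symm) huB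
    · rfl
  have hk := card_eq_sum_reps P hM hX
  have hab : a ≠ b := fun e => hb1 (Subgroup.mem_bot.1 (h.disj ▸ (⟨e ▸ ha, hb⟩ : b ∈ A ⊓ B)))
  rw [Finset.sum_insert (by simp [Ne.symm ha1, Ne.symm hb1, Ne.symm hx1]),
    Finset.sum_insert (by
      simp only [Finset.mem_insert, Finset.mem_singleton, not_or]
      exact ⟨hab, fun e => hxA (e ▸ ha)⟩),
    Finset.sum_pair (fun e : b = x => hxB (e ▸ hb)), rank_one_eq, h.rank_cent hM h8 ha ha1,
    h.swap.rank_cent hM h8 hb hb1, rank_of_reg P hM hxP hreg] at hk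
  obtain ⟨h1, hcard, hne, hsum⟩ := column_data P hM hxP hx2 hreg
  rw [h.card] at hsum
  obtain ⟨hk0, -, hk2⟩ := card_sixteen _ _ hne _ h1 (dv_one hx2) (by exact_mod_cast hsum)
  rw [hcard] at hk0 hk2
  have hl := H19.OneSec.one_le_rank (p := 2) (M := M) G
  rcases hk0 with e | e | e | e | e | e
  · omega
  · omega
  · -- rank one
    exfalso
    obtain ⟨N, hN, hNc⟩ := (H5.hasNormalPComplement_iff_exists P).1
      (complement_of_rank_one hM (show blockRank 2 (principalBlock M G) = 1 by omega))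
    have hA2 : ∃ a' ∈ A, a' ≠ 1 ∧ a' ≠ a := by
      by_contra hcon
      push Not at hcon
      have h4 : (Finset.univ.filter fun w => w ∈ A).card = 4 := by
        rw [← Fintype.card_subtype, ← Nat.card_eq_fintype_card, h.cardA]
      have hle : (Finset.univ.filter fun w => w ∈ A) ⊆ {1, a} := fun w hw => by
        simp only [Finset.mem_insert, Finset.mem_singleton]
        exact or_iff_not_imp_left.2 (hcon w (Finset.mem_filter.1 hw).2)
      have := (Finset.card_le_card hle).trans Finset.card_le_two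
      omega
    obtain ⟨a', ha', ha'1, hne'⟩ := hA2
    obtain ⟨n, -, -, hn⟩ := h.transA a ha ha1 a' ha' ha'1
    obtain ⟨⟨k, q⟩, hkq⟩ := hNc.2 n
    apply hne'
    have hmem : a' * a⁻¹ ∈ N ⊓ (P : Subgroup G) := by
      refine Subgroup.mem_inf.2 ⟨?_, mul_mem (h.leA ha') (inv_mem (h.leA ha))⟩
      have e' : a' * a⁻¹ = (k : G) * (a * (k : G)⁻¹ * a⁻¹) := by
        have hq' : (q : G) * a = a * q := h.comm_mul q.2 (h.leA ha)
        rw [← hn, ← hkq]
        calc (k : G) * q * a * ((k : G) * q)⁻¹ * a⁻¹ = (k : G) * ((q : G) * a) * (q : G)⁻¹ * (k : G)⁻¹ * a⁻¹ := by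
              group
          _ = _ := by rw [hq']; group
      rw [e']
      exact mul_mem k.2 (hN.conj_mem _ (inv_mem k.2) a)
    rw [hNc.disjoint.eq_bot, Subgroup.mem_bot, mul_inv_eq_one] at hmem
    exact hmem
  all_goals
    first
    | exact ⟨e, by omega⟩
    | (exfalso
       obtain ⟨hsq, hc13, hc10⟩ := hk2 (by omega)
       have hBA' : Nat.card B * 4 = Nat.card (P : Subgroup G) := by rw [h.cardB, h.card]
       have hAB' : Nat.card A * 4 = Nat.card (P : Subgroup G) := by rw [h.cardA, h.card]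
       have hfA := isGen_fOut P hBA' h.leB h.normB
       have hfB := isGen_fOut P hAB' h.leA h.normA
       have hno := no_two_columns _ (dv x) (qm P B) (qm P A)
         (quasi_qm P hM hfA h.normB hxP hx2 hxB) (quasi_qm P hM hfB h.normA hxP hx2 hxA)
         (fun χ hχ η hη => qm_mixed P hM hfA hfB h.normB h.normA h.card
           (fun u hu h1 h2 => hout u hu h2 h1) hxP hx2 hxB hxA hreg
           (H22.mem_blockFinset.1 hχ) (H22.mem_blockFinset.1 hη))
         (fun χ hχ η hη => qm_mixed P hM hfB hfA h.normA h.normB h.card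
           hout hxP hx2 hxA hxB hreg
           (H22.mem_blockFinset.1 hχ) (H22.mem_blockFinset.1 hη))
         hsq h1 (dv_one hx2)
       first
       | exact hno.2 (hc10 e)
       | exact hno.1 (hc13 e))

end Nine

end H85.AbTwo
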