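import Cfsg.Agent.H85.AbTwo.Classes
import Cfsg.Agent.H8.OrderFormula
import Cfsg.Agent.H20.Orth

/-!
Pairs of involutions with product of even order when all involutions are conjugate and their
centralizers are 2-nilpotent, and the resulting bound on the cubic sum over the principal column
(helper85).
-/

set_option autoImplicit false
set_option linter.style.haveILetI false
set_option linter.unusedSectionVars false

open Cfsg Finset
open scoped ComplexConjugate

namespace H85.AbTwo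

universe u

variable {G : Type u} [Group G] [Fintype G] {M : Ideal AlgInt} [hMp : M.IsPrime]

local notation "C[" x "]" => (Subgroup.centralizer ({x} : Set _))

/-- The setting: an elementary abelian Sylow 2-subgroup with conjugate involutions, an odd subgroup
`W` normalized by `P` with `C(a) = (W ⊓ C(a)) P` for the involutions `a` of `P`, and `W ⊓ C(a)` of
constant order. -/
structure OneClass (P : Sylow 2 G) (W : Subgroup G) (x : G) (w : ℕ) : Prop where
  comm : IsMulCommutative P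
  sq : ∀ u ∈ (P : Subgroup G), u * u = 1
  mem : x ∈ (P : Subgroup G)
  invol : orderOf x = 2
  fuse : ∀ u ∈ (P : Subgroup G), u ≠ 1 → IsConj x u
  nrm : (P : Subgroup G) ≤ Subgroup.normalizer (W : Set G)
  odd : ¬ 2 ∣ Nat.card W
  cent : ∀ a ∈ (P : Subgroup G), a ≠ 1 → ∀ c ∈ C[a],
    ∃ k ∈ W ⊓ C[a], ∃ q ∈ (P : Subgroup G), k * q = c
  card_fix : ∀ a ∈ (P : Subgroup G), a ≠ 1 → Nat.card (W ⊓ C[a] : Subgroup G) = w

namespace OneClass

variable {P : Sylow 2 G} {W : Subgroup G} {x : G} {w : ℕ} (h : OneClass P W x w)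

include h

theorem reg (u : G) (hu : u ∈ (P : Subgroup G)) (hu1 : u ≠ 1) : Reg (P : Subgroup G) u := by
  intro n hn hnu
  haveI := h.comm
  obtain ⟨k, hk, q, hq, rfl⟩ := h.cent u hu hu1 n (mem_cent_iff.2 (conj_eq_iff.1 hnu))
  intro v hv
  -- the commutator lies in `W ⊓ P`
  have hqv : q * v = v * q :=
    (congrArg Subtype.val (h.comm.is_comm.comm ⟨q, hq⟩ ⟨v, hv⟩) : _)
  have hcP : k * q * v * (k * q)⁻¹ * v⁻¹ ∈ (P : Subgroup G) :=
    mul_mem ((Subgroup.mem_normalizer_iff.1 hn v).1 hv) (inv_mem hv)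
  have e : k * q * v * (k * q)⁻¹ * v⁻¹ = k * (v * k⁻¹ * v⁻¹) := by
    calc k * q * v * (k * q)⁻¹ * v⁻¹ = k * (q * v * q⁻¹) * k⁻¹ * v⁻¹ := by group
      _ = _ := by rw [hqv, mul_inv_cancel_right]; group
  have hcW : k * q * v * (k * q)⁻¹ * v⁻¹ ∈ W := by
    rw [e]
    exact mul_mem hk.1 ((Subgroup.mem_normalizer_iff.1 (h.nrm hv) _).1 (inv_mem hk.1))
  have h1 : k * q * v * (k * q)⁻¹ * v⁻¹ = 1 := by
    rw [← orderOf_eq_one_iff]
    refine Nat.eq_one_of_dvd_coprimes (a := 2) (b := Nat.card W)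
      ((Nat.prime_two.coprime_iff_not_dvd).2 h.odd) ?_ (Subgroup.orderOf_dvd_natCard _ hcW)
    exact orderOf_dvd_of_pow_eq_one (by rw [pow_two]; exact h.sq _ hcP)
  rw [mul_inv_eq_one, mul_inv_eq_iff_eq_mul] at h1
  exact h1.symm

/-- Every involution is conjugate to `x`. -/
theorem isConj_of_invol {i : G} (hi : orderOf i = 2) : IsConj i x := by
  haveI : Fact (Nat.Prime 2) := ⟨Nat.prime_two⟩
  obtain ⟨u, hu, hiu⟩ := H20.FreeSylow.exists_isConj_mem (P := P) (y := i) ⟨1, by rw [hi, pow_one]⟩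
  refine hiu.trans (h.fuse u hu fun h1 => ?_).symm
  rw [h1, isConj_one_left] at hiu
  rw [hiu, orderOf_one] at hi
  norm_num at hi

/-- The 2-part of an element of even order is conjugate to `x`. -/
theorem isConj_pPart {g : G} (hg : 2 ∣ orderOf g) : IsConj (H20.pPart 2 g) x := by
  haveI : Fact (Nat.Prime 2) := ⟨Nat.prime_two⟩
  obtain ⟨u, hu, hc⟩ := H20.FreeSylow.exists_isConj_mem (P := P) (H20.exists_orderOf_pPart (p := 2) g)
  refine hc.trans (h.fuse u hu fun h1 => ?_).symm
  rw [h1, isConj_one_left] at hc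
  exact (H20.pPart_eq_one_iff.1 hc) hg

open Classical in
/-- The pairs of involutions with product of even order. -/
noncomputable def pairs (_h : OneClass P W x w) : Finset (G × G) :=
  Finset.univ.filter fun ab => orderOf ab.1 = 2 ∧ orderOf ab.2 = 2 ∧ 2 ∣ orderOf (ab.1 * ab.2)

open Classical in
/-- The pairs whose product has 2-part `i`. -/
noncomputable def pairsAt (h : OneClass P W x w) (i : G) : Finset (G × G) :=
  h.pairs.filter fun ab => H20.pPart 2 (ab.1 * ab.2) = i

theorem commute_left {a b : G} (ha : a * a = 1) (hb : b * b = 1)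
    (hi : H20.pPart 2 (a * b) * H20.pPart 2 (a * b) = 1) :
    a * H20.pPart 2 (a * b) = H20.pPart 2 (a * b) * a := by
  haveI : Fact (Nat.Prime 2) := ⟨Nat.prime_two⟩
  have ha' : a⁻¹ = a := inv_eq_of_mul_eq_one_right ha
  have hb' : b⁻¹ = b := inv_eq_of_mul_eq_one_right hb
  have e : a * (a * b) * a⁻¹ = (a * b)⁻¹ := by rw [mul_inv_rev, ha', hb', ← mul_assoc, ha, one_mul]
  have h1 := H20.pPart_conj (p := 2) (a * b) a
  rw [e, H20.pPart_inv, inv_eq_of_mul_eq_one_right hi] at h1
  exact (mul_inv_eq_iff_eq_mul.1 h1.symm)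

theorem card_conjugates (K : Subgroup G) (v : G) :
    Nat.card (Set.range fun k : K => (k : G) * v * (k : G)⁻¹) * Nat.card (K ⊓ C[v] : Subgroup G) =
      Nat.card K := by
  classical
  let S := (K ⊓ C[v]).subgroupOf K
  have hS : Nat.card S = Nat.card (K ⊓ C[v] : Subgroup G) :=
    Nat.card_congr (Subgroup.subgroupOfEquivOfLe inf_le_left).toEquiv
  have hcard : Nat.card (Set.range fun k : K => (k : G) * v * (k : G)⁻¹) = Nat.card (K ⧸ S) := by
    refine (Nat.card_congr (Equiv.ofBijective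
      (fun q : K ⧸ S => (⟨((Quotient.out q : K) : G) * v * ((Quotient.out q : K) : G)⁻¹,
        _, rfl⟩ : Set.range fun k : K => (k : G) * v * (k : G)⁻¹)) ⟨?_, ?_⟩)).symm
    · intro q r hqr
      have e := congrArg Subtype.val hqr
      simp only at e
      rw [← QuotientGroup.out_eq' q, ← QuotientGroup.out_eq' r, QuotientGroup.eq,
        Subgroup.mem_subgroupOf]
      refine Subgroup.mem_inf.2
        ⟨mul_mem (inv_mem (Quotient.out q : K).2) (Quotient.out r : K).2, mem_cent_iff.2 ?_⟩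
      simp only [Subgroup.coe_mul, Subgroup.coe_inv]
      set a := ((Quotient.out q : K) : G)
      set b := ((Quotient.out r : K) : G)
      calc a⁻¹ * b * v = a⁻¹ * (b * v * b⁻¹) * b := by group
        _ = a⁻¹ * (a * v * a⁻¹) * b := by rw [e]
        _ = v * (a⁻¹ * b) := by group
    · rintro ⟨_, k, rfl⟩
      refine ⟨(k : K ⧸ S), Subtype.ext ?_⟩
      obtain ⟨s, hs⟩ := QuotientGroup.mk_out_eq_mul S k
      simp only
      rw [hs, Subgroup.coe_mul]
      have := mem_cent_iff.1 (Subgroup.mem_subgroupOf.1 s.2).2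
      calc (k : G) * (s : K) * v * ((k : G) * (s : K))⁻¹ =
            (k : G) * (((s : K) : G) * v * ((s : K) : G)⁻¹) * (k : G)⁻¹ := by group
        _ = _ := by rw [this, mul_inv_cancel_right]
  rw [hcard, ← hS, ← Subgroup.index_eq_card, Subgroup.index_mul_card]

/-- The conjugates of `v` under `W ⊓ C(x)`. -/
noncomputable def orb (_h : OneClass P W x w) (v : G) : Finset G :=
  (Set.range fun k : (W ⊓ C[x] : Subgroup G) => (k : G) * v * (k : G)⁻¹).toFinite.toFinset

theorem card_orb_mul (v : G) :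
    (h.orb v).card * Nat.card (W ⊓ C[x] ⊓ C[v] : Subgroup G) =
      Nat.card (W ⊓ C[x] : Subgroup G) := by
  rw [orb, ← Set.ncard_eq_toFinset_card, ← Nat.card_coe_set_eq, h.card_conjugates]

/-- An involution of `C(x)` is a conjugate of an involution of `P` under `W ⊓ C(x)`, congruent to
it. -/
theorem exists_orb {a : G} (ha : orderOf a = 2) (hax : a * x = x * a) :
    ∃ p ∈ (P : Subgroup G), p ≠ 1 ∧ a ∈ h.orb p := by
  classical
  haveI : Fact (Nat.Prime 2) := ⟨Nat.prime_two⟩
  haveI := h.comm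
  have hx1 : x ≠ 1 := fun e => by
    have := h.invol; rw [e, orderOf_one] at this; norm_num at this
  have hPC : (P : Subgroup G) ≤ C[x] := fun v hv => mem_cent_iff.2
    (congrArg Subtype.val (h.comm.is_comm.comm ⟨v, hv⟩ ⟨x, h.mem⟩))
  let a' : C[x] := ⟨a, mem_cent_iff.2 hax⟩
  obtain ⟨u, hu, hc⟩ := H20.FreeSylow.exists_isConj_mem (P := P.subtype hPC) (y := a')
    ⟨1, by rw [Subgroup.orderOf_mk, ha, pow_one]⟩
  obtain ⟨c, hc⟩ := _root_.isConj_iff.1 hc.symm
  obtain ⟨k, hk, q, hq, hkq⟩ := h.cent x h.mem hx1 (c : G) c.2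
  have hu' : (u : G) ∈ (P : Subgroup G) := hu
  have he : (c : G) * (u : G) * (c : G)⁻¹ = a := congrArg Subtype.val hc
  refine ⟨u, hu', fun e => ?_, ?_⟩
  · rw [e, mul_one, mul_inv_cancel] at he
    rw [← he, orderOf_one] at ha
    norm_num at ha
  · rw [orb, Set.Finite.mem_toFinset]
    refine ⟨⟨k, hk⟩, ?_⟩
    have hqu : q * (u : G) = u * q :=
      (congrArg Subtype.val (h.comm.is_comm.comm ⟨q, hq⟩ ⟨_, hu'⟩) : _)
    show k * (u : G) * k⁻¹ = a
    rw [← he, ← hkq, mul_inv_rev]
    calc k * (u : G) * k⁻¹ = k * ((u : G) * q * q⁻¹) * k⁻¹ := by group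
      _ = _ := by rw [← hqu]; group

open Classical in
theorem pairsAt_subset :
    h.pairsAt x ⊆ ((Finset.univ.filter fun p => p ∈ (P : Subgroup G) ∧ p ≠ 1 ∧ p ≠ x).biUnion
      fun p => h.orb p ×ˢ h.orb (p * x)) := by
  haveI : Fact (Nat.Prime 2) := ⟨Nat.prime_two⟩
  rintro ⟨a, b⟩ hab
  simp only [pairsAt, pairs, Finset.mem_filter, Finset.mem_univ, true_and] at hab
  obtain ⟨⟨ha, hb, -⟩, hi⟩ := hab
  have hsq : ∀ {g : G}, orderOf g = 2 → g * g = 1 := fun {g} e => by
    rw [← pow_two, ← e, pow_orderOf_eq_one]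
  have hax : a * x = x * a := by
    have := h.commute_left (hsq ha) (hsq hb) (by rw [hi]; exact h.sq x h.mem)
    rwa [hi] at this
  have hcom := (H20.commute_pPart_qPart (p := 2) (a * b))
  rw [hi] at hcom
  set r := H20.qPart 2 (a * b) with hr
  have hab' : x * r = a * b := by rw [← hi, hr, H20.pPart_mul_qPart]
  have hbx : b * x = x * b := by
    have hb' : b = a * (x * r) := by rw [hab', ← mul_assoc, hsq ha, one_mul]
    rw [hb', mul_assoc, mul_assoc, ← hcom.eq, ← mul_assoc a x (x * r), hax, mul_assoc]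
  obtain ⟨p, hp, hp1, hpa⟩ := h.exists_orb ha hax
  obtain ⟨q, hq, hq1, hqb⟩ := h.exists_orb hb hbx
  -- modulo the odd subgroup `W ⊓ C(x)`
  have hx1 : x ≠ 1 := fun e => by
    have := h.invol; rw [e, orderOf_one] at this; norm_num at this
  set K : Subgroup G := W ⊓ C[x] with hK
  have hKC : K ≤ C[x] := inf_le_right
  have hconjK : ∀ v ∈ (P : Subgroup G), ∀ k ∈ K, v * k * v⁻¹ ∈ K := fun v hv k hk =>
    Subgroup.mem_inf.2 ⟨(Subgroup.mem_normalizer_iff.1 (h.nrm hv) k).1 hk.1,
      mul_mem (mul_mem (le_cent P (hc := h.comm) h.mem hv) hk.2)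
        (inv_mem (le_cent P (hc := h.comm) h.mem hv))⟩
  obtain ⟨⟨k₁, hk₁⟩, ea⟩ := (Set.Finite.mem_toFinset _).1 hpa
  obtain ⟨⟨k₂, hk₂⟩, eb⟩ := (Set.Finite.mem_toFinset _).1 hqb
  simp only at ea eb
  have hr' : r ∈ K := by
    obtain ⟨k, hk, v, hv, hkv⟩ := h.cent x h.mem hx1 r (mem_cent_iff.2 hcom.eq.symm)
    have hodd : ¬ 2 ∣ orderOf r := H20.not_dvd_orderOf_qPart _
    suffices v = 1 by rw [← hkv, this, mul_one]; exact hk
    -- `r ^ n = k' * v` for odd `n`
    have hpow : ∀ n : ℕ, ∃ k' ∈ K, r ^ n = k' * v ^ n := by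
      intro n
      induction n with
      | zero => exact ⟨1, one_mem _, by simp⟩
      | succ n ih =>
        obtain ⟨k', hk', e⟩ := ih
        refine ⟨k' * (v ^ n * k * (v ^ n)⁻¹), mul_mem hk' (hconjK _ (pow_mem hv n) k hk), ?_⟩
        rw [pow_succ, e, ← hkv, pow_succ]
        group
    obtain ⟨k', hk', e⟩ := hpow (orderOf r)
    rw [pow_orderOf_eq_one] at e
    obtain ⟨m, hm⟩ := Nat.not_even_iff_odd.1 fun he => hodd (even_iff_two_dvd.1 he)
    rw [hm, pow_succ, pow_mul, pow_two, h.sq v hv, one_pow, one_mul] at e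
    have hvW : v ∈ W := by
      rw [eq_inv_of_mul_eq_one_right e.symm]; exact inv_mem hk'.1
    rw [← orderOf_eq_one_iff]
    exact Nat.eq_one_of_dvd_coprimes (a := 2) (b := Nat.card W)
      ((Nat.prime_two.coprime_iff_not_dvd).2 h.odd)
      (orderOf_dvd_of_pow_eq_one (by rw [pow_two]; exact h.sq v hv))
      (Subgroup.orderOf_dvd_natCard _ hvW)
  -- `p q x` lies in `K`
  have hpqx : p * q * x ∈ K := by
    have e1 : k₁ * p * k₁⁻¹ * (k₂ * q * k₂⁻¹) = (k₁ * (p * (k₁⁻¹ * k₂) * p⁻¹)) * (p * q) * k₂⁻¹ := by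
      group
    have e2 : p * q * k₂⁻¹ = (p * q * k₂⁻¹ * (p * q)⁻¹) * (p * q) := by group
    set k' := k₁ * (p * (k₁⁻¹ * k₂) * p⁻¹) * (p * q * k₂⁻¹ * (p * q)⁻¹) with hk'
    have hk'K : k' ∈ K := mul_mem (mul_mem hk₁ (hconjK p hp _ (mul_mem (inv_mem hk₁) hk₂)))
      (hconjK _ (mul_mem hp hq) _ (inv_mem hk₂))
    have e3 : a * b = k' * (p * q) := by
      rw [← ea, ← eb, e1, mul_assoc, e2, hk']
      group
    rw [← hab', hcom.eq] at e3
    have e4 : p * q * x = k'⁻¹ * r := by
      rw [eq_inv_mul_iff_mul_eq, ← mul_assoc, ← e3, mul_assoc, h.sq x h.mem, mul_one]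
    rw [e4]
    exact mul_mem (inv_mem hk'K) hr'
  have hone : p * q * x = 1 := by
    rw [← orderOf_eq_one_iff]
    exact Nat.eq_one_of_dvd_coprimes (a := 2) (b := Nat.card W)
      ((Nat.prime_two.coprime_iff_not_dvd).2 h.odd)
      (orderOf_dvd_of_pow_eq_one (by
        rw [pow_two]; exact h.sq _ (mul_mem (mul_mem hp hq) h.mem)))
      (Subgroup.orderOf_dvd_natCard _ hpqx.1)
  have hqe : q = p * x := by
    have e : q = p⁻¹ * x⁻¹ := by
      rw [eq_inv_mul_iff_mul_eq]; exact eq_inv_of_mul_eq_one_left hone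
    rwa [inv_eq_of_mul_eq_one_right (h.sq p hp),
      inv_eq_of_mul_eq_one_right (h.sq x h.mem)] at e
  simp only [Finset.mem_biUnion, Finset.mem_filter, Finset.mem_univ, true_and, Finset.mem_product]
  refine ⟨p, ⟨hp, hp1, fun hpx => hq1 ?_⟩, hpa, hqe ▸ hqb⟩
  rw [hqe, hpx, h.sq x h.mem]

theorem card_orb_pair {p : G} (hp : p ∈ (P : Subgroup G)) (hp1 : p ≠ 1) (hpx : p ≠ x) :
    (h.orb p).card * (h.orb (p * x)).card * w = Nat.card W := by
  classical
  haveI : Fact (Nat.Prime 2) := ⟨Nat.prime_two⟩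
  haveI := h.comm
  have hx1 : x ≠ 1 := fun e => by
    have := h.invol; rw [e, orderOf_one] at this; norm_num at this
  set F : Subgroup G := W ⊓ C[x] ⊓ C[p] with hF
  have hF' : W ⊓ C[x] ⊓ C[p * x] = F := by
    ext g
    simp only [hF, Subgroup.mem_inf, mem_cent_iff]
    constructor
    · rintro ⟨⟨hg, hgx⟩, hgp⟩
      refine ⟨⟨hg, hgx⟩, mul_right_cancel (b := x) ?_⟩
      rw [mul_assoc, hgp, mul_assoc p g, hgx, ← mul_assoc]
    · rintro ⟨⟨hg, hgx⟩, hgp⟩
      exact ⟨⟨hg, hgx⟩, by rw [← mul_assoc, hgp, mul_assoc, hgx, ← mul_assoc]⟩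
  have h1 := h.card_orb_mul p
  have h2 := h.card_orb_mul (p * x)
  rw [hF', h.card_fix x h.mem hx1] at h2
  rw [← hF, h.card_fix x h.mem hx1] at h1
  let B : Subgroup G := Subgroup.closure {x, p}
  have hBP : B ≤ (P : Subgroup G) :=
    (Subgroup.closure_le _).2 (by rintro g (rfl | rfl); exacts [h.mem, hp])
  have hBea : IsElementaryAbelian 2 B :=
    ⟨⟨⟨fun a b => Subtype.ext
      (congrArg Subtype.val (h.comm.is_comm.comm ⟨(a : G), hBP a.2⟩ ⟨(b : G), hBP b.2⟩) :)⟩⟩,
      fun a ha => by rw [pow_two]; exact h.sq a (hBP ha)⟩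
  have hBmem : ∀ g, g ∈ B ↔ g = 1 ∨ g = x ∨ g = p ∨ g = p * x := by
    have hxp : x * p = p * x :=
      (congrArg Subtype.val (h.comm.is_comm.comm ⟨x, h.mem⟩ ⟨p, hp⟩) : _)
    intro g
    constructor
    · intro hg
      induction hg using Subgroup.closure_induction with
      | mem y hy => rcases hy with rfl | rfl <;> simp
      | one => simp
      | mul y z _ _ hy hz =>
        have hxx := h.sq x h.mem
        have hpp := h.sq p hp
        rcases hy with e | e | e | e <;> rcases hz with f | f | f | f <;>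
          simp [e, f, hxx, hpp, hxp, ← mul_assoc, mul_assoc p x p, mul_assoc p x x]
      | inv y _ hy =>
        have hinv : ∀ v ∈ (P : Subgroup G), v⁻¹ = v := fun v hv =>
          inv_eq_of_mul_eq_one_right (h.sq v hv)
        rcases hy with e | e | e | e
        · simp [e]
        · simp [e, hinv _ h.mem]
        · simp [e, hinv _ hp]
        · simp [e, hinv _ (mul_mem hp h.mem), -mul_inv_rev]
    · have hx' : x ∈ B := Subgroup.subset_closure (by simp)
      have hp' : p ∈ B := Subgroup.subset_closure (by simp)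
      rintro (rfl | rfl | rfl | rfl)
      exacts [one_mem _, hx', hp', mul_mem hp' hx']
  have hne : p * x ≠ 1 ∧ p * x ≠ x ∧ p * x ≠ p := by
    refine ⟨fun e => hpx ?_, fun e => hp1 (mul_eq_right.1 e), fun e => hx1 (mul_eq_left.1 e)⟩
    rw [eq_inv_of_mul_eq_one_left e, inv_eq_of_mul_eq_one_right (h.sq x h.mem)]
  have hBfin : (Finset.univ.filter fun g => g ∈ B) = {1, x, p, p * x} := by
    ext g; simp [hBmem g]
  have hB4 : Nat.card B = 4 := by
    rw [Nat.card_eq_fintype_card, Fintype.card_subtype, hBfin,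
      Finset.card_insert_of_notMem, Finset.card_insert_of_notMem, Finset.card_pair hne.2.2.symm]
    · simp [Ne.symm hpx, hne.2.1.symm]
    · simp [hx1.symm, Ne.symm hp1, hne.1.symm]
  have hBN : B ≤ Subgroup.normalizer (W : Set G) := hBP.trans h.nrm
  have hof := H8.order_formula (p := 2) hBea (by rw [hB4]; norm_num) h.odd hBN
  -- the three lines
  have hline : ∀ D : {D : Subgroup G // D ≤ B ∧ Nat.card D = 2},
      Nat.card (W ⊓ Subgroup.centralizer (D.1 : Set G) : Subgroup G) = w := by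
    rintro ⟨D, hDB, hD2⟩
    obtain ⟨d, hd, hd1⟩ : ∃ d ∈ D, d ≠ 1 := by
      by_contra hcon
      push Not at hcon
      rw [show D = ⊥ from (Subgroup.eq_bot_iff_forall D).2 hcon, Subgroup.card_bot] at hD2
      norm_num at hD2
    have hDz : D = Subgroup.zpowers d := by
      refine (Subgroup.eq_of_le_of_card_ge (Subgroup.zpowers_le.2 hd) ?_).symm
      rw [hD2, Nat.card_zpowers, orderOf_eq_prime (p := 2)
        (by rw [pow_two]; exact h.sq d (hBP (hDB hd))) hd1]
    show Nat.card (W ⊓ Subgroup.centralizer (D : Set G) : Subgroup G) = w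
    rw [hDz, H17.Major.centralizer_zpowers_eq, h.card_fix d (hBP (hDB hd)) hd1]
  have h3 : Fintype.card {D : Subgroup G // D ≤ B ∧ Nat.card D = 2} = 3 := by
    have e : {b : B // b ≠ 1} ≃ {D : Subgroup G // D ≤ B ∧ Nat.card D = 2} :=
      Equiv.ofBijective (fun b => ⟨Subgroup.zpowers ((b : B) : G),
        (Subgroup.zpowers_le).2 (b : B).2, by
          rw [Nat.card_zpowers]
          exact orderOf_eq_prime (hBea.2 _ (b : B).2) fun e => b.2 (Subtype.ext e)⟩) ⟨by
        intro a b e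
        have e' : Subgroup.zpowers ((a : B) : G) = Subgroup.zpowers ((b : B) : G) :=
          congrArg Subtype.val e
        have hmem : ((a : B) : G) ∈ Subgroup.zpowers ((b : B) : G) :=
          e' ▸ Subgroup.mem_zpowers _
        obtain ⟨k, hk⟩ := Subgroup.mem_zpowers_iff.1 hmem
        have hb2 : ((b : B) : G) ^ (2 : ℤ) = 1 := by
          rw [zpow_ofNat]; exact hBea.2 _ (b : B).2
        rcases Int.even_or_odd' k with ⟨j, rfl | rfl⟩
        · rw [zpow_mul, hb2, one_zpow] at hk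
          exact absurd (Subtype.ext hk.symm) a.2
        · rw [zpow_add, zpow_mul, hb2, one_zpow, one_mul, zpow_one] at hk
          exact Subtype.ext (Subtype.ext hk.symm), by
        rintro ⟨D, hDB, hD2⟩
        obtain ⟨d, hd, hd1⟩ : ∃ d ∈ D, d ≠ 1 := by
          by_contra hcon
          push Not at hcon
          rw [show D = ⊥ from (Subgroup.eq_bot_iff_forall D).2 hcon, Subgroup.card_bot] at hD2
          norm_num at hD2
        refine ⟨⟨⟨d, hDB hd⟩, fun e => hd1 (congrArg Subtype.val e)⟩, Subtype.ext ?_⟩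
        refine Subgroup.eq_of_le_of_card_ge (Subgroup.zpowers_le.2 hd) ?_
        rw [hD2, Nat.card_zpowers]
        show 2 ≤ orderOf d
        rw [orderOf_eq_prime (p := 2) (hBea.2 d (hDB hd)) hd1]⟩
    rw [← Fintype.card_congr e, Fintype.card_subtype_compl, Fintype.card_subtype_eq,
      ← Nat.card_eq_fintype_card, hB4]
  have hFB : W ⊓ Subgroup.centralizer (B : Set G) = F := by
    ext g
    simp only [hF, Subgroup.mem_inf, mem_cent_iff]
    constructor
    · rintro ⟨hg, hgB⟩
      exact ⟨⟨hg, (hgB x ((hBmem x).2 (by simp))).symm⟩, (hgB p ((hBmem p).2 (by simp))).symm⟩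
    · rintro ⟨⟨hg, hgx⟩, hgp⟩
      refine ⟨hg, fun y hy => ?_⟩
      rcases (hBmem y).1 hy with rfl | rfl | rfl | rfl
      · simp
      · exact hgx.symm
      · exact hgp.symm
      · rw [← mul_assoc, hgp, mul_assoc, ← hgx, ← mul_assoc]
  rw [h3, hFB, Finset.prod_congr rfl (fun D _ => hline D), Finset.prod_const, Finset.card_univ,
    h3] at hof
  have hFpos : 0 < Nat.card F := Nat.card_pos
  refine Nat.eq_of_mul_eq_mul_left (pow_pos hFpos 3) ?_
  calc Nat.card F ^ 3 * ((h.orb p).card * (h.orb (p * x)).card * w) =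
        ((h.orb p).card * Nat.card F) * ((h.orb (p * x)).card * Nat.card F) * (Nat.card F * w) := by
          ring
    _ = Nat.card F * w ^ 3 := by rw [h1, h2]; ring
    _ = Nat.card F ^ 3 * Nat.card W := by rw [← hof]; ring

open Classical in
theorem card_pairsAt_mul :
    (h.pairsAt x).card * w ≤ (Nat.card (P : Subgroup G) - 2) * Nat.card W := by
  have hx1 : x ≠ 1 := fun e => by
    have := h.invol; rw [e, orderOf_one] at this; norm_num at this
  refine (Nat.mul_le_mul_right _ ((Finset.card_le_card h.pairsAt_subset).trans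
    Finset.card_biUnion_le)).trans ?_
  rw [Finset.sum_mul]
  refine (Finset.sum_le_sum (g := fun _ => Nat.card W) fun p hp => ?_).trans ?_
  · rw [Finset.card_product]
    exact (h.card_orb_pair (Finset.mem_filter.1 hp).2.1 (Finset.mem_filter.1 hp).2.2.1
      (Finset.mem_filter.1 hp).2.2.2).le
  rw [Finset.sum_const, smul_eq_mul]
  refine Nat.mul_le_mul_right _ (le_of_eq ?_)
  have e : (Finset.univ.filter fun p => p ∈ (P : Subgroup G) ∧ p ≠ 1 ∧ p ≠ x) =
      ((Finset.univ.filter fun p => p ∈ (P : Subgroup G)).erase 1).erase x := by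
    ext g; simp; tauto
  rw [e, Finset.card_erase_of_mem (Finset.mem_erase.2 ⟨hx1, by simp [h.mem]⟩),
    Finset.card_erase_of_mem (by simp), Nat.card_eq_fintype_card, Fintype.card_subtype]
  rfl

open Classical in
theorem card_pairsAt_conj {i : G} (hi : IsConj x i) : (h.pairsAt i).card = (h.pairsAt x).card := by
  obtain ⟨c, rfl⟩ := _root_.isConj_iff.1 hi
  symm
  refine Finset.card_bij (fun ab _ => (c * ab.1 * c⁻¹, c * ab.2 * c⁻¹)) ?_ ?_ ?_
  · intro ab hab
    simp only [pairsAt, pairs, Finset.mem_filter, Finset.mem_univ, true_and] at hab ⊢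
    rw [_root_.conj_mul, H20.orderOf_conj', H20.orderOf_conj', H20.orderOf_conj', H20.pPart_conj]
    exact ⟨hab.1, by rw [hab.2]⟩
  · intro a _ b _ e
    exact Prod.ext (by simpa using congrArg Prod.fst e) (by simpa using congrArg Prod.snd e)
  · intro ab hab
    refine ⟨(c⁻¹ * ab.1 * c, c⁻¹ * ab.2 * c), ?_, by simp [mul_assoc]⟩
    have e : ∀ g : G, c⁻¹ * g * c = c⁻¹ * g * c⁻¹⁻¹ := fun g => by rw [inv_inv]
    simp only [pairsAt, pairs, Finset.mem_filter, Finset.mem_univ, true_and] at hab ⊢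
    rw [e ab.1, e ab.2, _root_.conj_mul, H20.orderOf_conj', H20.orderOf_conj', H20.orderOf_conj',
      H20.pPart_conj]
    exact ⟨hab.1, by rw [hab.2]; simp [mul_assoc]⟩

open Classical in
/-- The number of pairs. -/
theorem card_pairs_le :
    h.pairs.card ≤ (Finset.univ.filter fun i => IsConj x i).card * (h.pairsAt x).card := by
  rw [Finset.card_eq_sum_card_fiberwise (f := fun ab => H20.pPart 2 (ab.1 * ab.2))
    (t := Finset.univ.filter fun i => IsConj x i) (fun ab hab => ?_)]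
  · rw [← smul_eq_mul, ← Finset.sum_const]
    exact le_of_eq (Finset.sum_congr rfl fun i hi =>
      h.card_pairsAt_conj (Finset.mem_filter.1 hi).2)
  · simp only [pairs, Finset.coe_filter, Set.mem_setOf_eq, Finset.mem_univ, true_and] at hab ⊢
    exact (h.isConj_pPart hab.2.2).symm

end OneClass

end H85.AbTwo
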