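import Cfsg.Agent.H85.AbTwo.Pairs
import Cfsg.Agent.H84.SFTMain
import Cfsg.Agent.H7.SFT.Final
import Cfsg.Agent.H16.OddOrder
import Cfsg.Agent.H65.StronglyEmbedded
import Cfsg.Agent.H67.SECount

/-!
The signalizer functor of an elementary abelian Sylow 2-subgroup all of whose involutions are
regular, and the strongly embedded subgroup it gives (helper85).
-/

set_option autoImplicit false
set_option linter.style.haveILetI false
set_option linter.unusedSectionVars false

open Cfsg Finset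

namespace H85.AbTwo

universe u

variable {G : Type u} [Group G] [Fintype G]

local notation "C[" x "]" => (Subgroup.centralizer ({x} : Set _))

/-- The odd core of a centralizer, in the group. -/
abbrev th (a : G) : Subgroup G := centralizerPPrimeCore 2 a

theorem th_le (a : G) : th a ≤ C[a] := Subgroup.map_subtype_le _

theorem th_odd (a : G) : ¬ 2 ∣ Nat.card (th a) := by
  show ¬ 2 ∣ Nat.card ↥((pPrimeCore 2 C[a]).map C[a].subtype)
  rw [Subgroup.card_map_of_injective (Subgroup.subtype_injective _)]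
  exact (Nat.prime_two.coprime_iff_not_dvd).1 (H1.card_pPrimeCore_coprime 2 C[a]).symm

variable (P : Sylow 2 G) [hc : IsMulCommutative P]

theorem th_factor {a : G} (ha : a ∈ (P : Subgroup G)) (hreg : Reg (P : Subgroup G) a) {c : G}
    (hcc : c ∈ C[a]) : ∃ k ∈ th a, ∃ q ∈ (P : Subgroup G), k * q = c := by
  haveI : Fact (Nat.Prime 2) := ⟨Nat.prime_two⟩
  obtain ⟨N, hN, hNc⟩ := (H5.hasNormalPComplement_iff_exists (P.subtype (le_cent P ha))).1
    (complement_of_reg P ha hreg)
  obtain ⟨⟨k, q⟩, hkq⟩ := hNc.2 ⟨c, hcc⟩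
  haveI := hN
  refine ⟨((k : C[a]) : G), ⟨(k : C[a]), ?_, rfl⟩, ((q : C[a]) : G), q.2,
    congrArg Subtype.val hkq⟩
  refine H1.le_pPrimeCore ?_ k.2
  have h3 : Nat.card N = (P.subtype (le_cent P ha) : Subgroup C[a]).index := by
    refine Nat.eq_of_mul_eq_mul_right
      (Nat.card_pos (α := (P.subtype (le_cent P ha) : Subgroup C[a]))) ?_
    rw [hNc.card_mul, Subgroup.index_mul_card]
  rw [h3]
  exact ((Nat.prime_two.coprime_iff_not_dvd).2 (P.subtype (le_cent P ha)).not_dvd_index).symm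

/-- Elements of odd order of the centralizer of a regular element lie in its odd core. -/
theorem mem_th {a : G} (ha : a ∈ (P : Subgroup G)) (hreg : Reg (P : Subgroup G) a) {c : G}
    (hcc : c ∈ C[a]) (hodd : ¬ 2 ∣ orderOf c) : c ∈ th a := by
  haveI : Fact (Nat.Prime 2) := ⟨Nat.prime_two⟩
  obtain ⟨k, ⟨k', hk', rfl⟩, q, hq, hkq⟩ := th_factor P ha hreg hcc
  let q' : C[a] := ⟨q, le_cent P ha hq⟩
  let c' : C[a] := ⟨c, hcc⟩
  haveI := H1.pPrimeCore_normal' 2 C[a]
  let f := QuotientGroup.mk' (pPrimeCore 2 C[a])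
  have e : f c' = f q' := by
    have e1 : c' = k' * q' := Subtype.ext hkq.symm
    rw [e1, map_mul, show f k' = 1 from (QuotientGroup.eq_one_iff k').2 hk', one_mul]
  have h1 : orderOf (f c') ∣ orderOf c := by
    rw [← Subgroup.orderOf_mk c hcc]; exact orderOf_map_dvd f c'
  obtain ⟨j, hj⟩ := orderOf_pow_mem P hq
  have h2 : orderOf (f c') ∣ 2 ^ j := by
    rw [e, ← hj, ← Subgroup.orderOf_mk q (le_cent P ha hq)]; exact orderOf_map_dvd f q'
  have h3 : orderOf (f c') = 1 := Nat.eq_one_of_dvd_coprimes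
    ((Nat.prime_two.coprime_iff_not_dvd.2 hodd).symm.pow_right j) h1 h2
  exact ⟨c', (QuotientGroup.eq_one_iff c').1 (orderOf_eq_one_iff.1 h3), rfl⟩

theorem odd_of_mem_th {a k : G} (hk : k ∈ th a) : ¬ 2 ∣ orderOf k := fun h =>
  th_odd a (h.trans (Subgroup.orderOf_dvd_natCard _ hk))

/-- The subgroup generated by the odd cores. -/
def sig : Subgroup G := ⨆ a : {a : G // a ∈ (P : Subgroup G) ∧ a ≠ 1}, th (a : G)

variable (hE : ∀ u ∈ (P : Subgroup G), u * u = 1)
  (hR : ∀ u ∈ (P : Subgroup G), u ≠ 1 → Reg (P : Subgroup G) u)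

include hR

theorem norm_th {n a : G} (hn : n ∈ Subgroup.normalizer ((P : Subgroup G) : Set G))
    (ha : a ∈ (P : Subgroup G)) (ha1 : a ≠ 1) {k : G} (hk : k ∈ th a) :
    n * k * n⁻¹ ∈ th (n * a * n⁻¹) := by
  refine mem_th P ((Subgroup.mem_normalizer_iff.1 hn a).1 ha)
    (hR _ ((Subgroup.mem_normalizer_iff.1 hn a).1 ha) fun h => ha1 (conj_eq_one_iff.1 h)) ?_ ?_
  · rw [mem_cent_iff]
    have := mem_cent_iff.1 (th_le a hk)
    calc n * k * n⁻¹ * (n * a * n⁻¹) = n * (k * a) * n⁻¹ := by group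
      _ = n * (a * k) * n⁻¹ := by rw [this]
      _ = _ := by group
  · rw [H20.orderOf_conj']; exact odd_of_mem_th hk

theorem normalizer_le_sig :
    Subgroup.normalizer ((P : Subgroup G) : Set G) ≤ Subgroup.normalizer (sig P : Set G) := by
  have key : ∀ n ∈ Subgroup.normalizer ((P : Subgroup G) : Set G), ∀ k ∈ sig P,
      n * k * n⁻¹ ∈ sig P := by
    intro n hn k hk
    have hle : sig P ≤ (sig P).comap (MulAut.conj n).toMonoidHom := by
      refine iSup_le fun a k hk => ?_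
      show n * k * n⁻¹ ∈ sig P
      exact le_iSup (fun b : {a : G // a ∈ (P : Subgroup G) ∧ a ≠ 1} => th (b : G))
        ⟨n * a * n⁻¹, (Subgroup.mem_normalizer_iff.1 hn a).1 a.2.1,
          fun h => a.2.2 (conj_eq_one_iff.1 h)⟩ (norm_th P hR hn a.2.1 a.2.2 hk)
    exact hle hk
  intro n hn
  rw [Subgroup.mem_normalizer_iff]
  refine fun k => ⟨key n hn k, fun h => ?_⟩
  have := key n⁻¹ (inv_mem hn) _ h
  simpa [mul_assoc] using this

theorem sig_spec (hea : IsElementaryAbelian 2 (P : Subgroup G))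
    (h8 : 2 ^ 3 ≤ Nat.card (P : Subgroup G)) :
    ¬ 2 ∣ Nat.card (sig P) ∧
      ∀ a ∈ (P : Subgroup G), a ≠ 1 → sig P ⊓ C[a] = th a := by
  haveI : Fact (Nat.Prime 2) := ⟨Nat.prime_two⟩
  have hθ : IsSolvableSignalizerFunctor 2 (P : Subgroup G) (fun a => th a) := by
    refine ⟨⟨fun a _ _ => th_le a, fun a _ _ => th_odd a, fun a ha ha1 b hb k hk => ?_,
      fun a ha ha1 b hb hb1 k hk => ?_⟩, fun a _ _ => H16.FT.oddOrder ?_⟩
    · have h := norm_th P hR (Subgroup.le_normalizer hb) ha ha1 hk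
      rwa [mem_cent_iff.1 (le_cent P ha hb), mul_inv_cancel_right] at h
    · exact mem_th P hb (hR b hb hb1) hk.2 (odd_of_mem_th hk.1)
    · exact Nat.not_even_iff_odd.1 fun he => th_odd a (even_iff_two_dvd.1 he)
  obtain ⟨-, h2, h3⟩ := H84.SFT.closure_of_complete hθ (fun h => by
    rw [h, Subgroup.card_bot] at h8; norm_num at h8) (H7.SFT.complete hea h8 hθ)
  exact ⟨h2, h3⟩

include hE

theorem elementary : IsElementaryAbelian 2 (P : Subgroup G) :=
  ⟨hc, fun u hu => by rw [pow_two]; exact hE u hu⟩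

theorem orderOf_two {u : G} (hu : u ∈ (P : Subgroup G)) (hu1 : u ≠ 1) : orderOf u = 2 :=
  orderOf_eq_prime (by rw [pow_two]; exact hE u hu) hu1

/-- Either the Sylow subgroup is normal, or the involutions are conjugate and their centralizers
lie in the strongly embedded subgroup generated by the normalizer and the odd cores. -/
theorem setting (hO : pPrimeCore 2 G = ⊥) (h8 : 2 ^ 3 ≤ Nat.card (P : Subgroup G)) {x : G}
    (hx : x ∈ (P : Subgroup G)) (hx2 : orderOf x = 2) :
    (P : Subgroup G).Normal ∨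
      (IsStronglyEmbedded (Subgroup.normalizer ((P : Subgroup G) : Set G) ⊔ sig P) ∧
        OneClass P (sig P) x (Nat.card (sig P ⊓ C[x] : Subgroup G))) := by
  classical
  haveI : Fact (Nat.Prime 2) := ⟨Nat.prime_two⟩
  have hx1 : x ≠ 1 := fun e => by rw [e, orderOf_one] at hx2; norm_num at hx2
  obtain ⟨hodd, hW⟩ := sig_spec P hR (elementary P hE hR) h8
  set N := Subgroup.normalizer ((P : Subgroup G) : Set G) with hN
  set H := N ⊔ sig P with hH
  by_cases htop : H = ⊤
  · left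
    have hn : (sig P).Normal := by
      rw [← Subgroup.normalizer_eq_top_iff, eq_top_iff, ← htop]
      exact sup_le (normalizer_le_sig P hR) Subgroup.le_normalizer
    have hbot : sig P = ⊥ := le_bot_iff.1 (hO ▸ H1.le_pPrimeCore
      ((Nat.prime_two.coprime_iff_not_dvd).2 hodd).symm)
    rw [hH, hbot, sup_bot_eq] at htop
    exact Subgroup.normalizer_eq_top_iff.1 htop
  right
  have hPH : (P : Subgroup G) ≤ H := Subgroup.le_normalizer.trans le_sup_left
  have heven : Even (Nat.card H) := by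
    rw [even_iff_two_dvd]
    refine dvd_trans ?_ (Subgroup.card_dvd_of_le hPH)
    have := Subgroup.orderOf_dvd_natCard _ hx
    rwa [hx2] at this
  -- involutions of `H` are conjugate into `P` inside `H`
  have hinto : ∀ t ∈ H, orderOf t = 2 →
      ∃ m ∈ H, ∃ u ∈ (P : Subgroup G), u ≠ 1 ∧ m * u * m⁻¹ = t := by
    intro t ht ht2
    obtain ⟨u, hu, hc'⟩ := H20.FreeSylow.exists_isConj_mem (P := P.subtype hPH) (y := (⟨t, ht⟩ : H))
      ⟨1, by rw [Subgroup.orderOf_mk, ht2, pow_one]⟩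
    obtain ⟨m, hm⟩ := _root_.isConj_iff.1 hc'.symm
    refine ⟨m, m.2, u, hu, fun h => ?_, congrArg Subtype.val hm⟩
    have e : (m : G) * (u : G) * (m : G)⁻¹ = t := congrArg Subtype.val hm
    rw [h, mul_one, mul_inv_cancel] at e
    rw [← e, orderOf_one] at ht2
    norm_num at ht2
  have hCH : ∀ u ∈ (P : Subgroup G), u ≠ 1 → C[u] ≤ H := by
    intro u hu hu1 c hcu
    obtain ⟨k, hk, q, hq, rfl⟩ := th_factor P hu (hR u hu hu1) hcu
    refine mul_mem (Subgroup.mem_sup_right ?_) (hPH hq)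
    exact le_iSup (fun b : {a : G // a ∈ (P : Subgroup G) ∧ a ≠ 1} => th (b : G)) ⟨u, hu, hu1⟩ hk
  have hse : IsStronglyEmbedded H := by
    refine (H65.se_iff_fusion htop heven).2 ⟨fun t ht ht2 => ?_, fun t ht s hs ht2 hs2 hts => ?_⟩
    · obtain ⟨m, hm, u, hu, hu1, rfl⟩ := hinto t ht ht2
      intro g hg
      have h1 : m⁻¹ * g * m ∈ C[u] := by
        rw [mem_cent_iff]
        have := mem_cent_iff.1 hg
        calc m⁻¹ * g * m * u = m⁻¹ * (g * (m * u * m⁻¹)) * m := by group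
          _ = m⁻¹ * ((m * u * m⁻¹) * g) * m := by rw [this]
          _ = _ := by group
      have := mul_mem (mul_mem hm (hCH u hu hu1 h1)) (inv_mem hm)
      simpa [mul_assoc] using this
    · obtain ⟨m, hm, u, hu, -, rfl⟩ := hinto t ht ht2
      obtain ⟨m', hm', v, hv, -, rfl⟩ := hinto s hs hs2
      have huv : IsConj u v :=
        ((_root_.isConj_iff.2 ⟨m, rfl⟩ : IsConj u (m * u * m⁻¹)).trans hts).trans
          (_root_.isConj_iff.2 ⟨m', rfl⟩ : IsConj v (m' * v * m'⁻¹)).symm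
      obtain ⟨n, hn, hnu⟩ := exists_norm P hu hv huv
      refine ⟨m' * n * m⁻¹, mul_mem (mul_mem hm' (Subgroup.mem_sup_left hn)) (inv_mem hm), ?_⟩
      rw [← hnu]; group
  have hfuse : ∀ u ∈ (P : Subgroup G), u ≠ 1 → IsConj x u := fun u hu hu1 =>
    H67.se_isConj hse hx2 (orderOf_two P hE hR hu hu1)
  refine ⟨hse, hc, hE, hx, hx2, hfuse, Subgroup.le_normalizer.trans (normalizer_le_sig P hR),
    hodd, fun a ha ha1 c hc' => ?_, fun a ha ha1 => ?_⟩
  · obtain ⟨k, hk, q, hq, e⟩ := th_factor P ha (hR a ha ha1) hc'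
    exact ⟨k, by rw [hW a ha ha1]; exact hk, q, hq, e⟩
  · obtain ⟨n, hn, rfl⟩ := exists_norm P hx ha (hfuse a ha ha1)
    rw [hW x hx hx1, hW _ ha ha1]
    have hmap : ∀ {n a : G}, n ∈ N → a ∈ (P : Subgroup G) → a ≠ 1 →
        (th a).map (MulAut.conj n).toMonoidHom ≤ th (n * a * n⁻¹) := by
      rintro n a hn ha ha1 _ ⟨k, hk, rfl⟩
      exact norm_th P hR hn ha ha1 hk
    apply Nat.dvd_antisymm
    · have h := Subgroup.card_dvd_of_le (hmap (inv_mem hn) ha ha1)
      rw [Subgroup.card_map_of_injective (MulAut.conj n⁻¹).injective,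
        show n⁻¹ * (n * x * n⁻¹) * n⁻¹⁻¹ = x by group] at h
      exact h
    · have h := Subgroup.card_dvd_of_le (hmap hn hx hx1)
      rwa [Subgroup.card_map_of_injective (MulAut.conj n).injective] at h

end H85.AbTwo
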